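import Groth.Agent.Lib.QcohEt15.Kernel

/-!
# Unions of submodules are colimits
-/

universe u v w

set_option backward.isDefEq.respectTransparency false

open CategoryTheory CategoryTheory.Limits AlgebraicGeometry Opposite

namespace Groth.Agent.QcohEt15

open AlgSp

variable {S : Scheme.{u}} {X : Sp S}

theorem exists_openSub_mem (E : EtOver X) (x : ↥E.obj.left.left) : ∃ O : E.obj.left.left.affineOpens,
    x ∈ Set.range (AlgSpEt14.openSubι E O.1).hom.left.left := by
  obtain ⟨V, hV, hxV, -⟩ := E.obj.left.left.isBasis_affineOpens.exists_subset_of_mem_open (Set.mem_univ x) isOpen_univ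
  obtain ⟨V, hV', rfl⟩ := hV
  exact ⟨⟨V, hV'⟩, (AlgSpEt14.range_openSubι E V).ge hxV⟩

theorem sections_ext_affine (P : ModEt X) {E : EtOver X} {p q : sectModEt P E}
    (h : ∀ (Z : EtOver X) [IsAffine Z.obj.left.left] (g : Z ⟶ E), res P g p = res P g q) : p = q := by
  refine sections_ext_family P (fun O : E.obj.left.left.affineOpens => AlgSpEt14.openSub E O.1)
    (fun O => AlgSpEt14.openSubι E O.1) (exists_openSub_mem E) fun O => ?_
  have : IsAffine (AlgSpEt14.openSub E O.1).obj.left.left := O.2
  exact h _ _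

variable {J : Type w} [Category.{v} J] {F : J ⥤ ModEt X}

theorem appₗ_comp {A B C : ModEt X} (f : A ⟶ B) (g : B ⟶ C) (E : EtOver X) (m : sectModEt A E) :
    appₗ (f ≫ g) E m = appₗ g E (appₗ f E m) := rfl

/-- A leg of a cocone. -/
def cleg (t : Cocone F) (j : J) : F.obj j ⟶ t.pt := t.ι.app j

theorem appₗ_w {t : Cocone F} {j k : J} (f : j ⟶ k) (E : EtOver X) (n : sectModEt (F.obj j) E) :
    appₗ (cleg t k) E (appₗ (F.map f) E n) = appₗ (cleg t j) E n := by
  exact congrArg (fun q : F.obj j ⟶ t.pt => appₗ q E n) (t.w f)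

/-- Two sections of a directed family of submodules with the same value give the same value in any cocone. -/
theorem appₗ_eq_of_eq {t : Cocone F} (hmono : ∀ j, Mono (cleg t j))
    (upper : ∀ j j' : J, ∃ k : J, Nonempty (j ⟶ k) ∧ Nonempty (j' ⟶ k)) (c : Cocone F) {E : EtOver X} {j j' : J}
    (n : sectModEt (F.obj j) E) (n' : sectModEt (F.obj j') E)
    (e : appₗ (cleg t j) E n = appₗ (cleg t j') E n') : appₗ (cleg c j) E n = appₗ (cleg c j') E n' := by
  obtain ⟨k, ⟨f⟩, ⟨g⟩⟩ := upper j j'
  have := hmono k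
  rw [← appₗ_w (t := c) f E n, ← appₗ_w (t := c) g E n']
  congr 1
  exact appₗ_injective (cleg t k) E (by rw [appₗ_w, appₗ_w, e])

/-- The value at `m` of the morphism induced by a cocone. -/
def IsDesc (t c : Cocone F) {E : EtOver X} (m : sectModEt t.pt E) (p : sectModEt c.pt E) : Prop :=
  ∀ (Z : EtOver X) (g : Z ⟶ E) (j : J) (n : sectModEt (F.obj j) Z),
    appₗ (cleg t j) Z n = res t.pt g m → appₗ (cleg c j) Z n = res c.pt g p

theorem isColimit_of_local (t : Cocone F) (hmono : ∀ j, Mono (cleg t j))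
    (upper : ∀ j j' : J, ∃ k : J, Nonempty (j ⟶ k) ∧ Nonempty (j' ⟶ k))
    (hloc : ∀ (E : EtOver X) [IsAffine E.obj.left.left] (m : sectModEt t.pt E),
      ∃ (j : J) (n : sectModEt (F.obj j) E), appₗ (cleg t j) E n = m) : Nonempty (IsColimit t) := by
  have key : ∀ c : Cocone F, ∃! l : t.pt ⟶ c.pt, ∀ j, cleg t j ≫ l = cleg c j := by
    intro c
    have hex : ∀ (E : EtOver X) (m : sectModEt t.pt E), ∃ p, IsDesc t c m p := by
      intro E m
      let R : Sieve E :=
        { arrows := fun Z g => ∃ (j : J) (n : sectModEt (F.obj j) Z), appₗ (cleg t j) Z n = res t.pt g m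
          downward_closed := fun {Z Z'} g ⟨j, n, hn⟩ h => ⟨j, res _ h n, by rw [appₗ_res, hn, res_comp]⟩ }
      have hR : R ∈ etTop X E := by
        refine (etTop X).superset_covering ((Sieve.generate_le_iff _ _).2 ?_) (ofArrows_mem_etTop
          (fun O : E.obj.left.left.affineOpens => AlgSpEt14.openSub E O.1) (fun O => AlgSpEt14.openSubι E O.1)
          (exists_openSub_mem E))
        rintro Z g ⟨O⟩
        have : IsAffine (AlgSpEt14.openSub E O.1).obj.left.left := O.2
        exact hloc _ _
      let x : Presieve.FamilyOfElements (c.pt.val.presheaf ⋙ CategoryTheory.forget AddCommGrpCat.{u + 1}) R.arrows :=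
        fun Z g hg => appₗ (cleg c hg.choose) Z hg.choose_spec.choose
      have hx : x.Compatible := fun Y₁ Y₂ Z g₁ g₂ f₁ f₂ h₁ h₂ e => by
        change res c.pt g₁ (appₗ (cleg c h₁.choose) Y₁ h₁.choose_spec.choose) =
          res c.pt g₂ (appₗ (cleg c h₂.choose) Y₂ h₂.choose_spec.choose)
        refine ((appₗ_res _ _ _).symm.trans ?_).trans (appₗ_res _ _ _)
        refine appₗ_eq_of_eq hmono upper c _ _ ?_
        rw [appₗ_res, appₗ_res, h₁.choose_spec.choose_spec, h₂.choose_spec.choose_spec]
        refine ((res_comp t.pt f₁ g₁ m).symm.trans ?_).trans (res_comp t.pt f₂ g₂ m)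
        rw [e]
      obtain ⟨p, hp, -⟩ := isSheaf_sections c.pt R hR x hx
      refine ⟨p, fun Z g j n hn => ?_⟩
      have hg : R g := ⟨j, n, hn⟩
      rw [show res c.pt g p = _ from hp g hg]
      exact appₗ_eq_of_eq hmono upper c _ _ (hn.trans hg.choose_spec.choose_spec.symm)
    have huniq : ∀ (E : EtOver X) (m : sectModEt t.pt E) (p q : sectModEt c.pt E),
        IsDesc t c m p → IsDesc t c m q → p = q := by
      intro E m p q hp hq
      refine sections_ext_affine c.pt fun Z _ g => ?_
      obtain ⟨j, n, hn⟩ := hloc Z (res t.pt g m)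
      rw [← hp Z g j n hn, hq Z g j n hn]
    choose d hd using hex
    have hadd : ∀ (E : EtOver X) (a b : sectModEt t.pt E), d E (a + b) = d E a + d E b := by
      intro E a b
      refine sections_ext_affine c.pt fun Z _ g => ?_
      obtain ⟨j, n, hn⟩ := hloc Z (res t.pt g a)
      obtain ⟨j', n', hn'⟩ := hloc Z (res t.pt g b)
      obtain ⟨k, ⟨f⟩, ⟨f'⟩⟩ := upper j j'
      rw [← hd E (a + b) Z g k (appₗ (F.map f) Z n + appₗ (F.map f') Z n')
        (by rw [map_add, appₗ_w, appₗ_w, hn, hn', map_add]), map_add, appₗ_w, appₗ_w, map_add,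
        hd E a Z g j n hn, hd E b Z g j' n' hn']
    have hsmul : ∀ (E : EtOver X) (r : Γo E) (a : sectModEt t.pt E), d E (r • a) = r • d E a := by
      intro E r a
      refine sections_ext_affine c.pt fun Z _ g => ?_
      obtain ⟨j, n, hn⟩ := hloc Z (res t.pt g a)
      rw [← hd E (r • a) Z g j (γ g r • n) (by rw [map_smul, hn, res_smul]), map_smul, res_smul, hd E a Z g j n hn]
    have hnat : ∀ {E E' : EtOver X} (g : E' ⟶ E) (a : sectModEt t.pt E), d E' (res t.pt g a) = res c.pt g (d E a) :=
      fun {E E'} g a => huniq _ _ _ _ (hd _ _) fun Z h j n hn => by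
        rw [← res_comp, hd E a Z (h ≫ g) j n (by rw [hn, res_comp])]
    let l : t.pt ⟶ c.pt := ⟨PresheafOfModules.homMk
      { app := fun E => AddCommGrpCat.ofHom (AddMonoidHom.mk' (fun a => d E.unop a) (hadd E.unop))
        naturality := fun {E E'} g => by ext a; exact hnat g.unop a }
      fun E r a => hsmul E.unop (ULift.down r) a⟩
    refine ⟨l, fun j => ?_, fun l' hl' => ?_⟩
    · apply SheafOfModules.hom_ext
      apply PresheafOfModules.hom_ext
      intro E
      ext n
      have h := hd E.unop (appₗ (cleg t j) E.unop n) E.unop (𝟙 _) j n (res_id t.pt _ _).symm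
      rw [res_id] at h
      exact h.symm
    · apply SheafOfModules.hom_ext
      apply PresheafOfModules.hom_ext
      intro E
      ext a
      refine huniq E.unop a _ _ (fun Z g j n hn => ?_) (hd E.unop a)
      change appₗ (cleg c j) Z n = res c.pt g (appₗ l' E.unop a)
      rw [← appₗ_res, ← hn, ← appₗ_comp, show cleg t j ≫ l' = cleg c j from hl' j]
  exact ⟨{ desc := fun c => (key c).choose
           fac := fun c j => (key c).choose_spec.1 j
           uniq := fun c l hl => (key c).choose_spec.2 l hl }⟩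

end Groth.Agent.QcohEt15
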