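import Mathlib.Algebra.Category.ModuleCat.Sheaf.Quasicoherent
import Mathlib.Algebra.Category.ModuleCat.Sheaf.Colimits
import Mathlib.Algebra.Category.ModuleCat.Presheaf.Colimits
import Mathlib.CategoryTheory.Sites.EpiMono
import Mathlib.Algebra.Category.Grp.AB
import Mathlib.CategoryTheory.Sites.Abelian
import Mathlib.Algebra.Category.ModuleCat.Presheaf.Free
import Mathlib.Algebra.Category.ModuleCat.Presheaf.Sheafification

/-!
# Sections of a free sheaf of modules are locally finite combinations of the basis
-/

universe u v₁ u₁

open CategoryTheory Limits Opposite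

namespace Groth.Agent.QcohEt15

variable {C : Type u₁} [Category.{v₁} C] {J : GrothendieckTopology C} (R : Sheaf J RingCat.{u})
  [HasSheafify J AddCommGrpCat.{u}] [J.WEqualsLocallyBijective AddCommGrpCat.{u}] (I : Type u)

/-- The presheaf of finite formal combinations. -/
noncomputable abbrev combPresheaf : PresheafOfModules.{u} R.obj :=
  PresheafOfModules.freeObj ((Functor.const Cᵒᵖ).obj I)

/-- Combinations to sections of the free sheaf. -/
noncomputable def combTo :
    combPresheaf R I ⟶ (PresheafOfModules.restrictScalars (𝟙 R.obj)).obj (SheafOfModules.free (R := R) I).val :=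
  PresheafOfModules.freeObjDesc
    { app := fun U => ↾fun i => (SheafOfModules.freeSection (R := R) i).1 U
      naturality := fun U V f => by
        ext i
        exact ((SheafOfModules.freeSection (R := R) i).2 f).symm }

/-- The basis section at an object. -/
noncomputable abbrev basisAt (U : Cᵒᵖ) (i : I) : (SheafOfModules.free (R := R) I).val.obj U :=
  (SheafOfModules.freeSection (R := R) i).1 U

theorem combTo_single (U : Cᵒᵖ) (i : I) (r : (R.obj.obj U : Type u)) :
    (combTo R I).app U (Finsupp.single i r) = r • basisAt R I U i := by
  have : (Finsupp.single i r : (combPresheaf R I).obj U) = r • (ModuleCat.freeMk (R := R.obj.obj U) i) := by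
    change Finsupp.single i r = r • (Finsupp.single i (1 : R.obj.obj U))
    rw [Finsupp.smul_single_one]
  rw [this]
  refine (((combTo R I).app U).hom.map_smul r _).trans ?_
  congr 1
  exact ModuleCat.freeDesc_apply _ _

/-- The coordinate map at `i`. -/
noncomputable def coord (i : I) : SheafOfModules.free (R := R) I ⟶ SheafOfModules.unit R :=
  open scoped Classical in
  (SheafOfModules.unit R).freeHomEquiv.symm fun j => if j = i then
    (SheafOfModules.unit R).unitHomEquiv (𝟙 (SheafOfModules.unit R))
  else (SheafOfModules.unit R).unitHomEquiv 0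

theorem coord_basisAt [DecidableEq I] (U : Cᵒᵖ) (i j : I) : (coord R I i).val.app U (basisAt R I U j) =
    if j = i then (1 : (R.obj.obj U : Type u)) else 0 := by
  have h := congrArg (fun s : (SheafOfModules.unit R).sections => s.1 U)
    (SheafOfModules.freeHomEquiv_comp_apply (𝟙 (SheafOfModules.free (R := R) I)) (coord R I i) j)
  rw [Category.id_comp] at h
  refine h.symm.trans ?_
  simp only [coord, Equiv.apply_symm_apply]
  by_cases hji : j = i
  · rw [if_pos hji, if_pos hji]; rfl
  · rw [if_neg hji, if_neg hji]; rfl

theorem coord_combTo (U : Cᵒᵖ) (i : I) (k : I →₀ (R.obj.obj U : Type u)) :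
    (coord R I i).val.app U ((combTo R I).app U k) = k i := by
  classical
  let φ : (combPresheaf R I).obj U →ₗ[R.obj.obj U] (R.obj.obj U : Type u) :=
    { toFun := fun z => (coord R I i).val.app U ((combTo R I).app U z)
      map_add' := fun a b => by rw [map_add]; exact map_add _ _ _
      map_smul' := fun a b => by
        rw [map_smul]
        exact ((coord R I i).val.app U).hom.map_smul a ((combTo R I).app U b) }
  have hφ : φ = Finsupp.lapply i := by
    refine Finsupp.lhom_ext fun j r => ?_
    change (coord R I i).val.app U ((combTo R I).app U (Finsupp.single j r)) = Finsupp.single j r i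
    rw [combTo_single]
    refine (((coord R I i).val.app U).hom.map_smul r _).trans ?_
    rw [coord_basisAt, Finsupp.single_apply]
    change r * _ = _
    split <;> simp
  exact LinearMap.congr_fun hφ k

theorem combTo_injective (U : Cᵒᵖ) : Function.Injective ((combTo R I).app U) := by
  intro a b e
  refine Finsupp.ext fun i => ?_
  have := congrArg ((coord R I i).val.app U) e
  exact (coord_combTo R I U i a).symm.trans (this.trans (coord_combTo R I U i b))

/-- An epimorphism of sheaves of modules is locally surjective. -/
theorem epi_toSheaf_map {M N : SheafOfModules.{u} R} (f : M ⟶ N) [Epi f] :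
    Epi ((SheafOfModules.toSheaf R).map f) := by
  have h : PreservesColimitsOfShape WalkingSpan (SheafOfModules.toSheaf.{u} R) :=
    { preservesColimit := fun {F} => by
        let L := PresheafOfModules.sheafification.{u} (𝟙 R.obj)
        let adj := PresheafOfModules.sheafificationAdjunction.{u} (𝟙 R.obj)
        have : PreservesColimitsOfShape WalkingSpan L :=
          adj.leftAdjoint_preservesColimits.preservesColimitsOfShape
        have : PreservesColimitsOfShape WalkingSpan (presheafToSheaf J AddCommGrpCat.{u}) :=
          (sheafificationAdjunction J AddCommGrpCat.{u}).leftAdjoint_preservesColimits.preservesColimitsOfShape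
        let G := F ⋙ SheafOfModules.forget R
        let e : F ≅ G ⋙ L := Functor.isoWhiskerLeft F (asIso adj.counit).symm
        have h := isColimitOfPreserves L (colimit.isColimit G)
        have h' := isColimitOfPreserves (PresheafOfModules.toPresheaf R.obj ⋙ presheafToSheaf J AddCommGrpCat.{u})
          (colimit.isColimit G)
        exact preservesColimit_of_preserves_colimit_cocone
          ((IsColimit.precomposeHomEquiv e _).symm h)
          (((IsColimit.precomposeHomEquiv
            (Functor.isoWhiskerRight e (SheafOfModules.toSheaf R)) _).symm h').ofIsoColimit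
              (Cocone.ext (Iso.refl _) (fun j => by rfl))) }
  have : (SheafOfModules.toSheaf.{u} R).PreservesEpimorphisms := inferInstance
  exact Functor.map_epi _ f

theorem locallySurjective_of_epi [J.HasSheafCompose (forget AddCommGrpCat.{u})]
    {M N : SheafOfModules.{u} R} (f : M ⟶ N) [Epi f] :
    Presheaf.IsLocallySurjective J ((PresheafOfModules.toPresheaf R.obj).map f.val) :=
  (Sheaf.isLocallySurjective_iff_epi' _ _).2 (epi_toSheaf_map R f)

theorem combTo_locallySurjective :
    Presheaf.IsLocallySurjective J ((PresheafOfModules.toPresheaf _).map (combTo R I)) := by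
  let η' := (PresheafOfModules.sheafificationHomEquiv (𝟙 R.obj)).symm (combTo R I)
  have hη : PresheafOfModules.sheafificationHomEquiv (𝟙 R.obj) η' = combTo R I := Equiv.apply_symm_apply _ _
  let Sh := (PresheafOfModules.sheafification (𝟙 R.obj)).obj (combPresheaf R I)
  let τ : combPresheaf R I ⟶ (PresheafOfModules.restrictScalars (𝟙 R.obj)).obj Sh.val :=
    PresheafOfModules.sheafificationHomEquiv (𝟙 R.obj) (𝟙 Sh)
  let sec : ∀ i : I, Sh.sections := fun i =>
    PresheafOfModules.sectionsMk (fun U => τ.app U (ModuleCat.freeMk i)) fun U V f => by
      refine (PresheafOfModules.naturality_apply τ f (ModuleCat.freeMk i)).symm.trans ?_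
      congr 1
      exact ModuleCat.freeDesc_apply _ _
  let s := Sh.freeHomEquiv.symm sec
  have hs : s ≫ η' = 𝟙 _ := by
    apply (SheafOfModules.free (R := R) I).freeHomEquiv.injective
    funext i
    rw [SheafOfModules.freeHomEquiv_comp_apply, Equiv.apply_symm_apply]
    refine PresheafOfModules.sections_ext _ _ fun U => ?_
    change η'.val.app U (τ.app U (ModuleCat.freeMk i)) = (SheafOfModules.freeSection (R := R) i).1 U
    have h := congrArg (fun q => PresheafOfModules.Hom.app q U (ModuleCat.freeMk i)) hη
    refine Eq.trans ?_ (h.trans (ModuleCat.freeDesc_apply _ _))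
    have h2 := PresheafOfModules.toPresheaf_map_sheafificationHomEquiv_def (𝟙 R.obj) η'
    have h3 := PresheafOfModules.toPresheaf_map_sheafificationHomEquiv_def (𝟙 R.obj) (𝟙 Sh)
    have e2 := congrArg (fun q => q.app U (ModuleCat.freeMk i)) h2
    have e3 := congrArg (fun q => q.app U (ModuleCat.freeMk i)) h3
    refine Eq.trans ?_ e2.symm
    exact congrArg (η'.val.app U) e3
  rw [← hη]
  have hsec : Presheaf.IsLocallySurjective J ((PresheafOfModules.toPresheaf R.obj).map η'.val) := by
    refine ⟨fun {U} x => ?_⟩
    convert J.top_mem U
    rw [Sieve.ext_iff]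
    intro V f
    simp only [Sieve.top_apply, iff_true]
    refine ⟨s.val.app (op V) ((SheafOfModules.free (R := R) I).val.presheaf.map f.op x), ?_⟩
    have e := congrArg (fun q => q.val.app (op V) ((SheafOfModules.free (R := R) I).val.presheaf.map f.op x)) hs
    exact e
  have := (J.W_toSheafify (combPresheaf R I).presheaf).isLocallySurjective
  exact (PresheafOfModules.toPresheaf_map_sheafificationHomEquiv_def (𝟙 R.obj) η') ▸
    @Presheaf.isLocallySurjective_comp _ _ J _ _ _ _ _ _ _ _ _ _ _ this hsec

end Groth.Agent.QcohEt15
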