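import Groth.Agent.Lib.QcohEt15.WeakAss
import Groth.Agent.Lib.AlgSpDecent.LocNoeth
import Mathlib.RingTheory.Ideal.AssociatedPrime.Finiteness
import Mathlib.RingTheory.Ideal.AssociatedPrime.Localization

/-!
# Quasi-coherent modules of finite type have finite modules of sections over affine objects
-/

universe u v

set_option backward.isDefEq.respectTransparency false

open CategoryTheory CategoryTheory.Limits AlgebraicGeometry Opposite TensorProduct

namespace Groth.Agent.QcohEt15

open AlgSp Groth.Agent.WeakAssEt15

variable {S : Scheme.{u}} {X : Sp S} {M : ModEt X}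

theorem linearCombination_res_mem_range {E Z : EtOver X} (k : Z ⟶ E) (N₀ : Submodule (Γo E) (sectModEt M E))
    {J : Type v} (v : J → sectModEt M E) (hv : ∀ j, v j ∈ N₀) (c : J →₀ Γo Z) :
    Finsupp.linearCombination (Γo Z) (fun j => res M k (v j)) c ∈ Set.range (lift k N₀.subtype) := by
  refine ⟨(Finsupp.linearCombination (Γo E) (fun j => (⟨v j, hv j⟩ : N₀))).lTensor (Tw k) (phi k J c), ?_⟩
  rw [← lift_comp]
  have h : N₀.subtype ∘ₗ Finsupp.linearCombination (Γo E) (fun j => (⟨v j, hv j⟩ : N₀)) =
      Finsupp.linearCombination (Γo E) v := Finsupp.lhom_ext fun j r => by simp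
  rw [h]
  exact lift_linearCombination k v (phi k J c) c rfl

theorem mem_submodule_of_local {E : EtOver X} [IsAffine E.obj.left.left] (hE : Good M E)
    (N₀ : Submodule (Γo E) (sectModEt M E)) (m : sectModEt M E) (R : Sieve E) (hR : R ∈ etTop X E)
    (h : ∀ ⦃Z : EtOver X⦄ [IsAffine Z.obj.left.left] (k : Z ⟶ E), R k → res M k m ∈ Set.range (lift k N₀.subtype)) :
    m ∈ N₀ := by
  have hinj : ∀ ⦃Z : EtOver X⦄ [IsAffine Z.obj.left.left] (k : Z ⟶ E), Function.Injective (lift k N₀.subtype) := by
    intro Z _ k a b e
    have := Tw.flat k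
    rw [lift_ext_id, lift_ext_id k N₀.subtype b] at e
    exact Module.Flat.lTensor_preserves_injective_linearMap N₀.subtype Subtype.val_injective ((hE k).1 e)
  obtain ⟨z, hz⟩ := mem_range_of_local (𝟙 E) N₀.subtype hinj m R hR fun Z _ k hk => by
    rw [Category.comp_id]
    exact h k hk
  rw [← hz]
  clear hz
  induction z using TensorProduct.induction_on with
  | zero => rw [map_zero]; exact zero_mem _
  | tmul a n => rw [lift_tmul, res_id]; exact N₀.smul_mem (Tw.out a) n.2
  | add x y hx hy => rw [map_add]; exact add_mem hx hy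

theorem finite_of_generators {U : EtOver X} (σ : (M.over U).GeneratingSections) [Finite σ.I] {Y : EtOver X}
    [IsAffine Y.obj.left.left] (t : Y ⟶ U) (hY : Good M Y) : Module.Finite (Γo Y) (sectModEt M Y) := by
  let N₀ := Submodule.span (Γo Y) (Set.range (gen σ t))
  have htop : N₀ = ⊤ := by
    rw [eq_top_iff]
    rintro m -
    have := combTo_locallySurjective ((OEtRing X).over U) σ.I
    have := locallySurjective_of_epi ((OEtRing X).over U) σ.π
    have hls := Presheaf.isLocallySurjective_comp ((etTop X).over U)
      ((PresheafOfModules.toPresheaf _).map (combTo ((OEtRing X).over U) σ.I))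
      ((PresheafOfModules.toPresheaf _).map σ.π.val)
    refine mem_submodule_of_local hY N₀ m _ (mem_etTop_of_over _ (hls.imageSieve_mem (U := Over.mk t) m))
      fun Z _ k hk => ?_
    obtain ⟨d, hd⟩ := exists_of_imageSieve σ.π t m k hk
    have h2 : res M k m = Finsupp.linearCombination (Γo Z) (fun j => res M k (gen σ t j)) d := by
      rw [show (fun j => res M k (gen σ t j)) = gen σ (k ≫ t) from funext fun j => gen_res σ t k j, ← π_fc σ (k ≫ t) d]
      exact hd.symm
    rw [h2]
    exact linearCombination_res_mem_range k N₀ (gen σ t) (fun j => Submodule.subset_span ⟨j, rfl⟩) d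
  exact Module.Finite.of_fg_top (htop ▸ Submodule.fg_span (Set.finite_range _))

theorem finite_of_cover {E : EtOver X} [IsAffine E.obj.left.left] (hE : Good M E) (R : Sieve E) (hR : R ∈ etTop X E)
    (h : ∀ ⦃Z : EtOver X⦄ [IsAffine Z.obj.left.left] (k : Z ⟶ E), R k → Module.Finite (Γo Z) (sectModEt M Z)) :
    Module.Finite (Γo E) (sectModEt M E) := by
  classical
  obtain ⟨κ, hκ, Y, f, hY, hRf, hcov⟩ := exists_affine_family R hR
  have key : ∀ k, ∃ (s : Finset (sectModEt M E)), ∀ x : sectModEt M (Y k),
      ∃ c : s →₀ Γo (Y k), Finsupp.linearCombination (Γo (Y k)) (fun n : s => res M (f k) n.1) c = x := by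
    intro k
    have := h (f k) (hRf k)
    obtain ⟨G, hG⟩ := Module.Finite.fg_top (R := Γo (Y k)) (M := sectModEt M (Y k))
    have hz : ∀ x : sectModEt M (Y k), ∃ T : Finset (sectModEt M E),
        x ∈ Submodule.span (Γo (Y k)) (res M (f k) '' T) := by
      intro x
      obtain ⟨z, rfl⟩ := (hE (f k)).2 x
      induction z using TensorProduct.induction_on with
      | zero => exact ⟨∅, by rw [map_zero]; exact zero_mem _⟩
      | tmul a n =>
        exact ⟨{n}, by rw [lift_tmul]; exact Submodule.smul_mem _ _ (Submodule.subset_span ⟨n, by simp, rfl⟩)⟩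
      | add u v hu hv =>
        obtain ⟨T₁, h₁⟩ := hu
        obtain ⟨T₂, h₂⟩ := hv
        exact ⟨T₁ ∪ T₂, by
          rw [map_add]
          exact add_mem (Submodule.span_mono (Set.image_mono (by simp)) h₁)
            (Submodule.span_mono (Set.image_mono (by simp)) h₂)⟩
    choose T hT using hz
    refine ⟨G.biUnion T, fun x => ?_⟩
    have hx : x ∈ Submodule.span (Γo (Y k)) (Set.range fun n : (G.biUnion T : Finset _) => res M (f k) n.1) := by
      have : (⊤ : Submodule (Γo (Y k)) _) ≤
          Submodule.span (Γo (Y k)) (Set.range fun n : (G.biUnion T : Finset _) => res M (f k) n.1) := by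
        rw [← hG, Submodule.span_le]
        intro g hg
        refine Submodule.span_mono ?_ (hT g)
        rintro _ ⟨n, hn, rfl⟩
        exact ⟨⟨n, Finset.mem_biUnion.2 ⟨g, hg, hn⟩⟩, rfl⟩
      exact this trivial
    exact (Finsupp.mem_span_range_iff_exists_finsupp).1 hx |>.imp fun c hc => by
      rw [Finsupp.linearCombination_apply]; exact hc
  choose s hs using key
  have := Fintype.ofFinite κ
  let N₀ := Submodule.span (Γo E) ((Finset.univ.biUnion s : Finset _) : Set (sectModEt M E))
  have htop : N₀ = ⊤ := by
    rw [eq_top_iff]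
    rintro m -
    refine mem_submodule_of_local hE N₀ m (Sieve.generate (Presieve.ofArrows Y f)) (ofArrows_mem_etTop Y f hcov)
      fun Z _ g hg => ?_
    obtain ⟨W, a, b, ⟨j⟩, rfl⟩ := hg
    obtain ⟨c, hc⟩ := hs j (res M (f j) m)
    rw [res_comp, ← hc, Finsupp.linearCombination_apply, map_finsuppSum]
    have h2 : (c.sum fun n r => res M a (r • res M (f j) n.1)) =
        Finsupp.linearCombination (Γo Z) (fun n : s j => res M (a ≫ f j) n.1) (c.mapRange (γ a) (map_zero _)) := by
      rw [Finsupp.linearCombination_apply, Finsupp.sum_mapRange_index (by simp)]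
      exact Finsupp.sum_congr fun n _ => by rw [res_smul, res_comp]
    rw [h2]
    exact linearCombination_res_mem_range _ N₀ (fun n : s j => n.1)
      (fun n => Submodule.subset_span (Finset.mem_biUnion.2 ⟨j, Finset.mem_univ _, n.2⟩)) _
  exact Module.Finite.of_fg_top (htop ▸ Submodule.fg_span (Finset.finite_toSet _))

theorem finite_sections_of_isFiniteType [M.IsQuasicoherent] [hM : M.IsFiniteType] (E : EtOver X)
    [IsAffine E.obj.left.left] : Module.Finite (Γo E) (sectModEt M E) := by
  obtain ⟨q, hq⟩ := hM.exists_localGeneratorsData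
  refine finite_of_cover (good_of_isQuasicoherent E) _ (q.coversTop E) fun Z _ k hk => ?_
  obtain ⟨i, ⟨t⟩⟩ := (Sieve.mem_ofObjects_iff ..).1 hk
  have := (hq.isFiniteType i).finite
  exact finite_of_generators (q.generators i) t (good_of_isQuasicoherent Z)

theorem isNoetherianRing_Γo (hX : IsLocNoethSp X) (E : EtOver X) [IsAffine E.obj.left.left] :
    IsNoetherianRing (Γo E) := by
  have := AlgSpDecent.isLocallyNoetherian_of_etale_chart hX E.property
  exact IsLocallyNoetherian.component_noetherian ⟨⊤, isAffineOpen_top _⟩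

theorem finite_setOf_isWeakAssOn [M.IsQuasicoherent] [M.IsFiniteType] (hX : IsLocNoethSp X) (E : EtOver X)
    [IsAffine E.obj.left.left] : {u | IsWeakAssOn M E u}.Finite := by
  have := finite_sections_of_isFiniteType (M := M) E
  have := isNoetherianRing_Γo hX E
  refine Set.Finite.of_finite_image ((associatedPrimes.finite (Γo E) (sectModEt M E)).subset ?_)
    (primeAtPt_injective (U := E.obj.left.left)).injOn
  rintro _ ⟨u, hu, rfl⟩
  obtain ⟨m, hm⟩ := (isWeakAssOn_iff E u).1 hu
  have := Module.Finite.iff_fg.2 (Submodule.fg_span (R := Γo E) (Set.finite_singleton m))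
  refine associatedPrimes.subset_of_injective (f := (Submodule.span (Γo E) {m}).subtype) Subtype.val_injective
    (Module.associatedPrimes.minimalPrimes_annihilator_subset_associatedPrimes (Γo E) (Submodule.span (Γo E) {m}) ?_)
  exact hm

end Groth.Agent.QcohEt15
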