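import Groth.Agent.Lib.QcohEt15.Present
import Groth.Agent.Lib.QcohEt15.Finite

/-!
# Kernels and cokernels of quasi-coherent modules
-/

universe u v

set_option backward.isDefEq.respectTransparency false

open CategoryTheory CategoryTheory.Limits AlgebraicGeometry Opposite TensorProduct

namespace Groth.Agent.QcohEt15

open AlgSp

variable {S : Scheme.{u}} {X : Sp S} {M N : ModEt X}

/-- A morphism on sections. -/
noncomputable def appₗ (φ : M ⟶ N) (E : EtOver X) : sectModEt M E →ₗ[Γo E] sectModEt N E :=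
  { toFun := fun m => φ.val.app (op E) m
    map_add' := fun a b => map_add _ a b
    map_smul' := fun r m => hom_smul φ r m }

theorem appₗ_res (φ : M ⟶ N) {E E' : EtOver X} (g : E' ⟶ E) (m : sectModEt M E) :
    appₗ φ E' (res M g m) = res N g (appₗ φ E m) :=
  res_hom φ g m

theorem lift_appₗ (φ : M ⟶ N) {E E' : EtOver X} (g : E' ⟶ E) {P : Type v} [AddCommGroup P] [Module (Γo E) P]
    (ψ : P →ₗ[Γo E] sectModEt M E) (z : Tw g ⊗[Γo E] P) :
    appₗ φ E' (lift g ψ z) = lift g (appₗ φ E ∘ₗ ψ) z := by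
  induction z using TensorProduct.induction_on with
  | zero => simp
  | tmul a n => rw [lift_tmul, lift_tmul, map_smul, appₗ_res]; rfl
  | add x y hx hy => simp only [map_add, hx, hy]

theorem lift_appₗ_id (φ : M ⟶ N) {E E' : EtOver X} (g : E' ⟶ E) (z : Tw g ⊗[Γo E] sectModEt M E) :
    appₗ φ E' (lift g LinearMap.id z) = lift g LinearMap.id ((appₗ φ E).lTensor (Tw g) z) := by
  rw [lift_appₗ, LinearMap.comp_id, lift_ext_id]

theorem appₗ_injective (φ : M ⟶ N) [Mono φ] (E : EtOver X) : Function.Injective (appₗ φ E) := by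
  let G := SheafOfModules.forget (OEtRing X) ⋙ PresheafOfModules.evaluation _ (op E)
  exact (ModuleCat.mono_iff_injective (G.map φ)).1 inferInstance

theorem exists_local_lift (φ : M ⟶ N) [Epi φ] {E : EtOver X} (n : sectModEt N E) :
    ∃ R ∈ etTop X E, ∀ ⦃Z : EtOver X⦄ (k : Z ⟶ E), R k → ∃ m, appₗ φ Z m = res N k n :=
  ⟨_, (locallySurjective_of_epi (OEtRing X) φ).imageSieve_mem n, fun _ _ hk => hk⟩

theorem appₗ_mem_range_lift (φ : M ⟶ N) {E Z : EtOver X} [IsAffine Z.obj.left.left] (hM : Good M E) (k : Z ⟶ E)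
    (m : sectModEt M Z) : appₗ φ Z m ∈ Set.range (lift k (LinearMap.range (appₗ φ E)).subtype) := by
  obtain ⟨z, rfl⟩ := (hM k).2 m
  refine ⟨(appₗ φ E).rangeRestrict.lTensor (Tw k) z, ?_⟩
  rw [← lift_comp, lift_appₗ, LinearMap.comp_id]
  rfl

/-- An epimorphism of quasi-coherent modules is surjective on sections over affine objects. -/
theorem appₗ_surjective_of_epi (φ : M ⟶ N) [Epi φ] {E : EtOver X} [IsAffine E.obj.left.left] (hM : Good M E)
    (hN : Good N E) : Function.Surjective (appₗ φ E) := by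
  intro n
  obtain ⟨R, hR, h⟩ := exists_local_lift φ n
  refine mem_submodule_of_local hN (LinearMap.range (appₗ φ E)) n R hR fun Z _ k hk => ?_
  obtain ⟨m, hm⟩ := h k hk
  exact hm ▸ appₗ_mem_range_lift φ hM k m

theorem exists_kernel_sect (φ : M ⟶ N) {E : EtOver X} (m : sectModEt M E) (hm : appₗ φ E m = 0) :
    ∃ w, appₗ (kernel.ι φ) E w = m := by
  let G := SheafOfModules.forget (OEtRing X) ⋙ PresheafOfModules.evaluation _ (op E)
  let hl := KernelFork.mapIsLimit _ (kernelIsKernel φ) G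
  let τ : ModuleCat.of ((OEtRing X).obj.obj (op E)) ((OEtRing X).obj.obj (op E)) ⟶ G.obj M :=
    ModuleCat.ofHom (LinearMap.toSpanSingleton _ _ m)
  have hτ : τ ≫ G.map φ = 0 := ModuleCat.hom_ext (LinearMap.ext_ring (by
    change φ.val.app (op E) ((1 : (OEtRing X).obj.obj (op E)) • m) = 0
    rw [one_smul]
    exact hm))
  obtain ⟨l, hl'⟩ := KernelFork.IsLimit.lift' hl τ hτ
  refine ⟨l.hom 1, ?_⟩
  refine (congrArg (fun q => q.hom (1 : (OEtRing X).obj.obj (op E))) hl').trans ?_
  exact one_smul _ m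

theorem appₗ_comp_zero {P : ModEt X} (f : M ⟶ N) (g : N ⟶ P) (h : f ≫ g = 0) {E : EtOver X} (m : sectModEt M E) :
    appₗ g E (appₗ f E m) = 0 :=
  congrArg (fun q => q.val.app (op E) m) h

theorem exact_kernel (φ : M ⟶ N) (E : EtOver X) : Function.Exact (appₗ (kernel.ι φ) E) (appₗ φ E) := fun m =>
  ⟨exists_kernel_sect φ m, fun ⟨w, hw⟩ => hw ▸ appₗ_comp_zero _ _ (kernel.condition φ) w⟩

/-- Kernels of quasi-coherent modules are compatible with base change. -/
theorem good_kernel (φ : M ⟶ N) {E : EtOver X} [IsAffine E.obj.left.left] (hM : Good M E) (hN : Good N E) :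
    Good (kernel φ) E := by
  intro E' _ g
  have := Tw.flat g
  have hinj : Function.Injective ((appₗ (kernel.ι φ) E).lTensor (Tw g)) :=
    Module.Flat.lTensor_preserves_injective_linearMap _ (appₗ_injective _ E)
  refine ⟨fun a b e => hinj ((hM g).1 ?_), fun w => ?_⟩
  · rw [← lift_appₗ_id, ← lift_appₗ_id, e]
  · obtain ⟨z, hz⟩ := (hM g).2 (appₗ (kernel.ι φ) E' w)
    have h0 : (appₗ φ E).lTensor (Tw g) z = 0 := (hN g).1 (by
      rw [← lift_appₗ_id, hz, map_zero]
      exact appₗ_comp_zero _ _ (kernel.condition φ) w)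
    obtain ⟨y, rfl⟩ := (Module.Flat.lTensor_exact (Tw g) (exact_kernel φ E) z).1 h0
    refine ⟨y, appₗ_injective (kernel.ι φ) E' ?_⟩
    rw [lift_appₗ_id, hz]

/-- Sections of a cokernel killed on affine objects come from the source. -/
theorem ker_cokernel_π_le (φ : M ⟶ N) {E : EtOver X} [IsAffine E.obj.left.left] (hM : Good M E) (hN : Good N E)
    (n : sectModEt N E) (hn : appₗ (cokernel.π φ) E n = 0) : n ∈ LinearMap.range (appₗ φ E) := by
  obtain ⟨w, hw⟩ := exists_kernel_sect (cokernel.π φ) n hn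
  have : Epi (Abelian.factorThruImage φ) := inferInstance
  obtain ⟨R, hR, h⟩ := exists_local_lift (Abelian.factorThruImage φ) w
  refine mem_submodule_of_local hN _ n R hR fun Z _ k hk => ?_
  obtain ⟨m, hm⟩ := h k hk
  have h1 : appₗ φ Z m = res N k n := by
    rw [← hw, ← appₗ_res, ← hm]
    exact (congrArg (fun q : M ⟶ N => q.val.app (op Z) m) (Abelian.image.fac φ)).symm
  exact h1 ▸ appₗ_mem_range_lift φ hM k m

theorem cokernel_sections (φ : M ⟶ N) {E : EtOver X} [IsAffine E.obj.left.left]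
    (hM : ∀ (Z : EtOver X) [IsAffine Z.obj.left.left], Good M Z)
    (hN : ∀ (Z : EtOver X) [IsAffine Z.obj.left.left], Good N Z) :
    Good (cokernel φ) E ∧ Function.Surjective (appₗ (cokernel.π φ) E) := by
  let I := LinearMap.range (appₗ φ E)
  have hle : I ≤ (appₗ (cokernel.π φ) E).ker := by
    rintro _ ⟨m, rfl⟩
    exact appₗ_comp_zero _ _ (cokernel.condition φ) m
  let ψ : sectModEt N E ⧸ I →ₗ[Γo E] sectModEt (cokernel φ) E := I.liftQ (appₗ (cokernel.π φ) E) hle
  have hψ : ∀ ⦃Z : EtOver X⦄ (k : Z ⟶ E) (z : Tw k ⊗[Γo E] sectModEt N E),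
      lift k ψ (I.mkQ.lTensor (Tw k) z) = appₗ (cokernel.π φ) Z (lift k LinearMap.id z) := fun Z k z => by
    rw [← lift_comp, lift_appₗ, Submodule.liftQ_mkQ, LinearMap.comp_id]
  have hinj : ∀ ⦃Z : EtOver X⦄ [IsAffine Z.obj.left.left] (k : Z ⟶ E), Function.Injective (lift k ψ) := by
    intro Z _ k
    rw [injective_iff_map_eq_zero]
    intro w hw
    obtain ⟨z, rfl⟩ := LinearMap.lTensor_surjective (Tw k) I.mkQ_surjective w
    rw [hψ] at hw
    obtain ⟨m, hm⟩ := ker_cokernel_π_le φ (hM Z) (hN Z) _ hw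
    obtain ⟨y, rfl⟩ := (hM E k).2 m
    rw [lift_appₗ_id] at hm
    rw [← (hN E k).1 hm, ← LinearMap.lTensor_comp_apply, show I.mkQ ∘ₗ appₗ φ E = 0 from
      LinearMap.ext fun a => (Submodule.Quotient.mk_eq_zero _).2 ⟨a, rfl⟩, LinearMap.lTensor_zero]
    rfl
  have hsurj : ∀ ⦃Z : EtOver X⦄ [IsAffine Z.obj.left.left] (k : Z ⟶ E), Function.Surjective (lift k ψ) := by
    intro Z _ k c
    obtain ⟨R, hR, h⟩ := exists_local_lift (cokernel.π φ) c
    refine mem_range_of_local k ψ hinj c R hR fun W _ l hl => ?_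
    obtain ⟨n, hn⟩ := h l hl
    obtain ⟨z, rfl⟩ := (hN E (l ≫ k)).2 n
    exact ⟨_, (hψ (l ≫ k) z).trans hn⟩
  have hiso : Function.Bijective ψ := by
    refine ⟨?_, fun c => ?_⟩
    · rw [injective_iff_map_eq_zero]
      intro a ha
      obtain ⟨n, rfl⟩ := I.mkQ_surjective a
      exact (Submodule.Quotient.mk_eq_zero _).2 (ker_cokernel_π_le φ (hM E) (hN E) n ha)
    · obtain ⟨z, rfl⟩ := hsurj (𝟙 E) c
      induction z using TensorProduct.induction_on with
      | zero => exact ⟨0, by simp⟩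
      | tmul a n => exact ⟨Tw.out a • n, by rw [lift_tmul, res_id, map_smul]⟩
      | add u v hu hv =>
        obtain ⟨a, ha⟩ := hu
        obtain ⟨b, hb⟩ := hv
        exact ⟨a + b, by rw [map_add, map_add, ha, hb]⟩
  refine ⟨fun Z _ k => ?_, fun c => ?_⟩
  · have h : Function.Bijective (lift k (LinearMap.id : sectModEt (cokernel φ) E →ₗ[Γo E] _) ∘ ψ.lTensor (Tw k)) := by
      rw [show lift k (LinearMap.id : sectModEt (cokernel φ) E →ₗ[Γo E] _) ∘ ψ.lTensor (Tw k) = lift k ψ from
        funext fun z => (lift_ext_id k ψ z).symm]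
      exact ⟨hinj k, hsurj k⟩
    exact (Function.Bijective.of_comp_iff _ (LinearEquiv.lTensor (Tw k) (LinearEquiv.ofBijective ψ hiso)).bijective).1 h
  · obtain ⟨a, rfl⟩ := hiso.2 c
    obtain ⟨n, rfl⟩ := I.mkQ_surjective a
    exact ⟨n, rfl⟩

/-! ### Finite presentation over locally Noetherian spaces -/

theorem isFinitePresentation_of_finite (hX : IsLocNoethSp X)
    (hgood : ∀ (E : EtOver X) [IsAffine E.obj.left.left], Good M E)
    (hfin : ∀ (E : EtOver X) [IsAffine E.obj.left.left], Module.Finite (Γo E) (sectModEt M E)) :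
    M.IsFinitePresentation := by
  let Ob := {E : EtOver X // IsAffine E.obj.left.left}
  have hP : ∀ E : Ob, ∃ P : (M.over E.1).Presentation, P.IsFinite := fun E => by
    have : IsAffine E.1.obj.left.left := E.2
    have := hfin E.1
    have := isNoetherianRing_Γo hX E.1
    obtain ⟨n, x, hx⟩ := Module.Finite.exists_fin (R := Γo E.1) (M := sectModEt M E.1)
    let x' : ULift.{u + 1} (Fin n) → sectModEt M E.1 := fun j => x j.down
    have hx' : Submodule.span (Γo E.1) (Set.range x') = ⊤ := by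
      rw [← hx]
      congr 1
      exact (Equiv.ulift.surjective).range_comp x
    obtain ⟨m, r, hr⟩ := Submodule.fg_iff_exists_fin_generating_family.1
      (IsNoetherian.noetherian (Finsupp.linearCombination (Γo E.1) x').ker)
    let r' : ULift.{u + 1} (Fin m) → (ULift.{u + 1} (Fin n) →₀ Γo E.1) := fun j => r j.down
    have hr' : Submodule.span (Γo E.1) (Set.range r') = (Finsupp.linearCombination (Γo E.1) x').ker := by
      rw [← hr]
      congr 1
      exact (Equiv.ulift.surjective).range_comp r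
    obtain ⟨P, h₁, h₂⟩ := exists_presentation_of_good (hgood E.1) x' hx' r' hr'
    have hJ : P.generators.IsFiniteType := ⟨by rw [h₁]; infer_instance⟩
    have hK : P.relations.IsFiniteType := ⟨by rw [h₂]; infer_instance⟩
    exact ⟨P, ⟨hJ, hK⟩⟩
  choose P hPf using hP
  have hc : (etTop X).CoversTop (fun E : Ob => E.1) := fun W => by
    refine (etTop X).superset_covering ?_ (ofArrows_mem_etTop
      (fun O : W.obj.left.left.affineOpens => AlgSpEt14.openSub W O.1) (fun O => AlgSpEt14.openSubι W O.1) fun x => ?_)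
    · rw [Sieve.generate_le_iff]
      rintro Z k ⟨O⟩
      exact (Sieve.mem_ofObjects_iff ..).2 ⟨(⟨AlgSpEt14.openSub W O.1, O.2⟩ : Ob), ⟨𝟙 _⟩⟩
    · obtain ⟨V, hV, hxV, -⟩ := W.obj.left.left.isBasis_affineOpens.exists_subset_of_mem_open (Set.mem_univ x) isOpen_univ
      obtain ⟨V, hV', rfl⟩ := hV
      exact ⟨⟨V, hV'⟩, (AlgSpEt14.range_openSubι W V).ge hxV⟩
  let q := SheafOfModules.QuasicoherentData.mk (M := M) Ob (fun E : Ob => E.1) hc P
  have hf : q.shrink.IsFinitePresentation := { isFinite_presentation := fun i => hPf i.2.choose }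
  exact @SheafOfModules.IsFinitePresentation.mk _ _ _ _ _ _ M (Exists.intro q.shrink hf)

theorem finite_of_isFinitePresentation [M.IsFinitePresentation] (E : EtOver X) [IsAffine E.obj.left.left] :
    Module.Finite (Γo E) (sectModEt M E) :=
  finite_sections_of_isFiniteType E

theorem finite_of_mono (φ : N ⟶ M) [Mono φ] (hX : IsLocNoethSp X) (E : EtOver X) [IsAffine E.obj.left.left]
    [Module.Finite (Γo E) (sectModEt M E)] : Module.Finite (Γo E) (sectModEt N E) := by
  have := isNoetherianRing_Γo hX E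
  exact Module.Finite.of_injective (appₗ φ E) (appₗ_injective φ E)

end Groth.Agent.QcohEt15
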