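import Groth.Agent.Lib.QcohEt15.H1
import Groth.Agent.Lib.QcohEt15.LocColim
import Mathlib.Algebra.Category.ModuleCat.Presheaf.Submodule

/-!
# Coproducts and colimits of quasi-coherent modules
-/

universe u v w

set_option backward.isDefEq.respectTransparency false

open CategoryTheory CategoryTheory.Limits AlgebraicGeometry Opposite TensorProduct

namespace Groth.Agent.QcohEt15

open AlgSp

variable {S : Scheme.{u}} {X : Sp S} {M : ModEt X}

/-- The structure sheaf side condition for a family of submodules. -/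
def IsLocalSub (P : M.val.Submodule) : Prop :=
  ∀ (E : EtOver X) (s : sectModEt M E) (R : Sieve E), R ∈ etTop X E →
    (∀ ⦃Y : EtOver X⦄ (g : Y ⟶ E), R g → (res M g s) ∈ P.obj (op Y)) → s ∈ P.obj (op E)

theorem isSheaf_sub (P : M.val.Submodule) (h : IsLocalSub P) :
    Presheaf.IsSheaf (etTop X) P.toPresheafOfModules.presheaf := by
  rw [Presheaf.isSheaf_iff_isSheaf_comp (etTop X) P.toPresheafOfModules.presheaf
    (CategoryTheory.forget AddCommGrpCat.{u + 1}), isSheaf_iff_isSheaf_of_type]
  intro E R hR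
  have hM := isSheaf_sections M R hR
  intro x hx
  let y : Presieve.FamilyOfElements (M.val.presheaf ⋙ CategoryTheory.forget AddCommGrpCat.{u + 1}) R.arrows :=
    fun Y g hg => (x g hg).1
  have hy : y.Compatible := fun Y₁ Y₂ Z g₁ g₂ f₁ f₂ h₁ h₂ e => congrArg Subtype.val (hx g₁ g₂ h₁ h₂ e)
  obtain ⟨s, hs, hu⟩ := hM y hy
  have hmem : (show sectModEt M E from s) ∈ P.obj (op E) := h E s R hR fun Y g hg => by
    rw [show res M g s = (x g hg).1 from hs g hg]
    exact (x g hg).2
  exact ⟨⟨s, hmem⟩, fun Y g hg => Subtype.ext (hs g hg),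
    fun s' hs' => Subtype.ext (hu s'.1 fun Y g hg => congrArg Subtype.val (hs' g hg))⟩

/-- A local family of submodules as a module. -/
noncomputable def subMod (P : M.val.Submodule) (h : IsLocalSub P) : ModEt X where
  val := P.toPresheafOfModules
  isSheaf := isSheaf_sub P h

/-- Its inclusion. -/
noncomputable def subι (P : M.val.Submodule) (h : IsLocalSub P) : subMod P h ⟶ M := ⟨P.ι⟩

/-- A section with values in the family, as a section of the submodule. -/
noncomputable def toSub (P : M.val.Submodule) (h : IsLocalSub P) {G : ModEt X} (φ : G ⟶ M)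
    (hφ : ∀ (E : EtOver X) (s : sectModEt G E), appₗ φ E s ∈ P.obj (op E)) : G ⟶ subMod P h where
  val := PresheafOfModules.homMk
    { app := fun E => AddCommGrpCat.ofHom (AddMonoidHom.mk' (fun s : sectModEt G E.unop => (⟨appₗ φ E.unop s, hφ E.unop s⟩ : ↥(P.obj E)))
        fun a b => Subtype.ext (map_add (appₗ φ E.unop) a b))
      naturality := fun {E E'} g => by
        ext s
        exact Subtype.ext (appₗ_res φ g.unop s) }
    fun E r s => Subtype.ext ((φ.val.app E).hom.map_smul r s)

theorem toSub_ι (P : M.val.Submodule) (h : IsLocalSub P) {G : ModEt X} (φ : G ⟶ M)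
    (hφ : ∀ (E : EtOver X) (s : sectModEt G E), appₗ φ E s ∈ P.obj (op E)) : toSub P h φ hφ ≫ subι P h = φ := by
  apply SheafOfModules.hom_ext
  apply PresheafOfModules.hom_ext
  intro E
  ext s
  rfl

section Coprod

variable {I : Type w} [HasCoproductsOfShape I (ModEt X)] (D : I → ModEt X)

open Classical in
/-- The projection of a coproduct to a summand. -/
noncomputable def coprodπ (i : I) : ∐ D ⟶ D i :=
  Sigma.desc fun j => if h : j = i then eqToHom (by rw [h]) else 0

theorem ι_coprodπ_self (i : I) : Sigma.ι D i ≫ coprodπ D i = 𝟙 _ := by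
  rw [coprodπ, Sigma.ι_desc, dif_pos rfl]
  rfl

theorem ι_coprodπ_ne {i j : I} (h : j ≠ i) : Sigma.ι D j ≫ coprodπ D i = 0 := by
  rw [coprodπ, Sigma.ι_desc, dif_neg h]

/-- The projector to finitely many summands. -/
noncomputable def proj (F : Finset I) (E : EtOver X) : sectModEt (∐ D) E →ₗ[Γo E] sectModEt (∐ D) E :=
  ∑ i ∈ F, appₗ (Sigma.ι D i) E ∘ₗ appₗ (coprodπ D i) E

theorem proj_apply (F : Finset I) (E : EtOver X) (m : sectModEt (∐ D) E) :
    proj D F E m = ∑ i ∈ F, appₗ (Sigma.ι D i) E (appₗ (coprodπ D i) E m) := by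
  rw [proj, LinearMap.sum_apply]
  rfl

theorem res_proj (F : Finset I) {E E' : EtOver X} (g : E' ⟶ E) (m : sectModEt (∐ D) E) :
    res (∐ D) g (proj D F E m) = proj D F E' (res (∐ D) g m) := by
  rw [proj_apply, proj_apply, map_sum]
  exact Finset.sum_congr rfl fun i _ => by rw [← appₗ_res, ← appₗ_res]

theorem π_proj (F : Finset I) (E : EtOver X) (m : sectModEt (∐ D) E) (i : I) (hi : i ∈ F) :
    appₗ (coprodπ D i) E (proj D F E m) = appₗ (coprodπ D i) E m := by
  rw [proj_apply, map_sum, Finset.sum_eq_single i]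
  · rw [← appₗ_comp, ι_coprodπ_self]
    rfl
  · intro j _ hj
    rw [← appₗ_comp, ι_coprodπ_ne D hj]
    rfl
  · exact fun h => absurd hi h

theorem π_eq_zero (F : Finset I) (E : EtOver X) (m : sectModEt (∐ D) E) (h : proj D F E m = m) (i : I)
    (hi : i ∉ F) : appₗ (coprodπ D i) E m = 0 := by
  rw [← h, proj_apply, map_sum]
  refine Finset.sum_eq_zero fun j hj => ?_
  rw [← appₗ_comp, ι_coprodπ_ne D (fun e => hi (by rw [← e]; exact hj))]
  rfl

theorem proj_mono {F F' : Finset I} (hF : F ⊆ F') (E : EtOver X) (m : sectModEt (∐ D) E) (h : proj D F E m = m) :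
    proj D F' E m = m := by
  refine Eq.trans ?_ h
  rw [proj_apply, proj_apply]
  refine (Finset.sum_subset hF fun i _ hi => ?_).symm
  rw [π_eq_zero D F E m h i hi, map_zero]

/-- The sections supported on finitely many summands on each affine object. -/
noncomputable def finSupp : (∐ D).val.Submodule where
  obj E :=
    { carrier := {m | ∀ ⦃W : EtOver X⦄ [IsAffine W.obj.left.left] (k : W ⟶ E.unop),
        ∃ F : Finset I, proj D F W (res (∐ D) k m) = res (∐ D) k m}
      add_mem' := fun {a b} ha hb W _ k => by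
        classical
        obtain ⟨F, hF⟩ := ha k
        obtain ⟨F', hF'⟩ := hb k
        refine ⟨F ∪ F', ?_⟩
        rw [map_add, map_add, proj_mono D Finset.subset_union_left W _ hF,
          proj_mono D Finset.subset_union_right W _ hF']
      zero_mem' := fun W _ k => ⟨∅, by rw [map_zero, map_zero]⟩
      smul_mem' := fun r a ha W _ k => by
        obtain ⟨F, hF⟩ := ha k
        refine ⟨F, ?_⟩
        let r' : Γo E.unop := ULift.down r
        change proj D F W (res (∐ D) k (r' • (show sectModEt (∐ D) E.unop from a))) =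
          res (∐ D) k (r' • (show sectModEt (∐ D) E.unop from a))
        rw [res_smul, map_smul, hF] }
  map {E E'} g := fun m hm W _ k => by
    change ∃ F : Finset I, proj D F W (res (∐ D) k (res (∐ D) g.unop m)) = res (∐ D) k (res (∐ D) g.unop m)
    rw [← res_comp]
    exact hm (k ≫ g.unop)

theorem isLocalSub_finSupp : IsLocalSub (finSupp D) := by
  classical
  intro E s R hR h W _ k
  obtain ⟨κ, hκ, Y, g, hY, hg, hc⟩ := exists_affine_family (R.pullback k) ((etTop X).pullback_stable k hR)
  have := Fintype.ofFinite κ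
  have key : ∀ i, ∃ F : Finset I, proj D F (Y i) (res (∐ D) (g i ≫ k) s) = res (∐ D) (g i ≫ k) s := fun i => by
    have := hY i
    obtain ⟨F, hF⟩ := h (g i ≫ k) (hg i) (𝟙 (Y i))
    refine ⟨F, ?_⟩
    change proj D F (Y i) (res (∐ D) (𝟙 _) (res (∐ D) (g i ≫ k) s)) =
      res (∐ D) (𝟙 _) (res (∐ D) (g i ≫ k) s) at hF
    rwa [res_id] at hF
  choose F hF using key
  refine ⟨Finset.univ.biUnion F, sections_ext_family _ Y g hc fun i => ?_⟩
  rw [res_proj, ← res_comp]
  exact proj_mono D (Finset.subset_biUnion_of_mem F (Finset.mem_univ i)) _ _ (hF i)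

theorem exists_finset {W : EtOver X} [IsAffine W.obj.left.left] (m : sectModEt (∐ D) W) :
    ∃ F : Finset I, proj D F W m = m := by
  have hι : ∀ (j : I) (E : EtOver X) (x : sectModEt (D j) E), appₗ (Sigma.ι D j) E x ∈ (finSupp D).obj (op E) :=
    fun j E x Z _ k => ⟨{j}, by
      change proj D {j} Z (res _ k (appₗ (Sigma.ι D j) E x)) = res _ k (appₗ (Sigma.ι D j) E x)
      rw [← appₗ_res, proj_apply, Finset.sum_singleton, ← appₗ_comp (Sigma.ι D j) (coprodπ D j), ι_coprodπ_self]
      rfl⟩
  let l : ∐ D ⟶ subMod (finSupp D) (isLocalSub_finSupp D) :=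
    Sigma.desc fun j => toSub _ (isLocalSub_finSupp D) (Sigma.ι D j) (hι j)
  have hl : l ≫ subι (finSupp D) (isLocalSub_finSupp D) = 𝟙 _ := Sigma.hom_ext _ _ fun j => by
    rw [← Category.assoc, Sigma.ι_desc, toSub_ι, Category.comp_id]
  have hmem := (show ↥((finSupp D).obj (op W)) from appₗ l W m).2
  have he : ((show ↥((finSupp D).obj (op W)) from appₗ l W m).1 : sectModEt (∐ D) W) = m :=
    congrArg (fun q => appₗ q W m) hl
  rw [he] at hmem
  obtain ⟨F, hF⟩ := hmem (𝟙 W)
  refine ⟨F, ?_⟩
  change proj D F W (res (∐ D) (𝟙 W) m) = res (∐ D) (𝟙 W) m at hF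
  rwa [res_id] at hF

theorem good_coprod {E : EtOver X} [IsAffine E.obj.left.left] (h : ∀ i, Good (D i) E) : Good (∐ D) E := by
  classical
  intro E' _ g
  refine ⟨?_, fun m => ?_⟩
  · rw [injective_iff_map_eq_zero]
    intro z hz
    have key : ∀ z : Tw g ⊗[Γo E] sectModEt (∐ D) E, ∃ F : Finset I, z = (proj D F E).lTensor (Tw g) z := by
      intro z
      induction z using TensorProduct.induction_on with
      | zero => exact ⟨∅, by simp⟩
      | tmul c x =>
        obtain ⟨F, hF⟩ := exists_finset D x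
        exact ⟨F, by rw [LinearMap.lTensor_tmul, hF]⟩
      | add x y hx hy =>
        obtain ⟨F, hF⟩ := hx
        obtain ⟨F', hF'⟩ := hy
        have hm : ∀ (A B : Finset I), A ⊆ B → ∀ w : Tw g ⊗[Γo E] sectModEt (∐ D) E,
            w = (proj D A E).lTensor (Tw g) w → w = (proj D B E).lTensor (Tw g) w := fun A B hAB w hw => by
          rw [hw, ← LinearMap.lTensor_comp_apply]
          congr 2
          refine LinearMap.ext fun v => (proj_mono D hAB E (proj D A E v) ?_).symm
          rw [proj_apply D A E (proj D A E v)]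
          conv_rhs => rw [proj_apply]
          exact Finset.sum_congr rfl fun i hi => by rw [π_proj D A E v i hi]
        exact ⟨F ∪ F', by
          rw [map_add, ← hm F _ Finset.subset_union_left x hF, ← hm F' _ Finset.subset_union_right y hF']⟩
    obtain ⟨F, hF⟩ := key z
    rw [hF]
    have : (proj D F E).lTensor (Tw g) z = ∑ i ∈ F, (appₗ (Sigma.ι D i) E).lTensor (Tw g)
        ((appₗ (coprodπ D i) E).lTensor (Tw g) z) := by
      clear hF hz
      induction z using TensorProduct.induction_on with
      | zero => simp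
      | tmul c x => simp only [LinearMap.lTensor_tmul, proj_apply, TensorProduct.tmul_sum]
      | add x y hx hy =>
        simp only [map_add, Finset.sum_add_distrib, hx, hy]
    rw [this]
    refine Finset.sum_eq_zero fun i _ => ?_
    rw [show (appₗ (coprodπ D i) E).lTensor (Tw g) z = 0 from (h i g).1 (by
      rw [map_zero, ← lift_appₗ_id, hz, map_zero]), map_zero]
  · obtain ⟨F, hF⟩ := exists_finset D m
    choose z hz using fun i => (h i g).2 (appₗ (coprodπ D i) E' m)
    refine ⟨∑ i ∈ F, (appₗ (Sigma.ι D i) E).lTensor (Tw g) (z i), ?_⟩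
    rw [map_sum, ← hF, proj_apply]
    exact Finset.sum_congr rfl fun i _ => by rw [← lift_appₗ_id, hz, ← hF]

end Coprod

section Colim

variable {J : Type u} [SmallCategory J] (D : J ⥤ ModEt X) [HasColimit D]

theorem good_colimit (h : ∀ (j : J) (E : EtOver X) [IsAffine E.obj.left.left], Good (D.obj j) E) (E : EtOver X)
    [IsAffine E.obj.left.left] [HasCoproductsOfShape J (ModEt X)]
    [HasCoproductsOfShape (Σ p : J × J, p.1 ⟶ p.2) (ModEt X)] : Good (colimit D) E := by
  let d : (∐ fun r : Σ p : J × J, p.1 ⟶ p.2 => D.obj r.1.1) ⟶ ∐ D.obj :=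
    Sigma.desc fun r => D.map r.2 ≫ Sigma.ι D.obj r.1.2 - Sigma.ι D.obj r.1.1
  let c : Cocone D :=
    { pt := cokernel d
      ι := { app := fun j => Sigma.ι D.obj j ≫ cokernel.π d
             naturality := fun i j f => by
               change D.map f ≫ Sigma.ι D.obj j ≫ cokernel.π d = (Sigma.ι D.obj i ≫ cokernel.π d) ≫ 𝟙 _
               rw [Category.comp_id, ← Category.assoc, ← sub_eq_zero, ← Preadditive.sub_comp]
               have : D.map f ≫ Sigma.ι D.obj j - Sigma.ι D.obj i =
                   Sigma.ι (fun r : Σ p : J × J, p.1 ⟶ p.2 => D.obj r.1.1) ⟨(i, j), f⟩ ≫ d :=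
                 (Sigma.ι_desc (fun r : Σ p : J × J, p.1 ⟶ p.2 => D.map r.2 ≫ Sigma.ι D.obj r.1.2 - Sigma.ι D.obj r.1.1)
                   ⟨(i, j), f⟩).symm
               rw [this, Category.assoc, cokernel.condition, comp_zero] } }
  let b : cokernel d ⟶ colimit D := cokernel.desc d (Sigma.desc (colimit.ι D)) (Sigma.hom_ext _ _ fun r => by
    rw [← Category.assoc, Sigma.ι_desc, Preadditive.sub_comp, Category.assoc, Sigma.ι_desc, Sigma.ι_desc,
      colimit.w, sub_self, comp_zero])
  let a : colimit D ⟶ cokernel d := colimit.desc D c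
  have hba : b ≫ a = 𝟙 _ := coequalizer.hom_ext (Sigma.hom_ext _ _ fun j => by
    rw [Category.comp_id, ← Category.assoc (cokernel.π d), cokernel.π_desc, ← Category.assoc, Sigma.ι_desc,
      colimit.ι_desc])
  have hab : a ≫ b = 𝟙 _ := colimit.hom_ext fun j => by
    rw [Category.comp_id, ← Category.assoc, colimit.ι_desc, Category.assoc, cokernel.π_desc, Sigma.ι_desc]
  have hg : ∀ (Z : EtOver X) [IsAffine Z.obj.left.left], Good (cokernel d) Z := fun Z _ =>
    (cokernel_sections d (E := Z) (fun W _ => good_coprod _ fun r => h _ W) (fun W _ => good_coprod _ fun j => h j W)).1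
  have : (cokernel d).IsQuasicoherent := isQuasicoherent_of_good hg
  have : (colimit D).IsQuasicoherent :=
    (SheafOfModules.isQuasicoherent (OEtRing X)).prop_of_iso ⟨b, a, hba, hab⟩ this
  exact good_of_isQuasicoherent E

end Colim

end Groth.Agent.QcohEt15
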