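import Groth.Agent.Lib.QcohEt15.Sub2
import Groth.Agent.Lib.QcohEt15.Coprod

/-!
# Sections supported in a closed set of points
-/

universe u v

set_option backward.isDefEq.respectTransparency false

open CategoryTheory CategoryTheory.Limits AlgebraicGeometry Opposite TensorProduct

namespace Groth.Agent.QcohEt15

open AlgSp Groth.Agent.AlgSpEt Groth.Agent.AlgSpace

variable {S : Scheme.{u}} {X : Sp S}

theorem ofPt_map {E W : EtOver X} (k : W ⟶ E) (w : ↥W.obj.left.left) :
    Points.ofPt W.obj.hom w = Points.ofPt E.obj.hom (k.hom.left.left w) := by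
  rw [← EtOver.w k, AlgSpDecent.ofPt_map_comp]

/-- The preimage of the complement of a closed set of points in an object of the site. -/
noncomputable def offOpen {Z : Set (Points X)} (hZ : IsClosed Z) (E : EtOver X) : E.obj.left.left.Opens :=
  ⟨Points.ofPt E.obj.hom ⁻¹' Zᶜ, Points.isOpen_iff.1 hZ.isOpen_compl _ _⟩

theorem mem_offOpen {Z : Set (Points X)} (hZ : IsClosed Z) (E : EtOver X) (x : ↥E.obj.left.left) :
    x ∈ offOpen hZ E ↔ Points.ofPt E.obj.hom x ∉ Z := Iff.rfl

theorem exists_cover_offOpen (hX : IsLocNoethSp X) {Z : Set (Points X)} (hZ : IsClosed Z) (E : EtOver X)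
    [IsAffine E.obj.left.left] :
    ∃ (κ : Type u) (_ : Finite κ) (V : κ → EtOver X) (_ : ∀ i, IsAffine (V i).obj.left.left) (ι : ∀ i, V i ⟶ E),
      (∀ i v, Points.ofPt (V i).obj.hom v ∉ Z) ∧
        ∀ x, Points.ofPt E.obj.hom x ∉ Z → ∃ i, x ∈ Set.range (ι i).hom.left.left := by
  have := isNoetherianRing_Γo hX E
  have : TopologicalSpace.NoetherianSpace ↥E.obj.left.left :=
    (Scheme.homeoOfIso E.obj.left.left.isoSpec).isInducing.noetherianSpace
  let O := offOpen hZ E
  obtain ⟨T, hT⟩ := (TopologicalSpace.NoetherianSpace.isCompact (O : Set ↥E.obj.left.left)).elim_finite_subcover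
    (fun V : {V : E.obj.left.left.affineOpens // V.1 ≤ O} => (V.1.1 : Set ↥E.obj.left.left))
    (fun V => V.1.1.isOpen) fun x hx => by
      obtain ⟨V, hV, hxV, hVO⟩ := E.obj.left.left.isBasis_affineOpens.exists_subset_of_mem_open hx O.isOpen
      obtain ⟨V, hV', rfl⟩ := hV
      exact Set.mem_iUnion.2 ⟨⟨⟨V, hV'⟩, hVO⟩, hxV⟩
  refine ⟨T, inferInstance, fun i => AlgSpEt14.openSub E i.1.1.1, fun i => i.1.1.2,
    fun i => AlgSpEt14.openSubι E i.1.1.1, fun i v => ?_, fun x hx => ?_⟩
  · rw [AlgSpEt14.ofPt_openSub]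
    exact i.1.2 ((AlgSpEt14.range_openSubι E i.1.1.1).le ⟨v, rfl⟩)
  · obtain ⟨V, hV, hxV⟩ := Set.mem_iUnion₂.1 (hT (show x ∈ (O : Set ↥E.obj.left.left) from hx))
    exact ⟨⟨V, hV⟩, (AlgSpEt14.range_openSubι E V.1.1).ge hxV⟩

/-- The family of sections vanishing away from a set of points. -/
noncomputable def suppIn (M : ModEt X) (Z : Set (Points X)) : M.val.Submodule where
  obj E :=
    { carrier := {s : sectModEt M E.unop | ∀ ⦃W : EtOver X⦄ (k : W ⟶ E.unop),
        (∀ w, Points.ofPt W.obj.hom w ∉ Z) → res M k s = 0}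
      add_mem' := fun {a b} ha hb W k hk => by rw [map_add, ha k hk, hb k hk, add_zero]
      zero_mem' := fun W k _ => map_zero _
      smul_mem' := fun r {a} ha W k hk => by
        refine (res_smul M k (ULift.down r) a).trans ?_
        rw [ha k hk, smul_zero] }
  map {E E'} g := fun s hs W k hk => by
    change res M k (res M g.unop s) = 0
    rw [← res_comp]
    exact hs (k ≫ g.unop) hk

theorem mem_suppIn {M : ModEt X} {Z : Set (Points X)} {E : EtOver X} (s : sectModEt M E) :
    s ∈ (suppIn M Z).obj (op E) ↔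
      ∀ ⦃W : EtOver X⦄ (k : W ⟶ E), (∀ w, Points.ofPt W.obj.hom w ∉ Z) → res M k s = 0 := Iff.rfl

theorem isLocalSub_suppIn (M : ModEt X) (Z : Set (Points X)) : IsLocalSub (suppIn M Z) := by
  intro E s R hR h W k hk
  refine (isSheaf_sections M _ ((etTop X).pullback_stable k hR)).isSeparatedFor.ext fun Y l hl => ?_
  have h1 := h (l ≫ k) hl (𝟙 Y) fun y => by rw [ofPt_map l]; exact hk _
  rw [res_id, res_comp] at h1
  exact h1.trans (map_zero (res M l)).symm

/-- The submodule of sections supported in `Z`. -/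
noncomputable def suppMod (M : ModEt X) (Z : Set (Points X)) : ModEt X :=
  subMod (suppIn M Z) (isLocalSub_suppIn M Z)

/-- Its inclusion. -/
noncomputable def suppι (M : ModEt X) (Z : Set (Points X)) : suppMod M Z ⟶ M :=
  subι (suppIn M Z) (isLocalSub_suppIn M Z)

instance (M : ModEt X) (Z : Set (Points X)) : Mono (suppι M Z) := by
  have : Mono ((SheafOfModules.forget (OEtRing X)).map (suppι M Z)) := inferInstanceAs (Mono (suppIn M Z).ι)
  exact (SheafOfModules.forget (OEtRing X)).mono_of_mono_map this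

variable {M : ModEt X} {Z : Set (Points X)}

theorem good_suppMod (hA : IsAlgSpace X) (hX : IsLocNoethSp X) (hZ : IsClosed Z) {E : EtOver X}
    [IsAffine E.obj.left.left] (hE : Good M E) : Good (suppMod M Z) E := by
  intro E' _ g
  have := Tw.flat g
  have hinj : Function.Injective ((appₗ (suppι M Z) E).lTensor (Tw g)) :=
    Module.Flat.lTensor_preserves_injective_linearMap _ (appₗ_injective _ E)
  refine ⟨fun a b e => hinj ((hE g).1 ?_), fun w => ?_⟩
  · rw [← lift_appₗ_id, ← lift_appₗ_id, e]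
  obtain ⟨z, hz⟩ := (hE g).2 (appₗ (suppι M Z) E' w)
  obtain ⟨κ, hκ, V, hV, ι, hVZ, hcov⟩ := exists_cover_offOpen hX hZ E
  let f : ∀ i, sectModEt M E →ₗ[Γo E] Push M (ι i) := fun i => resP₀ M (ι i)
  have hK : ∀ s ∈ ⨅ i, (f i).ker, s ∈ (suppIn M Z).obj (op E) := fun s hs W k hk => by
    obtain ⟨Z₀, hZ₀, -⟩ := exists_zero_open hA ((toAbEt X).obj M) E s
    refine (hZ₀ W k).2 ?_
    rintro _ ⟨w, rfl⟩
    obtain ⟨i, hi⟩ := hcov _ (ofPt_map k w ▸ hk w)
    have h1 : f i s = 0 := LinearMap.mem_ker.1 ((Submodule.mem_iInf _).1 hs i)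
    have h0 : res M (ι i) s = 0 := h1
    exact (hZ₀ (V i) (ι i)).1 h0 hi
  have h0 : ∀ i, (f i).lTensor (Tw g) z = 0 := fun i => by
    have := hV i
    refine (squareMap_bijective g (ι i) ((hE (ι i) |> fun h1 => BC.cancel h1 (hE _)))).1 ?_
    rw [map_zero, squareMap_resP₀, hz]
    exact w.2 (EtOver.pullbackFst g (ι i)) fun q => by
      rw [ofPt_map (EtOver.pullbackSnd g (ι i))]
      exact hVZ i _
  obtain ⟨y, hy⟩ := mem_range_lTensor_iInf_ker f z h0
  let j : (⨅ i, (f i).ker : Submodule _ _) →ₗ[Γo E] sectModEt (suppMod M Z) E :=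
    { toFun := fun s => ⟨s.1, hK s.1 s.2⟩
      map_add' := fun a b => appₗ_injective (suppι M Z) E (by rw [map_add]; rfl)
      map_smul' := fun r a => appₗ_injective (suppι M Z) E (by rw [RingHom.id_apply, map_smul]; rfl) }
  refine ⟨j.lTensor (Tw g) y, appₗ_injective (suppι M Z) E' ?_⟩
  rw [lift_appₗ_id, ← LinearMap.lTensor_comp_apply,
    show appₗ (suppι M Z) E ∘ₗ j = (⨅ i, (f i).ker).subtype from LinearMap.ext fun _ => rfl, hy, hz]

theorem isFinitePresentation_suppMod (hA : IsAlgSpace X) (hX : IsLocNoethSp X) (hZ : IsClosed Z)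
    [M.IsFinitePresentation] : (suppMod M Z).IsFinitePresentation ∧ (cokernel (suppι M Z)).IsFinitePresentation := by
  have hM : ∀ (E : EtOver X) [IsAffine E.obj.left.left], Good M E := fun E _ => good_of_isQuasicoherent E
  have hG : ∀ (E : EtOver X) [IsAffine E.obj.left.left], Good (suppMod M Z) E := fun E _ =>
    good_suppMod hA hX hZ (hM E)
  refine ⟨isFinitePresentation_of_finite hX hG fun E _ => ?_, isFinitePresentation_of_finite hX
    (fun E _ => (cokernel_sections (suppι M Z) hG hM).1) fun E _ => ?_⟩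
  · have := finite_of_isFinitePresentation (M := M) E
    exact finite_of_mono (suppι M Z) hX E
  · have := finite_of_isFinitePresentation (M := M) E
    exact Module.Finite.of_surjective _ (cokernel_sections (E := E) (suppι M Z) hG hM).2

theorem isZero_stalk_suppMod (hA : IsAlgSpace X) (hZ : IsClosed Z) (p : FieldPt X) (hp : p.IsGeometric)
    (hpZ : Points.mk p ∉ Z) : IsZero (stalkEt p ((toAbEt X).obj (suppMod M Z))) := by
  have h : ∀ z : ↥(stalkEt p ((toAbEt X).obj (suppMod M Z))), z = 0 := fun z => by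
    obtain ⟨⟨E, l⟩, s, rfl⟩ := exists_stalkEtι_eq hA p hp ((toAbEt X).obj (suppMod M Z)) z
    refine (stalkEtι_eq_zero_iff hA p hp _ ⟨E, l⟩ s).2
      ⟨AlgSpEt14.openSub E (offOpen hZ E), AlgSpEt14.openSubι E (offOpen hZ E), ?_, ?_⟩
    · apply appₗ_injective (suppι M Z)
      refine (s.2 (AlgSpEt14.openSubι E (offOpen hZ E)) fun v => ?_).trans (map_zero _).symm
      rw [ofPt_map (AlgSpEt14.openSubι E (offOpen hZ E))]
      exact (AlgSpEt14.range_openSubι E (offOpen hZ E)).le ⟨v, rfl⟩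
    · exact (AlgSpEt14.range_openSubι E (offOpen hZ E)).ge
        (show Points.ofPt E.obj.hom (liftPt p l) ∉ Z by rw [ofPt_liftPt]; exact hpZ)
  have : Subsingleton ↥(stalkEt p ((toAbEt X).obj (suppMod M Z))) := ⟨fun a b => (h a).trans (h b).symm⟩
  exact AddCommGrpCat.isZero_of_subsingleton _

theorem isZero_stalk_coker_suppι (hA : IsAlgSpace X) {Z' : Set (Points X)} (hZ : IsClosed Z)
    (hsupp : ∀ x : FieldPt X, x.IsGeometric → Points.mk x ∉ Z → Points.mk x ∉ Z' →
      IsZero (stalkEt x ((toAbEt X).obj M))) (p : FieldPt X) (hp : p.IsGeometric) (hpZ : Points.mk p ∉ Z) :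
    IsZero (stalkEt p ((toAbEt X).obj (cokernel (suppι M Z')))) := by
  refine isZero_stalk_cokernel hA _ p hp ((AddCommGrpCat.epi_iff_surjective _).2 fun z => ?_)
  obtain ⟨⟨E, l⟩, s, rfl⟩ := exists_stalkEtι_eq hA p hp ((toAbEt X).obj M) z
  let V := AlgSpEt14.openSub E (offOpen hZ E)
  let ι : V ⟶ E := AlgSpEt14.openSubι E (offOpen hZ E)
  have hmem : res M ι s ∈ (suppIn M Z').obj (op V) := fun W k hk => by
    have hdis : ∀ w, Points.ofPt W.obj.hom w ∉ Z := fun w => by
      rw [ofPt_map (k ≫ ι)]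
      exact (AlgSpEt14.range_openSubι E (offOpen hZ E)).le ⟨k.hom.left.left w, rfl⟩
    refine section_ext_of_stalks hA ((toAbEt X).obj M) fun q hq m => ?_
    have h1 : IsZero (stalkEt q ((toAbEt X).obj M)) :=
      hsupp q hq (ofPt_liftPt q m ▸ hdis _) (ofPt_liftPt q m ▸ hk _)
    have := AddCommGrpCat.subsingleton_of_isZero h1
    exact Subsingleton.elim _ _
  have hpt : liftPt p l ∈ Set.range ι.hom.left.left := (AlgSpEt14.range_openSubι E (offOpen hZ E)).ge
    (show Points.ofPt E.obj.hom (liftPt p l) ∉ Z by rw [ofPt_liftPt]; exact hpZ)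
  obtain ⟨y, hy⟩ := hpt
  obtain ⟨l', hl', -⟩ := exists_lift_map p hp ι l y hy
  refine ⟨(stalkEtι p ((toAbEt X).obj (suppMod M Z')) ⟨V, l'⟩).hom ⟨res M ι s, hmem⟩, ?_⟩
  have e := GrothendieckTopology.Point.toPresheafFiber_naturality (etPoint hA p hp)
    ((toAbEt X).map (suppι M Z')).hom V l'
  refine (ConcreteCategory.congr_hom e _).trans ?_
  exact ConcreteCategory.congr_hom (colimit.w (stalkEtDiagram p ((toAbEt X).obj M))
    (CategoryOfElements.homMk (F := FieldPt.liftsTo p) ⟨V, l'⟩ ⟨E, l⟩ ι hl').op) s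

end Groth.Agent.QcohEt15
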