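import Groth.Agent.Lib.QcohEt15.PushInj

/-!
# Cohomology and direct images along affine morphisms
-/

universe u

set_option backward.isDefEq.respectTransparency false
set_option backward.isDefEq.respectTransparency.types false

open CategoryTheory CategoryTheory.Limits AlgebraicGeometry Opposite Abelian

namespace Groth.Agent.QcohEt15

open AlgSp Groth.Agent.AlgSpEt

variable {S : Scheme.{u}} {X Y : Sp S} {f : X ⟶ Y} (hf : Representable f)

/-- The constant presheaf of integers. -/
noncomputable abbrev cP (X : Sp S) : (EtOver X)ᵒᵖ ⥤ AddCommGrpCat.{u + 1} :=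
  (Functor.const _).obj (AddCommGrpCat.of (ULift.{u + 1} ℤ))

/-- The constant sheaf of integers. -/
noncomputable abbrev cS (X : Sp S) : AbEt X :=
  (constantSheaf (etTop X) AddCommGrpCat.{u + 1}).obj (AddCommGrpCat.of (ULift.{u + 1} ℤ))

theorem exists_bc_nhd (hY : IsAlgSpace Y) (E : EtOver X) (x : ↥E.obj.left.left) :
    ∃ (V : EtOver Y) (Z : EtOver X) (a : Z ⟶ E) (_ : Z ⟶ EtOver.bcObj hf V), x ∈ Set.range a.hom.left.left := by
  obtain ⟨p, hp, l, hl⟩ := exists_geometric_lift E x
  obtain ⟨V, ⟨m⟩⟩ := exists_chart_lift hY (p.map f) (show (p.map f).IsGeometric from hp)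
  obtain ⟨l', h₁, -⟩ := exists_lift_prod p l ((liftsBcEquiv hf p V).hom m)
  exact ⟨V, EtOver.prodObj E (EtOver.bcObj hf V), EtOver.prodFst _ _, EtOver.prodSnd _ _, liftPt p l', by
    rw [← liftPt_map, h₁, hl]⟩

theorem exists_bc_join {W : EtOver X} {V V' : EtOver Y} (b : W ⟶ EtOver.bcObj hf V) (b' : W ⟶ EtOver.bcObj hf V') :
    ∃ (P : EtOver Y) (p : P ⟶ V) (p' : P ⟶ V') (m : W ⟶ EtOver.bcObj hf P),
      m ≫ EtOver.bcMap hf p = b ∧ m ≫ EtOver.bcMap hf p' = b' := by
  let g := b.hom.left ≫ EtOver.bcπ hf V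
  let g' := b'.hom.left ≫ EtOver.bcπ hf V'
  have hg : (yon S).map g ≫ V.obj.hom = W.obj.hom ≫ f := by
    rw [Functor.map_comp, Category.assoc, ← (EtOver.isPullback_bcObj hf V).w, ← Category.assoc, EtOver.w b]
  have hg' : (yon S).map g' ≫ V'.obj.hom = W.obj.hom ≫ f := by
    rw [Functor.map_comp, Category.assoc, ← (EtOver.isPullback_bcObj hf V').w, ← Category.assoc, EtOver.w b']
  let P := EtOver.prodObj V V'
  have sqP : IsPullback ((yon S).map (V'.property.1.fst' V.obj.hom)) ((yon S).map (V'.property.1.snd V.obj.hom))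
      V'.obj.hom V.obj.hom := by
    rw [Functor.relativelyRepresentable.map_fst']
    exact V'.property.1.isPullback V.obj.hom
  obtain ⟨c, hc₁, hc₂⟩ : ∃ c : W.obj.left ⟶ P.obj.left,
      c ≫ (EtOver.prodFst V V').hom.left = g ∧ c ≫ (EtOver.prodSnd V V').hom.left = g' :=
    ⟨(yon S).preimage (sqP.lift ((yon S).map g') ((yon S).map g) (hg'.trans hg.symm)),
      (yon S).map_injective (by rw [Functor.map_comp, Functor.map_preimage]; exact sqP.lift_snd _ _ _),
      (yon S).map_injective (by rw [Functor.map_comp, Functor.map_preimage]; exact sqP.lift_fst _ _ _)⟩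
  have hP : W.obj.hom ≫ f = (yon S).map c ≫ P.obj.hom := by
    rw [← hg, ← hc₁, Functor.map_comp, Category.assoc, EtOver.w (EtOver.prodFst V V')]
  let m : W ⟶ EtOver.bcObj hf P :=
    EtOver.homMk ((yon S).preimage ((EtOver.isPullback_bcObj hf P).lift W.obj.hom ((yon S).map c) hP))
      (by rw [Functor.map_preimage]; exact IsPullback.lift_fst _ _ _ _)
  have hm : m.hom.left ≫ EtOver.bcπ hf P = c := (yon S).map_injective (by
    rw [Functor.map_comp]
    refine (congrArg (· ≫ _) ((yon S).map_preimage _)).trans ?_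
    exact IsPullback.lift_snd _ _ _ _)
  have key : ∀ {V₀ : EtOver Y} (b₀ : W ⟶ EtOver.bcObj hf V₀) (q : P ⟶ V₀),
      c ≫ q.hom.left = b₀.hom.left ≫ EtOver.bcπ hf V₀ → m ≫ EtOver.bcMap hf q = b₀ := fun {V₀} b₀ q h =>
    EtOver.hom_ext _ _ ((yon S).map_injective ((EtOver.isPullback_bcObj hf V₀).hom_ext
      ((EtOver.w (m ≫ EtOver.bcMap hf q)).trans (EtOver.w b₀).symm) (by
        rw [← Functor.map_comp, ← Functor.map_comp]
        refine congrArg (yon S).map ?_
        change (m.hom.left ≫ (EtOver.bcMap hf q).hom.left) ≫ EtOver.bcπ hf V₀ = _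
        rw [Category.assoc, EtOver.bcMap_snd, ← Category.assoc, hm, h])))
  exact ⟨P, EtOver.prodFst V V', EtOver.prodSnd V V', m, key b _ hc₁, key b' _ hc₂⟩

/-- Restriction of a map out of the constant presheaf to base changes. -/
noncomputable def bcRestrict (F : AbEt X) (φ : cP X ⟶ F.obj) :
    cP Y ⟶ ((pushEt hf AddCommGrpCat.{u + 1}).obj F).obj where
  app V := φ.app (op (EtOver.bcObj hf V.unop))
  naturality V V' g := φ.naturality ((EtOver.bc hf).map g.unop).op

theorem bijective_bcRestrict (hY : IsAlgSpace Y) (F : AbEt X) : Function.Bijective (bcRestrict hf F) := by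
  let ι (E : EtOver X) := Σ (V : EtOver Y) (Z : EtOver X), (Z ⟶ E) × (Z ⟶ EtOver.bcObj hf V)
  have hcov : ∀ (E : EtOver X) (x : ↥E.obj.left.left), ∃ i : ι E, x ∈ Set.range i.2.2.1.hom.left.left := fun E x => by
    obtain ⟨V, Z, a, b, hx⟩ := exists_bc_nhd hf hY E x
    exact ⟨⟨V, Z, a, b⟩, hx⟩
  have hnat : ∀ (φ : cP X ⟶ F.obj) (E : EtOver X) (i : ι E) (z : ULift.{u + 1} ℤ),
      F.obj.map i.2.2.1.op (φ.app (op E) z) = F.obj.map i.2.2.2.op (φ.app (op (EtOver.bcObj hf i.1)) z) :=
    fun φ E i z => (NatTrans.naturality_apply φ i.2.2.1.op z).symm.trans (NatTrans.naturality_apply φ i.2.2.2.op z)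
  refine ⟨fun φ φ' h => ?_, fun ψ => ?_⟩
  · refine NatTrans.ext (funext fun E => ConcreteCategory.hom_ext _ _ fun z => ?_)
    refine ab_ext_family F (fun i : ι E.unop => i.2.1) (fun i => i.2.2.1) (hcov E.unop) fun i => ?_
    rw [hnat, hnat]
    exact congrArg (fun t : cP Y ⟶ _ => F.obj.map i.2.2.2.op (t.app (op i.1) z)) h
  · have hex : ∀ (E : EtOver X) (z : ULift.{u + 1} ℤ), ∃ s : F.obj.obj (op E),
        ∀ i : ι E, F.obj.map i.2.2.1.op s = F.obj.map i.2.2.2.op (ψ.app (op i.1) z) := fun E z => by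
      refine ab_glue_family F (fun i : ι E => i.2.1) (fun i => i.2.2.1) (hcov E) _ fun i j W a b _ => ?_
      obtain ⟨P, p, p', m, hm, hm'⟩ := exists_bc_join hf (a ≫ i.2.2.2) (b ≫ j.2.2.2)
      rw [← Functor.map_comp_apply, ← Functor.map_comp_apply, ← op_comp, ← op_comp, ← hm, ← hm', op_comp, op_comp,
        Functor.map_comp_apply, Functor.map_comp_apply]
      exact congrArg (F.obj.map m.op) ((NatTrans.naturality_apply ψ p.op z).symm.trans
        (NatTrans.naturality_apply ψ p'.op z))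
    choose s hs using hex
    have hu : ∀ (E : EtOver X) (z : ULift.{u + 1} ℤ) (t : F.obj.obj (op E)),
        (∀ i : ι E, F.obj.map i.2.2.1.op t = F.obj.map i.2.2.2.op (ψ.app (op i.1) z)) → t = s E z := fun E z t ht =>
      ab_ext_family F (fun i : ι E => i.2.1) (fun i => i.2.2.1) (hcov E) fun i => (ht i).trans (hs E z i).symm
    let φ : cP X ⟶ F.obj :=
      { app := fun E => AddCommGrpCat.ofHom (AddMonoidHom.mk' (s E.unop) fun z z' => (hu _ _ _ fun i => by
          rw [map_add, hs, hs, map_add, map_add]).symm)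
        naturality := fun E E' g => ConcreteCategory.hom_ext _ _ fun z => by
          show s E'.unop z = F.obj.map g (s E.unop z)
          refine (hu _ _ _ fun i => ?_).symm
          rw [← Quiver.Hom.op_unop g, ← Functor.map_comp_apply, ← op_comp]
          exact hs E.unop z ⟨i.1, i.2.1, i.2.2.1 ≫ g.unop, i.2.2.2⟩ }
    refine ⟨φ, NatTrans.ext (funext fun V => ConcreteCategory.hom_ext _ _ fun z => ?_)⟩
    have e := hs (EtOver.bcObj hf V.unop) z ⟨V.unop, EtOver.bcObj hf V.unop, 𝟙 _, 𝟙 _⟩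
    rw [op_id, CategoryTheory.Functor.map_id] at e
    exact e

/-- Maps out of the constant sheaves and direct images. -/
noncomputable def θ (hY : IsAlgSpace Y) (F : AbEt X) :
    (cS X ⟶ F) ≃ (cS Y ⟶ (pushEt hf AddCommGrpCat.{u + 1}).obj F) :=
  ((sheafificationAdjunction (etTop X) AddCommGrpCat.{u + 1}).homEquiv (cP X) F).trans
    ((Equiv.ofBijective _ (bijective_bcRestrict hf hY F)).trans
      ((sheafificationAdjunction (etTop Y) AddCommGrpCat.{u + 1}).homEquiv (cP Y)
        ((pushEt hf AddCommGrpCat.{u + 1}).obj F)).symm)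

theorem θ_comp (hY : IsAlgSpace Y) {F F' : AbEt X} (x : cS X ⟶ F) (g : F ⟶ F') :
    θ hf hY F' (x ≫ g) = θ hf hY F x ≫ (pushEt hf AddCommGrpCat.{u + 1}).map g := by
  simp only [θ, Equiv.trans_apply, Equiv.ofBijective_apply]
  refine Eq.trans ?_ ((sheafificationAdjunction (etTop Y) AddCommGrpCat.{u + 1}).homEquiv_naturality_right_symm _ _)
  refine congrArg _ ?_
  refine Eq.trans (congrArg (bcRestrict hf F')
    ((sheafificationAdjunction (etTop X) AddCommGrpCat.{u + 1}).homEquiv_naturality_right x g)) ?_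
  exact NatTrans.ext (funext fun V => rfl)

theorem θ_add (hY : IsAlgSpace Y) {F : AbEt X} (x y : cS X ⟶ F) :
    θ hf hY F (x + y) = θ hf hY F x + θ hf hY F y := by
  let e := (sheafificationAdjunction (etTop X) AddCommGrpCat.{u + 1}).homAddEquiv (cP X) F
  let e' := (sheafificationAdjunction (etTop Y) AddCommGrpCat.{u + 1}).homAddEquiv (cP Y)
    ((pushEt hf AddCommGrpCat.{u + 1}).obj F)
  change e'.symm (bcRestrict hf F (e (x + y))) = e'.symm (bcRestrict hf F (e x)) + e'.symm (bcRestrict hf F (e y))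
  rw [map_add e, ← map_add e'.symm]
  exact congrArg e'.symm (NatTrans.ext (funext fun V => rfl))

theorem nonempty_addEquiv_of_ker_eq {A B C : Type*} [AddCommGroup A] [AddCommGroup B] [AddCommGroup C]
    (p : A →+ B) (q : A →+ C) (hp : Function.Surjective p) (hq : Function.Surjective q) (h : p.ker = q.ker) :
    Nonempty (B ≃+ C) :=
  ⟨(QuotientAddGroup.quotientKerEquivOfSurjective p hp).symm.trans
    ((QuotientAddGroup.quotientAddEquivOfEq h).trans (QuotientAddGroup.quotientKerEquivOfSurjective q hq))⟩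

section Main

variable (hX : IsAlgSpace X) (hY : IsAlgSpace Y) (haff : IsAffineMor f)

/-- The image of the injective embedding sequence. -/
noncomputable abbrev pushSeq (F : AbEt X) : ShortComplex (AbEt Y) :=
  (injSeq F).map (pushEt hf AddCommGrpCat.{u + 1})

variable [PreservesFiniteLimits (pushEt hf AddCommGrpCat.{u + 1})]

include haff in
theorem pushSeq_shortExact {F : AbEt X} (hF : AcycAff F) : (pushSeq hf F).ShortExact := by
  have h0 := (Functor.preservesFiniteLimits_tfae (pushEt hf AddCommGrpCat.{u + 1})).out 3 0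
  have h := h0.1 inferInstance (injSeq F) (injSeq_shortExact F)
  have : Mono (pushSeq hf F).f := h.2
  have : Epi (pushSeq hf F).g := epi_push_map hf haff (injSeq_shortExact F) hF
  exact { exact := h.1 }

/-- The connecting map. -/
noncomputable def conn {Z : Sp S} {T : ShortComplex (AbEt Z)} (hT : T.ShortExact) (n : ℕ) :
    HEt Z T.X₃ n →+ HEt Z T.X₁ (n + 1) :=
  hT.extClass.postcomp (cS Z) rfl

theorem conn_surjective {Z : Sp S} {T : ShortComplex (AbEt Z)} (hT : T.ShortExact) (n : ℕ) [Injective T.X₂] :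
    Function.Surjective (conn hT n) := fun x => by
  obtain ⟨y, hy⟩ := Ext.covariant_sequence_exact₁ _ hT x (Ext.eq_zero_of_injective _) (n₀ := n) rfl
  exact ⟨y, hy⟩

theorem conn_injective {Z : Sp S} {T : ShortComplex (AbEt Z)} (hT : T.ShortExact) (n : ℕ) [Injective T.X₂] :
    Function.Injective (conn hT (n + 1)) := by
  refine (injective_iff_map_eq_zero _).2 fun x hx => ?_
  obtain ⟨y, rfl⟩ := Ext.covariant_sequence_exact₃ _ hT x rfl hx
  rw [Ext.eq_zero_of_injective y, Ext.zero_comp]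

theorem conn_mk₀_eq_zero_iff {Z : Sp S} {T : ShortComplex (AbEt Z)} (hT : T.ShortExact) (x : cS Z ⟶ T.X₃) :
    conn hT 0 (Ext.mk₀ x) = 0 ↔ ∃ y : cS Z ⟶ T.X₂, y ≫ T.g = x := by
  constructor
  · intro h
    obtain ⟨y, hy⟩ := Ext.covariant_sequence_exact₃ _ hT (Ext.mk₀ x) rfl h
    obtain ⟨y, rfl⟩ := (Ext.mk₀_bijective _ _).2 y
    rw [Ext.mk₀_comp_mk₀] at hy
    exact ⟨y, (Ext.mk₀_bijective _ _).1 hy⟩
  · rintro ⟨y, rfl⟩
    change (Ext.mk₀ (y ≫ T.g)).comp hT.extClass rfl = 0
    rw [← Ext.mk₀_comp_mk₀, Ext.comp_assoc_of_second_deg_zero, hT.comp_extClass, Ext.comp_zero]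

include hX hY haff in
theorem nonempty_HEt_addEquiv_push :
    ∀ (n : ℕ) (F : AbEt X), AcycAff F →
      Nonempty (HEt X F n ≃+ HEt Y ((pushEt hf AddCommGrpCat.{u + 1}).obj F) n) := by
  intro n
  induction n with
  | zero =>
    intro F _
    exact ⟨Ext.addEquiv₀.trans ((AddEquiv.mk' (θ hf hY F) (θ_add hf hY)).trans Ext.addEquiv₀.symm)⟩
  | succ n ih =>
    intro F hF
    have hS := injSeq_shortExact F
    have hS' := pushSeq_shortExact hf haff hF
    have : Injective (pushSeq hf F).X₂ := injective_pushEt hX hY hf (injSeq F).X₂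
    cases n with
    | zero =>
      let a : (cS X ⟶ (injSeq F).X₃) →+ (cS Y ⟶ (pushSeq hf F).X₃) :=
        AddMonoidHom.mk' (θ hf hY _) (θ_add hf hY)
      refine nonempty_addEquiv_of_ker_eq ((conn hS 0).comp Ext.addEquiv₀.symm.toAddMonoidHom)
        (((conn hS' 0).comp Ext.addEquiv₀.symm.toAddMonoidHom).comp a) ?_ ?_ ?_
      · exact (conn_surjective hS 0).comp Ext.addEquiv₀.symm.surjective
      · exact ((conn_surjective hS' 0).comp Ext.addEquiv₀.symm.surjective).comp (θ hf hY _).surjective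
      · ext x
        rw [AddMonoidHom.mem_ker, AddMonoidHom.mem_ker]
        change conn hS 0 (Ext.mk₀ x) = 0 ↔ conn hS' 0 (Ext.mk₀ (θ hf hY _ x)) = 0
        rw [conn_mk₀_eq_zero_iff hS, conn_mk₀_eq_zero_iff hS']
        constructor
        · rintro ⟨y, rfl⟩
          exact ⟨θ hf hY _ y, (θ_comp hf hY y (injSeq F).g).symm⟩
        · rintro ⟨y, hy⟩
          obtain ⟨y, rfl⟩ := (θ hf hY (injSeq F).X₂).surjective y
          exact ⟨y, (θ hf hY _).injective ((θ_comp hf hY y (injSeq F).g).trans hy)⟩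
    | succ n =>
      obtain ⟨e⟩ := ih _ (acycAff_injSeq₃ hF)
      exact ⟨(AddEquiv.ofBijective (conn hS (n + 1)) ⟨conn_injective hS n, conn_surjective hS _⟩).symm.trans
        (e.trans (AddEquiv.ofBijective (conn hS' (n + 1)) ⟨conn_injective hS' n, conn_surjective hS' _⟩))⟩

end Main

end Groth.Agent.QcohEt15
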