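import Groth.Agent.Lib.QcohEt15.FP
import Groth.Agent.Lib.AlgSpDecent.Strat
import Mathlib.Algebra.Category.ModuleCat.Presheaf.Submodule

/-!
# Submodules cut out by a module of sections over an affine chart

For a chart `U` and a submodule `N` of `M(U)`, the sections whose restrictions to every affine object over `U` lie in
the span of `N`.
-/

universe u v

set_option backward.isDefEq.respectTransparency false

open CategoryTheory CategoryTheory.Limits AlgebraicGeometry Opposite TensorProduct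

namespace Groth.Agent.QcohEt15

open AlgSp Groth.Agent.AlgSpace

variable {S : Scheme.{u}} {X : Sp S} {M : ModEt X}

/-! ### Products of affine charts are quasi-compact -/

theorem compactSpace_prodObj [QuasiSeparatedSpace ↥S] (hqs : IsQuasiSeparatedSp X) (E₁ E₂ : EtOver X)
    [IsAffine E₁.obj.left.left] [IsAffine E₂.obj.left.left] :
    CompactSpace ↥(EtOver.prodObj E₁ E₂).obj.left.left := by
  have sq : IsPullback ((yon S).map (E₂.property.1.fst' E₁.obj.hom))
      ((yon S).map (E₂.property.1.snd E₁.obj.hom)) E₂.obj.hom E₁.obj.hom := by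
    rw [Functor.relativelyRepresentable.map_fst']
    exact E₂.property.1.isPullback E₁.obj.hom
  let U₁ := E₁.obj.left
  let U₂ := E₂.obj.left
  let x : (EtOver.prodObj E₁ E₂).obj.left ⟶ U₂ := E₂.property.1.fst' E₁.obj.hom
  let y : (EtOver.prodObj E₁ E₂).obj.left ⟶ U₁ := E₂.property.1.snd E₁.obj.hom
  have h1 : QuasiCompact (prod.lift x y).left := prop_lift_of_repWith_diag (P := @QuasiCompact) hqs sq
  have : QuasiCompact U₂.hom := inferInstance
  have h2 : QuasiCompact (prod.snd : U₂ ⨯ U₁ ⟶ U₁).left := MorphismProperty.of_isPullback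
    (P := @QuasiCompact) (Over.isPullback_of_binaryFan_isLimit (BinaryFan.mk prod.fst prod.snd) (prodIsProd U₂ U₁)) this
  have h3 : QuasiCompact y.left := by
    rw [← prod.lift_snd x y, Over.comp_left]
    infer_instance
  exact QuasiCompact.compactSpace_of_compactSpace y.left

theorem exists_pair_cover [QuasiSeparatedSpace ↥S] (hqs : IsQuasiSeparatedSp X) (E U : EtOver X)
    [IsAffine E.obj.left.left] [IsAffine U.obj.left.left] :
    ∃ (κ : Type u) (_ : Finite κ) (W : κ → EtOver X) (_ : ∀ i, IsAffine (W i).obj.left.left) (k : ∀ i, W i ⟶ E)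
      (t : ∀ i, W i ⟶ U), ∀ (Z : EtOver X) (a : Z ⟶ E) (b : Z ⟶ U) (z : ↥Z.obj.left.left),
        ∃ (i : κ) (Z' : EtOver X) (_ : IsAffine Z'.obj.left.left) (l : Z' ⟶ Z) (l' : Z' ⟶ W i),
          z ∈ Set.range l.hom.left.left ∧ l' ≫ k i = l ≫ a ∧ l' ≫ t i = l ≫ b := by
  let P := EtOver.prodObj E U
  have := compactSpace_prodObj hqs E U
  obtain ⟨T, hT⟩ := isCompact_univ.elim_finite_subcover (fun O : P.obj.left.left.affineOpens => (O.1 : Set ↥P.obj.left.left))
    (fun O => O.1.isOpen) fun x _ => by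
      obtain ⟨V, hV, hxV, -⟩ := P.obj.left.left.isBasis_affineOpens.exists_subset_of_mem_open (Set.mem_univ x) isOpen_univ
      obtain ⟨V, hV', rfl⟩ := hV
      exact Set.mem_iUnion.2 ⟨⟨V, hV'⟩, hxV⟩
  refine ⟨T, inferInstance, fun i => AlgSpEt14.openSub P i.1.1, fun i => i.1.2,
    fun i => AlgSpEt14.openSubι P i.1.1 ≫ EtOver.prodFst E U,
    fun i => AlgSpEt14.openSubι P i.1.1 ≫ EtOver.prodSnd E U, fun Z a b z => ?_⟩
  let ab : Z ⟶ P := (EtOver.prodIsLimit E U).lift (BinaryFan.mk a b)
  have ha : ab ≫ EtOver.prodFst E U = a := (EtOver.prodIsLimit E U).fac (BinaryFan.mk a b) ⟨.left⟩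
  have hb : ab ≫ EtOver.prodSnd E U = b := (EtOver.prodIsLimit E U).fac (BinaryFan.mk a b) ⟨.right⟩
  obtain ⟨O, hO, hz⟩ := Set.mem_iUnion₂.1 (hT (Set.mem_univ (ab.hom.left.left z)))
  let W := AlgSpEt14.openSub P O.1
  let ι := AlgSpEt14.openSubι P O.1
  let Q := EtOver.pullbackObj ab ι
  have hpt : ∃ q : ↥Q.obj.left.left, (EtOver.pullbackFst ab ι).hom.left.left q = z := by
    obtain ⟨w, hw⟩ := (AlgSpEt14.range_openSubι P O.1).ge hz
    obtain ⟨q, hq, -⟩ := Scheme.exists_preimage_of_isPullback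
      ((IsPullback.of_hasPullback ab.hom.left ι.hom.left).map (Over.forget S)) z w hw.symm
    exact ⟨q, hq⟩
  obtain ⟨q, hq⟩ := hpt
  obtain ⟨V, hV, hqV, -⟩ := Q.obj.left.left.isBasis_affineOpens.exists_subset_of_mem_open (Set.mem_univ q) isOpen_univ
  obtain ⟨V, hV', rfl⟩ := hV
  refine ⟨⟨O, hO⟩, AlgSpEt14.openSub Q V, hV', AlgSpEt14.openSubι Q V ≫ EtOver.pullbackFst ab ι,
    AlgSpEt14.openSubι Q V ≫ EtOver.pullbackSnd ab ι, ?_, ?_, ?_⟩
  · obtain ⟨v, hv⟩ := (AlgSpEt14.range_openSubι Q V).ge hqV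
    refine ⟨v, ?_⟩
    change (EtOver.pullbackFst ab ι).hom.left.left ((AlgSpEt14.openSubι Q V).hom.left.left v) = z
    rw [hv, hq]
  · rw [Category.assoc, Category.assoc]
    congr 1
    rw [← ha, ← Category.assoc, ← EtOver.pullback_condition, Category.assoc]
  · rw [Category.assoc, Category.assoc]
    congr 1
    rw [← hb, ← Category.assoc, ← EtOver.pullback_condition, Category.assoc]

/-! ### The submodule -/

variable {U : EtOver X} (N : Submodule (Γo U) (sectModEt M U))

/-- Membership: all restrictions to affine objects over `U` lie in the span of `N`. -/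
def InLoc {E : EtOver X} (s : sectModEt M E) : Prop :=
  ∀ ⦃W : EtOver X⦄ [IsAffine W.obj.left.left] (k : W ⟶ E) (t : W ⟶ U), res M k s ∈ Set.range (lift t N.subtype)

/-- The submodule of sections locally in the span of `N`. -/
noncomputable def locObj (E : EtOver X) : Submodule ((OEtRing X).obj.obj (op E)) (sectModEt M E) where
  carrier := {s | InLoc N s}
  add_mem' {a b} ha hb := fun W _ k t => by
    obtain ⟨x, hx⟩ := ha k t
    obtain ⟨y, hy⟩ := hb k t
    exact ⟨x + y, by rw [map_add, map_add, hx, hy]⟩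
  zero_mem' := fun W _ k t => ⟨0, by rw [map_zero, map_zero]⟩
  smul_mem' r {a} ha := fun W _ k t => by
    obtain ⟨x, hx⟩ := ha k t
    refine ⟨γ k (ULift.down r) • x, ?_⟩
    rw [lift_smul, hx, ← res_smul]
    rfl

theorem mem_locObj {E : EtOver X} (s : sectModEt M E) : s ∈ locObj N E ↔ InLoc N s := Iff.rfl

theorem InLoc.res {E E' : EtOver X} {s : sectModEt M E} (h : InLoc N s) (g : E' ⟶ E) : InLoc N (res M g s) :=
  fun W _ k t => by rw [← res_comp]; exact h (k ≫ g) t

/-- The family of submodules. -/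
noncomputable def locPre : M.val.Submodule where
  obj E := locObj N E.unop
  map {E E'} g := fun s hs => InLoc.res N hs g.unop

variable [IsAffine U.obj.left.left] (hU : Good M U)

include hU in
theorem lift_subtype_injective {W : EtOver X} [IsAffine W.obj.left.left] (t : W ⟶ U) :
    Function.Injective (lift t N.subtype) := by
  intro a b e
  have := Tw.flat t
  rw [lift_ext_id, lift_ext_id t N.subtype b] at e
  exact Module.Flat.lTensor_preserves_injective_linearMap N.subtype Subtype.val_injective ((hU t).1 e)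

include hU in
theorem inLoc_of_local {E : EtOver X} (s : sectModEt M E) (R : Sieve E) (hR : R ∈ etTop X E)
    (h : ∀ ⦃Y : EtOver X⦄ (g : Y ⟶ E), R g → InLoc N (res M g s)) : InLoc N s := by
  intro W _ k t
  refine mem_range_of_local t N.subtype (fun Y _ a => lift_subtype_injective N hU a) (res M k s) (R.pullback k)
    ((etTop X).pullback_stable k hR) fun Y _ l hl => ?_
  have := h (l ≫ k) hl (𝟙 Y) (l ≫ t)
  rwa [res_id, res_comp] at this

include hU in
theorem inLoc_of_pairs {E : EtOver X} (s : sectModEt M E) {κ : Type u} {W : κ → EtOver X}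
    (hW : ∀ i, IsAffine (W i).obj.left.left) (k : ∀ i, W i ⟶ E) (t : ∀ i, W i ⟶ U)
    (hc : ∀ (Z : EtOver X) (a : Z ⟶ E) (b : Z ⟶ U) (z : ↥Z.obj.left.left),
      ∃ (i : κ) (Z' : EtOver X) (_ : IsAffine Z'.obj.left.left) (l : Z' ⟶ Z) (l' : Z' ⟶ W i),
        z ∈ Set.range l.hom.left.left ∧ l' ≫ k i = l ≫ a ∧ l' ≫ t i = l ≫ b)
    (h : ∀ i, res M (k i) s ∈ Set.range (lift (t i) N.subtype)) : InLoc N s := by
  intro Z _ a b
  choose i Z' hZ' l l' hz hk ht using hc Z a b
  refine mem_range_of_local b N.subtype (fun Y _ q => lift_subtype_injective N hU q) (res M a s)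
    (Sieve.generate (Presieve.ofArrows Z' l)) (ofArrows_mem_etTop Z' l fun z => ⟨z, hz z⟩) fun Y _ g hg => ?_
  obtain ⟨Z₁, q, g', ⟨z⟩, rfl⟩ := hg
  obtain ⟨x, hx⟩ := h (i z)
  refine ⟨(mapTw (q ≫ l' z) (by rw [Category.assoc, ht, Category.assoc])).rTensor N x, ?_⟩
  rw [← lift_res (q ≫ l' z), hx, ← res_comp, ← res_comp, Category.assoc, hk, Category.assoc]

theorem isSheaf_locPre (hU' : Good M U) :
    Presheaf.IsSheaf (etTop X) (locPre N).toPresheafOfModules.presheaf := by
  rw [Presheaf.isSheaf_iff_isSheaf_comp (etTop X) (locPre N).toPresheafOfModules.presheaf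
    (CategoryTheory.forget AddCommGrpCat.{u + 1}), isSheaf_iff_isSheaf_of_type]
  intro E R hR
  have hM := isSheaf_sections M R hR
  intro x hx
  let y : Presieve.FamilyOfElements (M.val.presheaf ⋙ CategoryTheory.forget AddCommGrpCat.{u + 1}) R.arrows :=
    fun Y g hg => (x g hg).1
  have hy : y.Compatible := fun Y₁ Y₂ Z g₁ g₂ f₁ f₂ h₁ h₂ e => congrArg Subtype.val (hx g₁ g₂ h₁ h₂ e)
  obtain ⟨s, hs, hu⟩ := hM y hy
  have hmem : InLoc N (show sectModEt M E from s) := inLoc_of_local N hU' s R hR fun Y g hg => by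
    rw [show res M g s = (x g hg).1 from hs g hg]
    exact (x g hg).2
  exact ⟨⟨s, hmem⟩, fun Y g hg => Subtype.ext (hs g hg),
    fun s' hs' => Subtype.ext (hu s'.1 fun Y g hg => congrArg Subtype.val (hs' g hg))⟩

/-- The submodule of `M` cut out by `N`. -/
noncomputable def locSub : ModEt X where
  val := (locPre N).toPresheafOfModules
  isSheaf := isSheaf_locPre N hU

/-- Its inclusion. -/
noncomputable def locι : locSub N hU ⟶ M := ⟨(locPre N).ι⟩

instance : Mono (locι N hU) := by
  have : Mono ((SheafOfModules.forget (OEtRing X)).map (locι N hU)) := inferInstanceAs (Mono (locPre N).ι)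
  exact (SheafOfModules.forget (OEtRing X)).mono_of_mono_map this

theorem appₗ_locι_range {E : EtOver X} (s : sectModEt M E) :
    s ∈ Set.range (appₗ (locι N hU) E) ↔ InLoc N s :=
  ⟨fun ⟨w, hw⟩ => hw ▸ w.2, fun h => ⟨⟨s, h⟩, rfl⟩⟩

theorem mem_of_inLoc (s : sectModEt M U) (h : InLoc N s) : s ∈ N := by
  obtain ⟨z, hz⟩ := h (𝟙 U) (𝟙 U)
  rw [res_id] at hz
  rw [← hz]
  clear hz
  induction z using TensorProduct.induction_on with
  | zero => rw [map_zero]; exact zero_mem _
  | tmul a n => rw [lift_tmul, res_id]; exact N.smul_mem (Tw.out a) n.2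
  | add x y hx hy => rw [map_add]; exact add_mem hx hy

end Groth.Agent.QcohEt15
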