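import Groth.Agent.Lib.QcohEt15.Pull.Sections
import Groth.Agent.Lib.AlgSpace.Affine
import Groth.Agent.Lib.QcohEt15.LocColim

/-!
# Coherent modules on a closed subspace
-/

universe u v

set_option backward.isDefEq.respectTransparency false

open CategoryTheory CategoryTheory.Limits AlgebraicGeometry Opposite TensorProduct

namespace Groth.Agent.QcohEt15

open AlgSp

variable {S : Scheme.{u}} {X : Sp S}

/-- A morphism bijective on affine objects is an isomorphism. -/
theorem isIso_of_bijective_affine {M N : ModEt X} (φ : M ⟶ N)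
    (h : ∀ (E : EtOver X) [IsAffine E.obj.left.left], Function.Bijective (appₗ φ E)) : IsIso φ := by
  have hall : ∀ E : EtOver X, Function.Bijective (appₗ φ E) := fun E => by
    refine ⟨fun a b e => sections_ext_affine M fun Z _ g => (h Z).1 (by rw [appₗ_res, appₗ_res, e]), fun n => ?_⟩
    have hA : ∀ O : E.obj.left.left.affineOpens,
        ∃ m, appₗ φ (AlgSpEt14.openSub E O.1) m = res N (AlgSpEt14.openSubι E O.1) n := fun O =>
      have : IsAffine (AlgSpEt14.openSub E O.1).obj.left.left := O.2
      (h _).2 _
    choose m hm using hA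
    obtain ⟨m₀, hm₀⟩ := exists_glue_family M (fun O : ULift.{u + 1} E.obj.left.left.affineOpens => AlgSpEt14.openSub E O.down.1)
      (fun O => AlgSpEt14.openSubι E O.down.1) (fun x => by
        obtain ⟨O, hO⟩ := exists_openSub_mem E x
        exact ⟨⟨O⟩, hO⟩) (fun O => m O.down) (fun i j Z a b hab => sections_ext_affine M fun T _ g => (h T).1 (by
          rw [appₗ_res, appₗ_res, appₗ_res, appₗ_res, hm, hm, ← res_comp N (AlgSpEt14.openSubι E i.down.1) a, hab,
            res_comp]))
    refine ⟨m₀, sections_ext_family N (fun O : E.obj.left.left.affineOpens => AlgSpEt14.openSub E O.1)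
      (fun O => AlgSpEt14.openSubι E O.1) (exists_openSub_mem E) fun O => ?_⟩
    rw [← appₗ_res, ← hm O]
    exact congrArg _ (hm₀ ⟨O⟩)
  have : IsIso ((SheafOfModules.forget (OEtRing X) ⋙ PresheafOfModules.toPresheaf _).map φ) := by
    rw [NatTrans.isIso_iff_isIso_app]
    intro E
    exact (ConcreteCategory.isIso_iff_bijective _).2 (hall E.unop)
  exact isIso_of_reflects_iso φ (SheafOfModules.forget (OEtRing X) ⋙ PresheafOfModules.toPresheaf _)

variable {Y : Space S} {f : X ⟶ Y.obj}

theorem isFiniteMor_of_repWith_closedImmersion (hi : RepWith @IsClosedImmersion f) : IsFiniteMor f :=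
  AlgSpace.isFiniteMor_iff_repWith.2 ⟨hi.1, fun {Z W} g fst snd sq =>
    have : IsClosedImmersion snd.left := hi.2 g fst snd sq
    show IsFinite snd.left from inferInstance⟩

theorem isAffineMor_of_repWith_closedImmersion (hi : RepWith @IsClosedImmersion f) : IsAffineMor f :=
  isAffineMor_of_isFiniteMor (isFiniteMor_of_repWith_closedImmersion hi)

theorem bγ_surjective (hi : RepWith @IsClosedImmersion f) (E : EtOver Y.obj) [IsAffine E.obj.left.left] :
    Function.Surjective (bγ hi.1 E) := by
  have : IsClosedImmersion (EtOver.bcπ hi.1 E).left := hi.2 E.obj.hom _ _ (EtOver.isPullback_bcObj hi.1 E)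
  exact (IsClosedImmersion.isAffine_surjective_of_isAffine (EtOver.bcπ hi.1 E).left).2

variable (hi : RepWith @IsClosedImmersion f) {M : ModEt Y.obj}
  (hM : ∀ (E : EtOver Y.obj) [IsAffine E.obj.left.left], Good M E)

open Pull in
theorem bijective_unit (hann : ∀ (E : EtOver Y.obj) [IsAffine E.obj.left.left] (a : Γo E), bγ hi.1 E a = 0 →
      ∀ s : sectModEt M E, a • s = 0) (E : EtOver Y.obj) [IsAffine E.obj.left.left] :
    Function.Bijective (appₗ (unitQ hi.1 hM) E) := by
  have := isAffine_bcObj hi.1 (isAffineMor_of_repWith_closedImmersion hi) E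
  let B := EtOver.bcObj hi.1 E
  let φ := lkOf hi.1 (𝟙 B)
  have hev : ∀ g, evL hM φ (pushOut hi.1 (appₗ (unitQ hi.1 hM) E g)) = (1 : TwP φ) ⊗ₜ g := fun g => by
    have h := evL_unit hi.1 hM φ g
    rw [show bcLift hi.1 φ = 𝟙 B from bc_hom_ext hi.1 (lkOf_bcLift hi.1 φ), res_id] at h
    exact h
  have hs : Function.Surjective (algebraMap (Γo E) (TwP φ)) := by
    change Function.Surjective (ap φ)
    rw [ap_lkOf_id]
    exact bγ_surjective hi E
  have hbij : Function.Bijective fun g : sectModEt M E => (1 : TwP φ) ⊗ₜ[Γo E] g := by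
    choose σ hσ using hs
    let inv : Ten M φ →+ sectModEt M E := TensorProduct.liftAddHom
      { toFun := fun c => (AddMonoidHom.mk' (fun g => σ c • g) fun a b => smul_add _ a b)
        map_zero' := AddMonoidHom.ext fun g => hann E (σ 0) (by rw [← ap_lkOf_id]; exact hσ 0) g
        map_add' := fun c d => AddMonoidHom.ext fun g => by
          change σ (c + d) • g = σ c • g + σ d • g
          rw [← add_smul, ← sub_eq_zero, ← sub_smul]
          refine hann E _ ?_ g
          rw [← ap_lkOf_id]
          change algebraMap (Γo E) (TwP φ) _ = 0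
          rw [map_sub, map_add, hσ, hσ, hσ, sub_self] }
      fun r c g => by
        change σ (r • c) • g = σ c • r • g
        rw [smul_smul, ← sub_eq_zero, ← sub_smul]
        refine hann E _ ?_ g
        rw [← ap_lkOf_id]
        change algebraMap (Γo E) (TwP φ) _ = 0
        rw [map_sub, map_mul, hσ, hσ, Algebra.smul_def, mul_comm, sub_self]
    refine Function.bijective_iff_has_inverse.2 ⟨inv, fun g => ?_, fun z => ?_⟩
    · change σ 1 • g = g
      rw [← sub_eq_zero]
      conv_lhs => arg 2; rw [← one_smul (Γo E) g]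
      rw [← sub_smul]
      refine hann E _ ?_ g
      rw [← ap_lkOf_id]
      change algebraMap (Γo E) (TwP φ) _ = 0
      rw [map_sub, hσ, map_one, sub_self]
    · change (1 : TwP φ) ⊗ₜ[Γo E] inv z = z
      induction z using TensorProduct.induction_on with
      | zero => simp
      | tmul c g =>
        change (1 : TwP φ) ⊗ₜ[Γo E] (σ c • g) = c ⊗ₜ g
        rw [TensorProduct.tmul_smul, TensorProduct.smul_tmul']
        congr 1
        rw [Algebra.smul_def, hσ, mul_one]
      | add x y hx hy => rw [map_add, TensorProduct.tmul_add, hx, hy]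
  have hb : Function.Bijective (evL hM φ ∘ fun g => pushOut hi.1 (appₗ (unitQ hi.1 hM) E g)) := by
    rw [show evL hM φ ∘ (fun g => pushOut hi.1 (appₗ (unitQ hi.1 hM) E g)) = _ from funext hev]
    exact hbij
  exact (Function.Bijective.of_comp_iff' (evL_bijective hM φ) _).1 hb

end Groth.Agent.QcohEt15
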