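import Groth.Agent.Lib.QcohEt15.Presented
import Mathlib.LinearAlgebra.DirectSum.Finsupp
import Mathlib.LinearAlgebra.TensorProduct.RightExactness

/-!
# Modules compatible with base change are quasi-coherent
-/

universe u v

set_option backward.isDefEq.respectTransparency false

open CategoryTheory CategoryTheory.Limits AlgebraicGeometry Opposite TensorProduct

namespace Groth.Agent.QcohEt15

open AlgSp

variable {S : Scheme.{u}} {X : Sp S} {M : ModEt X}

theorem phi_injective {Y Z : EtOver X} (g : Z ⟶ Y) (J : Type v) : Function.Injective (phi g J) := by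
  classical
  let e := TensorProduct.finsuppScalarRight (Γo Y) (Γo Y) (Tw g) J
  let w : (J →₀ Γo Z) → (J →₀ Tw g) := Finsupp.mapRange (Tw.mk g) rfl
  have hw : ∀ c, e (phi g J c) = w c := fun c => by
    induction c using Finsupp.induction_linear with
    | zero => rw [map_zero, map_zero]; exact Finsupp.mapRange_zero.symm
    | add a b ha hb => rw [map_add, map_add, ha, hb]; exact (Finsupp.mapRange_add (fun _ _ => rfl) a b).symm
    | single i a =>
      rw [phi, Finsupp.linearCombination_single, TensorProduct.smul_tmul']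
      refine Finsupp.ext fun j => ?_
      rw [TensorProduct.finsuppScalarRight_apply_tmul_apply, Finsupp.mapRange_apply]
      by_cases h : i = j
      · subst h
        rw [Finsupp.single_eq_same, Finsupp.single_eq_same, one_smul]
        exact mul_one a
      · rw [Finsupp.single_eq_of_ne' h, Finsupp.single_eq_of_ne' h, zero_smul]
        rfl
  intro a b e'
  have := congrArg e e'
  rw [hw, hw] at this
  exact Finsupp.mapRange_injective (Tw.mk g) rfl (fun _ _ h => h) this

theorem lTensor_linearCombination_phi {Y Z : EtOver X} {J : Type v} {K : Type v} (g : Z ⟶ Y)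
    (r : K → (J →₀ Γo Y)) (d : K →₀ Γo Z) :
    (Finsupp.linearCombination (Γo Y) r).lTensor (Tw g) (phi g K d) =
      phi g J (Finsupp.linearCombination (Γo Z) (fun k => (r k).mapRange (γ g) (map_zero _)) d) := by
  induction d using Finsupp.induction_linear with
  | zero => simp only [map_zero]
  | add a b ha hb => simp only [map_add, ha, hb]
  | single i a =>
    rw [Finsupp.linearCombination_single, map_smul, phi_res, phi, Finsupp.linearCombination_single,
      TensorProduct.smul_tmul', TensorProduct.smul_tmul', LinearMap.lTensor_tmul, Finsupp.linearCombination_single,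
      one_smul]

theorem kernel_ι_injective {U : EtOver X} {V : (Over U)ᵒᵖ} {A B : SheafOfModules.{u + 1} ((OEtRing X).over U)}
    (f : A ⟶ B) : Function.Injective ((kernel.ι f).val.app V) := by
  let G := SheafOfModules.forget ((OEtRing X).over U) ⋙ PresheafOfModules.evaluation _ V
  have : Mono (G.map (kernel.ι f)) := mono_of_isLimit_fork (KernelFork.mapIsLimit _ (kernelIsKernel f) G)
  exact (ModuleCat.mono_iff_injective (G.map (kernel.ι f))).1 this

theorem epi_of_locallySurjective {U : EtOver X} {A B : SheafOfModules.{u + 1} ((OEtRing X).over U)} (f : A ⟶ B)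
    (h : Presheaf.IsLocallySurjective ((etTop X).over U) ((PresheafOfModules.toPresheaf _).map f.val)) : Epi f := by
  have : Sheaf.IsLocallySurjective ((SheafOfModules.toSheaf ((OEtRing X).over U)).map f) := h
  exact (SheafOfModules.toSheaf ((OEtRing X).over U)).epi_of_epi_map inferInstance

/-- To prove local surjectivity over `U` it suffices to treat affine objects. -/
theorem locallySurjective_of_affine {U : EtOver X} {A B : SheafOfModules.{u + 1} ((OEtRing X).over U)} (f : A ⟶ B)
    (h : ∀ (Z : EtOver X) [IsAffine Z.obj.left.left] (t : Z ⟶ U) (b : B.val.obj (op (Over.mk t))),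
      ∃ a, f.val.app (op (Over.mk t)) a = b) :
    Presheaf.IsLocallySurjective ((etTop X).over U) ((PresheafOfModules.toPresheaf _).map f.val) := by
  refine ⟨fun {V} b => ?_⟩
  rw [GrothendieckTopology.mem_over_iff]
  have key : ∀ O : V.left.obj.left.left.affineOpens,
      Sieve.overEquiv V (Presheaf.imageSieve ((PresheafOfModules.toPresheaf _).map f.val) b)
        (AlgSpEt14.openSubι V.left O.1) := by
    intro O
    rw [Sieve.overEquiv_iff]
    have : IsAffine (AlgSpEt14.openSub V.left O.1).obj.left.left := O.2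
    exact h _ (AlgSpEt14.openSubι V.left O.1 ≫ V.hom) _
  refine (etTop X).superset_covering (Sieve.generate_le_iff _ _ |>.2 ?_)
    (ofArrows_mem_etTop (fun O : V.left.obj.left.left.affineOpens => AlgSpEt14.openSub V.left O.1)
      (fun O => AlgSpEt14.openSubι V.left O.1) fun x => ?_)
  · rintro Z k ⟨O⟩
    exact key O
  · obtain ⟨W, hW, hxW, -⟩ := V.left.obj.left.left.isBasis_affineOpens.exists_subset_of_mem_open (Set.mem_univ x) isOpen_univ
    obtain ⟨W, hW', rfl⟩ := hW
    exact ⟨⟨W, hW'⟩, (AlgSpEt14.range_openSubι V.left W).ge hxW⟩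

variable {Y : EtOver X}

/-- A section from an element over a terminal object. -/
noncomputable def sectionOfTerminal {C : Type*} [Category C] {R : Cᵒᵖ ⥤ RingCat.{v}} (N : PresheafOfModules.{v} R)
    {T : C} (hT : IsTerminal T) (n : N.obj (op T)) : N.sections :=
  PresheafOfModules.sectionsMk (fun V => N.map (hT.from V.unop).op n) fun V W f => by
    refine (N.map_comp_apply _ f _).symm.trans ?_
    rw [show (hT.from V.unop).op ≫ f = (hT.from W.unop).op from Quiver.Hom.unop_inj (hT.hom_ext _ _)]

/-- A global section of a free sheaf over `Y` from a combination of the basis. -/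
noncomputable def fcSection {J : Type (u + 1)} (r : J →₀ Γo Y) : (freeU Y J).sections :=
  sectionOfTerminal (freeU Y J).val Over.mkIdTerminal (fc (𝟙 Y) r)

/-- The section of `M.over Y` attached to a section of `M` over `Y`. -/
noncomputable def overSection (m : sectModEt M Y) : (M.over Y).sections :=
  PresheafOfModules.sectionsMk (fun V => res M V.unop.hom m) fun V W f => by
    refine (res_comp M V.unop.hom f.unop.left m).symm.trans ?_
    rw [Over.w f.unop]

theorem gen_overSection {J : Type (u + 1)} (x : J → sectModEt M Y) (h : Epi ((M.over Y).freeHomEquiv.symm fun j => overSection (x j)))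
    {Z : EtOver X} (t : Z ⟶ Y) :
    gen (M := M) ⟨J, fun j => overSection (x j), h⟩ t = fun j => res M t (x j) := rfl

/-- The value of a section of `M.over Y`. -/
noncomputable def secAt (m : (M.over Y).sections) {Z : EtOver X} (t : Z ⟶ Y) : sectModEt M Z :=
  m.1 (op (Over.mk t))

theorem freeHom_fc {J : Type (u + 1)} (s : J → (M.over Y).sections) {Z : EtOver X} (t : Z ⟶ Y) (c : J →₀ Γo Z) :
    (((M.over Y).freeHomEquiv.symm s).val.app (op (Over.mk t)) (fc t c) : sectModEt M Z) =
      Finsupp.linearCombination (Γo Z) (fun j => secAt (s j) t) c := by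
  induction c using Finsupp.induction_linear with
  | zero => simp only [fc, upC, Finsupp.mapRange_zero, map_zero]
  | add a b ha hb =>
    rw [map_add, ← ha, ← hb, fc, upC_add, map_add, map_add]
    rfl
  | single i r =>
    rw [Finsupp.linearCombination_single, fc, upC, Finsupp.mapRange_single, combTo_single]
    refine ((((M.over Y).freeHomEquiv.symm s).val.app _).hom.map_smul _ _).trans ?_
    rw [π_basisAt s t i]
    rfl

theorem π_fcSection (σ : (M.over Y).GeneratingSections) (r : σ.I →₀ Γo Y)
    (hr : Finsupp.linearCombination (Γo Y) (gen σ (𝟙 Y)) r = 0) (V : (Over Y)ᵒᵖ) :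
    σ.π.val.app V ((fcSection r).1 V) = 0 := by
  refine (PresheafOfModules.naturality_apply σ.π.val (Over.mkIdTerminal.from V.unop).op (fc (𝟙 Y) r)).trans ?_
  have h : σ.π.val.app (op (Over.mk (𝟙 Y))) (fc (𝟙 Y) r) = 0 := (π_fc σ (𝟙 Y) r).trans hr
  rw [h]
  exact map_zero _

theorem fcSection_apply {J : Type (u + 1)} (r : J →₀ Γo Y) {Z : EtOver X} (t : Z ⟶ Y) :
    (fcSection r).1 (op (Over.mk t)) = fc t (r.mapRange (γ t) (map_zero _)) := by
  have key : ∀ {W : EtOver X} (t' : W ⟶ Y) (k : Z ⟶ W) (f : Over.mk t ⟶ Over.mk t') (c : J →₀ Γo W),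
      f.left = k → k ≫ t' = t → (freeU Y J).val.map f.op (fc t' c) = fc t (c.mapRange (γ k) (map_zero _)) := by
    intro W t' k f c hk ht
    subst ht
    obtain rfl : f = Over.homMk k := Over.OverMorphism.ext hk
    exact fc_res t' k c
  refine key (𝟙 Y) t (Over.mkIdTerminal.from (Over.mk t)) r ?_ (Category.comp_id t)
  exact ((Category.comp_id _).symm.trans (Over.w (Over.mkIdTerminal.from (Over.mk t))))

theorem exists_relation_coeff [IsAffine Y.obj.left.left] (hY : Good M Y) {J K : Type (u + 1)}
    (x : J → sectModEt M Y) (hx : Submodule.span (Γo Y) (Set.range x) = ⊤) (r : K → (J →₀ Γo Y))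
    (hr : Submodule.span (Γo Y) (Set.range r) = (Finsupp.linearCombination (Γo Y) x).ker)
    {Z : EtOver X} [IsAffine Z.obj.left.left] (t : Z ⟶ Y) (c : J →₀ Γo Z)
    (hc : Finsupp.linearCombination (Γo Z) (fun j => res M t (x j)) c = 0) :
    ∃ d : K →₀ Γo Z, Finsupp.linearCombination (Γo Z) (fun k => (r k).mapRange (γ t) (map_zero _)) d = c := by
  have h0 : lift t (Finsupp.linearCombination (Γo Y) x) (phi t J c) = 0 := by
    rw [lift_linearCombination t x (phi t J c) c rfl]
    exact hc
  rw [lift_ext_id] at h0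
  have h1 := (hY t).1 (h0.trans (map_zero _).symm)
  have hxs : Function.Surjective (Finsupp.linearCombination (Γo Y) x) :=
    LinearMap.range_eq_top.1 (by rw [Finsupp.range_linearCombination, hx])
  have hex : Function.Exact (Finsupp.linearCombination (Γo Y) r) (Finsupp.linearCombination (Γo Y) x) := by
    rw [LinearMap.exact_iff, Finsupp.range_linearCombination, hr]
  obtain ⟨y, hy⟩ := (lTensor_exact (Tw t) hex hxs _).1 h1
  obtain ⟨d, rfl⟩ := exists_coeff t y
  refine ⟨d, phi_injective t J ?_⟩
  rw [← lTensor_linearCombination_phi]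
  exact hy

theorem exists_lift_of_relations {A B : SheafOfModules.{u + 1} ((OEtRing X).over Y)} {J K : Type (u + 1)}
    (p : freeU Y J ⟶ B) (ι : A ⟶ freeU Y J) (hι : ι ≫ p = 0) (l : freeU Y K ⟶ A) {Z : EtOver X}
    [IsAffine Z.obj.left.left] (t : Z ⟶ Y)
    (hinj' : Function.Injective (ι.val.app (op (Over.mk t))))
    (w : A.val.obj (op (Over.mk t))) (rk : K → (J →₀ Γo Z))
    (hl : ∀ k, fc t (rk k) = ι.val.app (op (Over.mk t)) ((A.freeHomEquiv l k).1 (op (Over.mk t))))
    (H : ∀ c, p.val.app (op (Over.mk t)) (fc t c) = 0 → ∃ d, Finsupp.linearCombination (Γo Z) rk d = c) :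
    ∃ a, l.val.app (op (Over.mk t)) a = w := by
  obtain ⟨c, hc⟩ := fc_surjective t (ι.val.app (op (Over.mk t)) w)
  have h0 : p.val.app (op (Over.mk t)) (fc t c) = 0 := by
    rw [hc]
    exact congrArg (fun q => q.val.app (op (Over.mk t)) w) hι
  obtain ⟨d, hd⟩ := H c h0
  refine ⟨fc t d, hinj' ?_⟩
  rw [← hc, ← hd]
  have h := map_fc_of_basis t (A.freeHomEquiv l) ι rk hl d
  rw [Equiv.symm_apply_apply] at h
  exact h

theorem exists_presentation_of_good [IsAffine Y.obj.left.left] (hY : Good M Y) {J K : Type (u + 1)}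
    (x : J → sectModEt M Y) (hx : Submodule.span (Γo Y) (Set.range x) = ⊤) (r : K → (J →₀ Γo Y))
    (hr : Submodule.span (Γo Y) (Set.range r) = (Finsupp.linearCombination (Γo Y) x).ker) :
    ∃ P : (M.over Y).Presentation, P.generators.I = J ∧ P.relations.I = K := by
  classical
  let s := fun j => overSection (x j)
  let π := (M.over Y).freeHomEquiv.symm s
  have hxs : Function.Surjective (Finsupp.linearCombination (Γo Y) x) :=
    LinearMap.range_eq_top.1 (by rw [Finsupp.range_linearCombination, hx])
  have hπ : Epi π := by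
    refine epi_of_locallySurjective π (locallySurjective_of_affine π fun Z _ t b => ?_)
    obtain ⟨z, hz⟩ := (hY t).2 (b : sectModEt M Z)
    obtain ⟨z', rfl⟩ := LinearMap.lTensor_surjective (Tw t) hxs z
    obtain ⟨c, rfl⟩ := exists_coeff t z'
    refine ⟨fc t c, ?_⟩
    rw [← lift_ext_id t (Finsupp.linearCombination (Γo Y) x), lift_linearCombination t x _ c rfl] at hz
    rw [← hz]
    exact freeHom_fc s t c
  let σ : (M.over Y).GeneratingSections := ⟨J, s, hπ⟩
  have hσ : ∀ {Z : EtOver X} (t : Z ⟶ Y), gen σ t = fun j => res M t (x j) := fun t => rfl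
  let τ : freeU Y K ⟶ freeU Y J := (freeU Y J).freeHomEquiv.symm fun k => fcSection (r k)
  have hτ : τ ≫ σ.π = 0 := by
    apply (M.over Y).freeHomEquiv.injective
    funext k
    refine PresheafOfModules.sections_ext _ _ fun V => ?_
    rw [SheafOfModules.freeHomEquiv_comp_apply, Equiv.apply_symm_apply]
    have hk : Finsupp.linearCombination (Γo Y) (gen σ (𝟙 Y)) (r k) = 0 := by
      rw [hσ, show (fun j => res M (𝟙 Y) (x j)) = x from funext fun j => res_id M Y (x j)]
      exact LinearMap.mem_ker.1 (hr ▸ Submodule.subset_span ⟨k, rfl⟩)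
    exact π_fcSection σ (r k) hk V
  let l := kernel.lift σ.π τ hτ
  have hl : ∀ k {Z : EtOver X} (t : Z ⟶ Y),
      fc t ((r k).mapRange (γ t) (map_zero _)) = (kernel.ι σ.π).val.app (op (Over.mk t))
        ((((kernel σ.π)).freeHomEquiv l k).1 (op (Over.mk t))) := by
    intro k Z t
    have h : SheafOfModules.sectionsMap (kernel.ι σ.π) ((kernel σ.π).freeHomEquiv l k) = fcSection (r k) := by
      rw [← SheafOfModules.freeHomEquiv_comp_apply, kernel.lift_ι, Equiv.apply_symm_apply]
    exact ((fcSection_apply (r k) t).symm).trans (congrArg (fun q => q.1 (op (Over.mk t))) h.symm)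
  have hepi : Epi l := epi_of_locallySurjective l (locallySurjective_of_affine l fun Z _ t w =>
    exists_lift_of_relations σ.π (kernel.ι σ.π) (kernel.condition σ.π) l t (kernel_ι_injective σ.π) w
      (fun k => (r k).mapRange (γ t) (map_zero _)) (fun k => hl k t) fun c hc =>
        exists_relation_coeff hY x hx r hr t c ((congrArg (fun g => Finsupp.linearCombination (Γo Z) g c) (hσ t).symm).trans
          ((π_fc σ t c).symm.trans hc)))
  exact ⟨⟨σ, ⟨K, (kernel σ.π).freeHomEquiv l, by rw [Equiv.symm_apply_apply]; exact hepi⟩⟩, rfl, rfl⟩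

/-- A module compatible with base change on all affine objects is quasi-coherent. -/
theorem isQuasicoherent_of_good (h : ∀ (E : EtOver X) [IsAffine E.obj.left.left], Good M E) : M.IsQuasicoherent := by
  let Ob := {E : EtOver X // IsAffine E.obj.left.left}
  have hP : ∀ E : Ob, Nonempty (M.over E.1).Presentation := fun E => by
    have : IsAffine E.1.obj.left.left := E.2
    let x : sectModEt M E.1 → sectModEt M E.1 := id
    let r : (LinearMap.ker (Finsupp.linearCombination (Γo E.1) x)) → (sectModEt M E.1 →₀ Γo E.1) := Subtype.val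
    obtain ⟨P, -, -⟩ := exists_presentation_of_good (h E.1) x
      (show Submodule.span (Γo E.1) (Set.range x) = ⊤ by rw [Set.range_id]; exact Submodule.span_univ) r
      (show Submodule.span (Γo E.1) (Set.range r) = (Finsupp.linearCombination (Γo E.1) x).ker by
        rw [show Set.range r = ((Finsupp.linearCombination (Γo E.1) x).ker : Set (sectModEt M E.1 →₀ Γo E.1)) from
          Subtype.range_coe, Submodule.span_eq])
    exact ⟨P⟩
  suffices hc : (etTop X).CoversTop (fun E : Ob => E.1) by
    exact (SheafOfModules.QuasicoherentData.mk (M := M) Ob (fun E : Ob => E.1) hc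
      fun E : Ob => (hP E).some).isQuasicoherent
  intro W
  refine (etTop X).superset_covering ?_ (ofArrows_mem_etTop
    (fun O : W.obj.left.left.affineOpens => AlgSpEt14.openSub W O.1) (fun O => AlgSpEt14.openSubι W O.1) fun x => ?_)
  · rw [Sieve.generate_le_iff]
    rintro Z k ⟨O⟩
    exact (Sieve.mem_ofObjects_iff ..).2 ⟨(⟨AlgSpEt14.openSub W O.1, O.2⟩ : Ob), ⟨𝟙 _⟩⟩
  · obtain ⟨V, hV, hxV, -⟩ := W.obj.left.left.isBasis_affineOpens.exists_subset_of_mem_open (Set.mem_univ x) isOpen_univ
    obtain ⟨V, hV', rfl⟩ := hV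
    exact ⟨⟨V, hV'⟩, (AlgSpEt14.range_openSubι W V).ge hxV⟩

end Groth.Agent.QcohEt15
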