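import Groth.Agent.Lib.QcohEt15.H1
import Groth.Prelude.Def_AlgSp4
import Mathlib.RingTheory.IsTensorProduct

/-!
# Direct images along affine morphisms
-/

universe u v

set_option backward.isDefEq.respectTransparency false

open CategoryTheory CategoryTheory.Limits AlgebraicGeometry Opposite TensorProduct

namespace Groth.Agent.QcohEt15

open AlgSp

variable {S : Scheme.{u}} {X Y : Sp S} {f : X ⟶ Y} (hf : Representable f)

theorem isAffineMor_of_isFiniteMor (hfin : IsFiniteMor f) : IsAffineMor f := fun _ hZ g => by
  obtain ⟨W, i, fst, sq, hW, -⟩ := hfin hZ g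
  exact ⟨W, i, fst, sq, hW⟩

theorem isAffine_bcObj (haff : IsAffineMor f) (E : EtOver Y) [hE : IsAffine E.obj.left.left] :
    IsAffine (EtOver.bcObj hf E).obj.left.left := by
  obtain ⟨W, i, fst, sq, hW⟩ := haff hE E.obj.hom
  have e : (EtOver.bcObj hf E).obj.left ≅ W :=
    (yon S).preimageIso ((EtOver.isPullback_bcObj hf E).isoIsPullback _ _ sq)
  have : IsAffine ((Over.forget S).obj W) := hW
  exact IsAffine.of_isIso ((Over.forget S).map e.hom)

/-- Functions on `E` to functions on its base change. -/
noncomputable abbrev bγ (E : EtOver Y) : Γo E →+* Γo (EtOver.bcObj hf E) :=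
  (EtOver.bcπ hf E).left.appTop.hom

theorem finite_bγ (hfin : IsFiniteMor f) (E : EtOver Y) [hE : IsAffine E.obj.left.left] :
    (bγ hf E).Finite := by
  obtain ⟨W, i, fst, sq, hW, hi⟩ := hfin hE E.obj.hom
  let e := (EtOver.isPullback_bcObj hf E).isoIsPullback _ _ sq
  have he : ((yon S).preimageIso e).hom ≫ i = EtOver.bcπ hf E := (yon S).map_injective (by
    rw [Functor.map_comp, Functor.preimageIso_hom, Functor.map_preimage]
    exact (EtOver.isPullback_bcObj hf E).isoIsPullback_hom_snd _ _ sq)
  have : IsIso ((yon S).preimageIso e).hom.left := inferInstanceAs (IsIso ((Over.forget S).map _))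
  have hfi : IsFinite (EtOver.bcπ hf E).left := by
    rw [← he, Over.comp_left]
    infer_instance
  have := isAffine_bcObj hf (isAffineMor_of_isFiniteMor hfin) E
  exact (HasAffineProperty.iff_of_isAffine (P := @IsFinite)).1 hfi |>.2

variable {M : ModEt X}

/-- Sections of a direct image are sections over the base change. -/
noncomputable def pushOut {E : EtOver Y} (m : sectModEt ((pushModEt hf).obj M) E) :
    sectModEt M (EtOver.bcObj hf E) := m

/-- The inverse of `pushOut`. -/
noncomputable def pushIn {E : EtOver Y} (m : sectModEt M (EtOver.bcObj hf E)) :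
    sectModEt ((pushModEt hf).obj M) E := m

theorem pushOut_smul {E : EtOver Y} (r : Γo E) (m : sectModEt ((pushModEt hf).obj M) E) :
    pushOut hf (r • m) = bγ hf E r • pushOut hf m := rfl

theorem pushOut_res {E E' : EtOver Y} (g : E' ⟶ E) (m : sectModEt ((pushModEt hf).obj M) E) :
    pushOut hf (res ((pushModEt hf).obj M) g m) = res M (EtOver.bcMap hf g) (pushOut hf m) := rfl

theorem bγ_natural {E E' : EtOver Y} (g : E' ⟶ E) (r : Γo E) :
    γ (EtOver.bcMap hf g) (bγ hf E r) = bγ hf E' (γ g r) := by
  have h := (EtOver.isPullback_bcMap_left hf g).w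
  have h' := congrArg (fun q => q.appTop.hom r) h
  simp only [Scheme.Hom.comp_appTop, CommRingCat.hom_comp, RingHom.comp_apply] at h'
  exact h'

/-- Direct images along affine morphisms preserve compatibility with base change. -/
theorem good_push (haff : IsAffineMor f) {E : EtOver Y} [IsAffine E.obj.left.left]
    (hM : Good M (EtOver.bcObj hf E)) : Good ((pushModEt hf).obj M) E := by
  intro E' _ g
  let B := EtOver.bcObj hf E
  let B' := EtOver.bcObj hf E'
  let G : B' ⟶ B := EtOver.bcMap hf g
  have := isAffine_bcObj hf haff E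
  have := isAffine_bcObj hf haff E'
  letI : Algebra (Γo E) (Γo B) := (bγ hf E).toAlgebra
  letI : Algebra (Γo E) (Tw G) := ((γ G).comp (bγ hf E)).toAlgebra
  letI : Algebra (Tw g) (Tw G) := (bγ hf E').toAlgebra
  have : IsScalarTower (Γo E) (Γo B) (Tw G) := IsScalarTower.of_algebraMap_eq' rfl
  have : IsScalarTower (Γo E) (Tw g) (Tw G) := IsScalarTower.of_algebraMap_eq fun r => bγ_natural hf g r
  have hP : Algebra.IsPushout (Γo E) (Tw g) (Γo B) (Tw G) := by
    refine CommRingCat.isPushout_iff_isPushout.1 ?_
    exact (isPushout_appTop_of_isPullback (EtOver.isPullback_bcMap_left hf g)).flip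
  letI : Module (Γo E) (sectModEt M B) := Module.compHom _ (bγ hf E)
  have : IsScalarTower (Γo E) (Γo B) (sectModEt M B) :=
    ⟨fun r b m => mul_smul (bγ hf E r) b m⟩
  let e := Algebra.IsPushout.cancelBaseChange (Γo E) (Tw g) (Γo B) (Tw G) (sectModEt M B)
  let t : Tw g ⊗[Γo E] sectModEt ((pushModEt hf).obj M) E ≃ₗ[Γo E] Tw g ⊗[Γo E] sectModEt M B :=
    LinearEquiv.lTensor (Tw g)
      { toFun := fun m => pushOut hf m
        invFun := fun m => pushIn hf m
        left_inv := fun _ => rfl
        right_inv := fun _ => rfl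
        map_add' := fun _ _ => rfl
        map_smul' := fun r m => pushOut_smul hf r m }
  have key : ∀ z, pushOut hf (lift g (LinearMap.id : sectModEt ((pushModEt hf).obj M) E →ₗ[Γo E] _) z) =
      lift G (LinearMap.id : sectModEt M B →ₗ[Γo B] _) (e.symm (t z)) := by
    intro z
    induction z using TensorProduct.induction_on with
    | zero => rw [map_zero, map_zero, map_zero, map_zero]; rfl
    | tmul a n =>
      rw [lift_tmul, pushOut_smul, LinearMap.id_apply, pushOut_res]
      simp only [t, LinearEquiv.lTensor_tmul, LinearEquiv.coe_mk, e, Algebra.IsPushout.cancelBaseChange_symm_tmul]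
      rfl
    | add x y hx hy => rw [map_add, map_add, map_add, map_add, ← hx, ← hy]; rfl
  have hb : Function.Bijective fun z => pushOut hf
      (lift g (LinearMap.id : sectModEt ((pushModEt hf).obj M) E →ₗ[Γo E] _) z) := by
    rw [show (fun z => pushOut hf (lift g (LinearMap.id : sectModEt ((pushModEt hf).obj M) E →ₗ[Γo E] _) z)) =
      lift G (LinearMap.id : sectModEt M B →ₗ[Γo B] _) ∘ e.symm ∘ t from funext key]
    exact Function.Bijective.comp (hM G) (Function.Bijective.comp e.symm.bijective t.bijective)
  exact hb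

theorem good_push_of_isQuasicoherent (haff : IsAffineMor f) [M.IsQuasicoherent] (E : EtOver Y)
    [IsAffine E.obj.left.left] : Good ((pushModEt hf).obj M) E :=
  have := isAffine_bcObj hf haff E
  good_push hf haff (good_of_isQuasicoherent _)

theorem isQuasicoherent_push (haff : IsAffineMor f) [M.IsQuasicoherent] :
    ((pushModEt hf).obj M).IsQuasicoherent :=
  isQuasicoherent_of_good fun E _ => good_push_of_isQuasicoherent hf haff E

theorem finite_push (hfin : IsFiniteMor f) (E : EtOver Y) [IsAffine E.obj.left.left]
    [Module.Finite (Γo (EtOver.bcObj hf E)) (sectModEt M (EtOver.bcObj hf E))] :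
    Module.Finite (Γo E) (sectModEt ((pushModEt hf).obj M) E) := by
  let B := EtOver.bcObj hf E
  letI : Algebra (Γo E) (Γo B) := (bγ hf E).toAlgebra
  have : Module.Finite (Γo E) (Γo B) := finite_bγ hf hfin E
  letI : Module (Γo E) (sectModEt M B) := Module.compHom _ (bγ hf E)
  have : IsScalarTower (Γo E) (Γo B) (sectModEt M B) := ⟨fun r b m => mul_smul (bγ hf E r) b m⟩
  have : Module.Finite (Γo E) (sectModEt M B) := Module.Finite.trans (Γo B) _
  exact Module.Finite.equiv
    ({ toFun := fun m => pushIn hf m
       invFun := fun m => pushOut hf m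
       left_inv := fun _ => rfl
       right_inv := fun _ => rfl
       map_add' := fun _ _ => rfl
       map_smul' := fun _ _ => rfl } : sectModEt M B ≃ₗ[Γo E] sectModEt ((pushModEt hf).obj M) E)

end Groth.Agent.QcohEt15
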