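import Groth.Prelude.Def_AlgSpModX
import Groth.Agent.Lib.AlgSpEt.Sections
import Groth.Agent.Lib.AlgSpEt14.Basic
import Groth.Agent.Lib.AlgSpace.Coprod

/-!
# Affine objects of the small étale site
-/

universe u

set_option backward.isDefEq.respectTransparency false

open CategoryTheory CategoryTheory.Limits AlgebraicGeometry Opposite

namespace Groth.Agent.QcohEt15

open AlgSp Groth.Agent.AlgSpEt Groth.Agent.AlgSpace

variable {S : Scheme.{u}} {X : Sp S}

/-- Global functions on an object. -/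
abbrev Γo (E : EtOver X) : Type u := Γ(E.obj.left.left, ⊤)

/-- Pullback of functions along a morphism of the site. -/
noncomputable abbrev γ {E E' : EtOver X} (g : E' ⟶ E) : Γo E →+* Γo E' := g.hom.left.left.appTop.hom

theorem γ_comp {E E' E'' : EtOver X} (g : E' ⟶ E) (h : E'' ⟶ E') : γ (h ≫ g) = (γ h).comp (γ g) := by
  change (h.hom.left.left ≫ g.hom.left.left).appTop.hom = _
  rw [Scheme.Hom.comp_appTop]
  rfl

theorem γ_id (E : EtOver X) (a : Γo E) : γ (𝟙 E) a = a := rfl

/-- Sections of a module over an object are a module over the functions on it. -/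
noncomputable scoped instance sectModule (M : ModEt X) (E : EtOver X) : Module (Γo E) (sectModEt M E) :=
  Module.compHom _ (upΓ E)

theorem smul_def {M : ModEt X} {E : EtOver X} (a : Γo E) (m : sectModEt M E) : a • m = upΓ E a • m := rfl

/-- Restriction of sections. -/
noncomputable def res (M : ModEt X) {E E' : EtOver X} (g : E' ⟶ E) : sectModEt M E →+ sectModEt M E' :=
  (M.val.presheaf.map g.op).hom

theorem res_smul (M : ModEt X) {E E' : EtOver X} (g : E' ⟶ E) (a : Γo E) (m : sectModEt M E) :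
    res M g (a • m) = γ g a • res M g m :=
  M.val.map_smul g.op (upΓ E a) m

theorem res_comp (M : ModEt X) {E E' E'' : EtOver X} (g : E' ⟶ E) (h : E'' ⟶ E') (m : sectModEt M E) :
    res M (h ≫ g) m = res M h (res M g m) :=
  M.val.map_comp_apply g.op h.op m

theorem res_id (M : ModEt X) (E : EtOver X) (m : sectModEt M E) : res M (𝟙 E) m = m := by
  change (M.val.presheaf.map (𝟙 (op E))).hom m = m
  rw [M.val.presheaf.map_id]
  rfl

theorem res_hom {M N : ModEt X} (φ : M ⟶ N) {E E' : EtOver X} (g : E' ⟶ E) (m : sectModEt M E) :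
    φ.val.app (op E') (res M g m) = res N g (φ.val.app (op E) m) :=
  PresheafOfModules.naturality_apply φ.val g.op m

theorem hom_smul {M N : ModEt X} (φ : M ⟶ N) {E : EtOver X} (a : Γo E) (m : sectModEt M E) :
    (φ.val.app (op E) (a • m) : sectModEt N E) = a • (φ.val.app (op E) m : sectModEt N E) :=
  (φ.val.app (op E)).hom.map_smul (upΓ E a) m

/-- The sheaf of types of sections. -/
theorem isSheaf_sections (M : ModEt X) :
    Presieve.IsSheaf (etTop X) (M.val.presheaf ⋙ CategoryTheory.forget AddCommGrpCat.{u + 1}) :=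
  (isSheaf_iff_isSheaf_of_type _ _).1 (Presheaf.isSheaf_comp_of_isSheaf (etTop X) M.val.presheaf
    (CategoryTheory.forget AddCommGrpCat.{u + 1}) M.isSheaf)

theorem sections_ext_family (M : ModEt X) {E : EtOver X} {ι : Type*} (Y : ι → EtOver X) (g : ∀ i, Y i ⟶ E)
    (h : ∀ x : ↥E.obj.left.left, ∃ i, x ∈ Set.range (g i).hom.left.left) {m m' : sectModEt M E}
    (e : ∀ i, res M (g i) m = res M (g i) m') : m = m' :=
  ((Presieve.isSheafFor_iff_generate _).2 (isSheaf_sections M _ (ofArrows_mem_etTop Y g h))).isSeparatedFor.ext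
    fun _ _ hf => by obtain ⟨i⟩ := hf; exact e i

theorem exists_glue_family (M : ModEt X) {E : EtOver X} {ι : Type (u + 1)} (Y : ι → EtOver X) (g : ∀ i, Y i ⟶ E)
    (h : ∀ x : ↥E.obj.left.left, ∃ i, x ∈ Set.range (g i).hom.left.left) (m : ∀ i, sectModEt M (Y i))
    (hm : ∀ i j (Z : EtOver X) (a : Z ⟶ Y i) (b : Z ⟶ Y j), a ≫ g i = b ≫ g j →
      res M a (m i) = res M b (m j)) :
    ∃ m₀ : sectModEt M E, ∀ i, res M (g i) m₀ = m i := by
  obtain ⟨x, hx, -⟩ := (Presieve.isSheafFor_arrows_iff _ _).1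
    ((Presieve.isSheafFor_iff_generate _).2 (isSheaf_sections M _ (ofArrows_mem_etTop Y g h))) m hm
  exact ⟨x, hx⟩

theorem sections_ext_single (M : ModEt X) {E E' : EtOver X} (g : E' ⟶ E) (h : Surjective g.hom.left.left)
    {m m' : sectModEt M E} (e : res M g m = res M g m') : m = m' :=
  sections_ext_family M (fun _ : PUnit.{1} => E') (fun _ => g) (fun x => ⟨⟨⟩, h.surj x⟩) fun _ => e

theorem sections_subsingleton_of_isEmpty (M : ModEt X) (E : EtOver X) [IsEmpty ↥E.obj.left.left] :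
    Subsingleton (sectModEt M E) :=
  ⟨fun _ _ => sections_ext_family M (PEmpty.elim.{_, 1}) (fun i => i.elim) isEmptyElim fun i => i.elim⟩

theorem exists_glue_single (M : ModEt X) {E E' : EtOver X} (g : E' ⟶ E) (h : Surjective g.hom.left.left)
    (m : sectModEt M E') (hm : res M (EtOver.pullbackFst g g) m = res M (EtOver.pullbackSnd g g) m) :
    ∃ m₀ : sectModEt M E, res M g m₀ = m := by
  obtain ⟨m₀, hm₀⟩ := exists_glue_family M (fun _ : PUnit.{u + 2} => E') (fun _ => g) (fun x => ⟨⟨⟩, h.surj x⟩)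
    (fun _ => m) fun _ _ Z a b e => by
      have h₁ := (EtOver.isPullback g g).lift_fst a b e
      have h₂ := (EtOver.isPullback g g).lift_snd a b e
      rw [← h₁, res_comp, hm, ← res_comp, h₂]
  exact ⟨m₀, hm₀ ⟨⟩⟩

theorem flat_γ {E E' : EtOver X} (g : E' ⟶ E) [IsAffine E.obj.left.left] [IsAffine E'.obj.left.left] :
    (γ g).Flat := by
  have := EtOver.etale_left g
  exact HasRingHomProperty.appTop @Flat g.hom.left.left inferInstance

theorem faithfullyFlat_γ {E E' : EtOver X} (g : E' ⟶ E) [IsAffine E.obj.left.left] [IsAffine E'.obj.left.left]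
    (h : Surjective g.hom.left.left) : (γ g).FaithfullyFlat := by
  have := EtOver.etale_left g
  refine (flat_and_surjective_SpecMap_iff g.hom.left.left.appTop).1 ?_
  have e : Spec.map g.hom.left.left.appTop =
      E'.obj.left.left.isoSpec.inv ≫ g.hom.left.left ≫ E.obj.left.left.isoSpec.hom := by
    rw [← Scheme.isoSpec_inv_naturality_assoc, Iso.inv_hom_id, Category.comp_id]
  rw [e]
  have : Surjective (g.hom.left.left) := h
  exact ⟨inferInstance, inferInstance⟩

instance isAffine_pullbackObj {E₁ E₂ E₀ : EtOver X} (g₁ : E₁ ⟶ E₀) (g₂ : E₂ ⟶ E₀) [IsAffine E₁.obj.left.left]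
    [IsAffine E₂.obj.left.left] [IsAffine E₀.obj.left.left] :
    IsAffine (EtOver.pullbackObj g₁ g₂).obj.left.left :=
  @IsAffine.of_isPullback _ _ _ _ _ _ _ _ (show IsAffine ((Over.forget S).obj E₁.obj.left) from ‹_›) (by
    have : IsAffine ((Over.forget S).obj E₂.obj.left) := ‹_›
    have : IsAffine ((Over.forget S).obj E₀.obj.left) := ‹_›
    infer_instance) ((IsPullback.of_hasPullback g₁.hom.left g₂.hom.left).map (Over.forget S))

theorem isPushout_γ {E₁ E₂ E₀ : EtOver X} (g₁ : E₁ ⟶ E₀) (g₂ : E₂ ⟶ E₀) [IsAffine E₁.obj.left.left]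
    [IsAffine E₂.obj.left.left] [IsAffine E₀.obj.left.left] :
    IsPushout g₁.hom.left.left.appTop g₂.hom.left.left.appTop
      (EtOver.pullbackFst g₁ g₂).hom.left.left.appTop (EtOver.pullbackSnd g₁ g₂).hom.left.left.appTop :=
  @isPushout_appTop_of_isPullback _ _ _ _ _ _ _ _ (show IsAffine ((Over.forget S).obj E₁.obj.left) from ‹_›)
    (show IsAffine ((Over.forget S).obj E₂.obj.left) from ‹_›)
    (show IsAffine ((Over.forget S).obj E₀.obj.left) from ‹_›)
    ((IsPullback.of_hasPullback g₁.hom.left g₂.hom.left).map (Over.forget S))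

/-- A finite disjoint union in the site. -/
theorem exists_coprod {κ : Type u} [Finite κ] (E : EtOver X) (Y : κ → EtOver X) (g : ∀ k, Y k ⟶ E)
    [∀ k, IsAffine (Y k).obj.left.left] :
    ∃ (E₀ : EtOver X) (_ : IsAffine E₀.obj.left.left) (ι : ∀ k, Y k ⟶ E₀) (h : E₀ ⟶ E),
      (∀ k, ι k ≫ h = g k) ∧ (∀ k, IsOpenImmersion (ι k).hom.left.left) ∧
      (∀ x : ↥E₀.obj.left.left, ∃ k, x ∈ Set.range (ι k).hom.left.left) ∧
      (∀ k l (Z : EtOver X) (a : Z ⟶ Y k) (b : Z ⟶ Y l), a ≫ ι k = b ≫ ι l → k ≠ l → IsEmpty ↥Z.obj.left.left) := by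
  let T : Scheme.{u} := ∐ fun k => (Y k).obj.left.left
  have hT : IsAffine T := inferInstanceAs (IsAffine (∐ fun k => (Y k).obj.left.left))
  let h₀ : T ⟶ E.obj.left.left := Sigma.desc fun k => (g k).hom.left.left
  have hι₀ : ∀ k, Sigma.ι (fun k => (Y k).obj.left.left) k ≫ h₀ = (g k).hom.left.left := fun k => Sigma.ι_desc _ _
  let T' : Over S := Over.mk (h₀ ≫ E.obj.left.hom)
  let c : ∀ k, (Y k).obj.left ⟶ T' := fun k => Over.homMk (Sigma.ι (fun k => (Y k).obj.left.left) k) (by
    change _ ≫ h₀ ≫ _ = _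
    rw [reassoc_of% (hι₀ k)]
    exact Over.w (g k).hom.left)
  have hop : ∀ k, IsOpenImmersion (c k).left := fun k =>
    inferInstanceAs (IsOpenImmersion (Sigma.ι (fun k => (Y k).obj.left.left) k))
  have hc : ∀ t : ↥T'.left, ∃ k v, (c k).left v = t := fun t => by
    obtain ⟨⟨k, v⟩, hv⟩ := (sigmaMk (fun k => (Y k).obj.left.left)).surjective t
    exact ⟨k, v, by rw [← hv, sigmaMk_mk]; rfl⟩
  let hT' : T' ⟶ E.obj.left := Over.homMk h₀ rfl
  have hck : ∀ k, c k ≫ hT' = (g k).hom.left := fun k => Over.OverMorphism.ext (hι₀ k)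
  have het : RepWith @Etale ((yon S).map hT' ≫ E.obj.hom) := by
    refine repWith_comp ((repWith_yon_map_iff _ _).2 ?_) E.property
    exact IsZariskiLocalAtSource.sigmaDesc fun k => EtOver.etale_left (g k)
  refine ⟨EtOver.mk ((yon S).map hT' ≫ E.obj.hom) het, hT, fun k => EtOver.homMk (c k) ?_,
    EtOver.homMk hT' rfl, fun k => EtOver.hom_ext _ _ (hck k), hop, fun x => ?_, fun k l Z a b e hkl => ?_⟩
  · change (yon S).map (c k) ≫ (yon S).map hT' ≫ E.obj.hom = _
    rw [← Functor.map_comp_assoc, hck]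
    exact EtOver.w (g k)
  · obtain ⟨k, v, hv⟩ := hc x
    exact ⟨k, v, hv⟩
  · refine ⟨fun z => ?_⟩
    have := congrArg (fun q => q.hom.left.left z) e
    change Sigma.ι (fun k => (Y k).obj.left.left) k (a.hom.left.left z) =
      Sigma.ι (fun k => (Y k).obj.left.left) l (b.hom.left.left z) at this
    rw [← sigmaMk_mk, ← sigmaMk_mk] at this
    exact hkl (congrArg Sigma.fst ((sigmaMk _).injective this))

/-- A covering sieve of an affine object contains a finite jointly surjective family of affine objects. -/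
theorem exists_affine_family {E : EtOver X} [IsAffine E.obj.left.left] (R : Sieve E) (hR : R ∈ etTop X E) :
    ∃ (κ : Type u) (_ : Finite κ) (Y : κ → EtOver X) (g : ∀ k, Y k ⟶ E),
      (∀ k, IsAffine (Y k).obj.left.left) ∧ (∀ k, R (g k)) ∧
      ∀ x : ↥E.obj.left.left, ∃ k, x ∈ Set.range (g k).hom.left.left := by
  have key : ∀ x : ↥E.obj.left.left, ∃ (Y : EtOver X) (g : Y ⟶ E), IsAffine Y.obj.left.left ∧ R g ∧
      x ∈ Set.range g.hom.left.left := fun x => by
    obtain ⟨R', hR', hle⟩ := (Precoverage.mem_toGrothendieck_iff_of_isStableUnderComposition).1 hR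
    obtain ⟨ι, Z, f, rfl⟩ := R'.exists_eq_ofArrows
    obtain ⟨i, v, hv⟩ := (ofArrows_mem_etPre_iff Z f).1 hR' x
    obtain ⟨V, hV, hvV, -⟩ :=
      (Z i).obj.left.left.isBasis_affineOpens.exists_subset_of_mem_open (Set.mem_univ v) isOpen_univ
    obtain ⟨V, hV', rfl⟩ := hV
    refine ⟨AlgSpEt14.openSub (Z i) V, AlgSpEt14.openSubι (Z i) V ≫ f i, hV', R.downward_closed
      (hle _ _ (Presieve.ofArrows.mk i)) _, ?_⟩
    obtain ⟨w, hw⟩ := (AlgSpEt14.range_openSubι (Z i) V).ge hvV
    refine ⟨w, ?_⟩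
    change (f i).hom.left.left ((AlgSpEt14.openSubι (Z i) V).hom.left.left w) = x
    rw [hw, hv]
  choose Y g hY hg hx using key
  have hopen : ∀ x, IsOpen (Set.range (g x).hom.left.left) := fun x => by
    have := EtOver.etale_left (g x)
    exact (g x).hom.left.left.isOpenMap.isOpen_range
  obtain ⟨t, ht⟩ := isCompact_univ.elim_finite_subcover (fun x => Set.range (g x).hom.left.left) hopen
    fun x _ => Set.mem_iUnion.2 ⟨x, hx x⟩
  refine ⟨t, inferInstance, fun k => Y k.1, fun k => g k.1, fun k => hY _, fun k => hg _, fun x => ?_⟩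
  obtain ⟨y, hy, hxy⟩ := Set.mem_iUnion₂.1 (ht (Set.mem_univ x))
  exact ⟨⟨y, hy⟩, hxy⟩

end Groth.Agent.QcohEt15
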