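import Groth.Agent.Lib.QcohEt15.Descent
import Groth.Agent.Lib.QcohEt15.Free

/-!
# Quasi-coherent modules are compatible with base change between affine objects
-/

universe u v

set_option backward.isDefEq.respectTransparency false

open CategoryTheory CategoryTheory.Limits AlgebraicGeometry Opposite TensorProduct

namespace Groth.Agent.QcohEt15

open AlgSp

variable {S : Scheme.{u}} {X : Sp S} {M : ModEt X} {U : EtOver X}

section Free

variable {I : Type (u + 1)}

/-- The free sheaf over `U`. -/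
noncomputable abbrev freeU (U : EtOver X) (I : Type (u + 1)) : SheafOfModules.{u + 1} ((OEtRing X).over U) :=
  SheafOfModules.free (R := (OEtRing X).over U) I

/-- Finite combinations as coefficients in the structure sheaf. -/
noncomputable def upC {Z : EtOver X} (t : Z ⟶ U) (c : I →₀ Γo Z) :
    (combPresheaf ((OEtRing X).over U) I).obj (op (Over.mk t)) :=
  Finsupp.mapRange (upΓ Z) (map_zero _) c

/-- The section of the free sheaf attached to a finite combination. -/
noncomputable def fc {Z : EtOver X} (t : Z ⟶ U) (c : I →₀ Γo Z) : (freeU U I).val.obj (op (Over.mk t)) :=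
  (combTo ((OEtRing X).over U) I).app (op (Over.mk t)) (upC t c)

theorem upC_bijective {Z : EtOver X} (t : Z ⟶ U) : Function.Bijective (upC (I := I) t) := by
  refine ⟨Finsupp.mapRange_injective (upΓ Z) (map_zero _) (fun a b e => ULift.up_injective e), fun c => ?_⟩
  exact ⟨Finsupp.mapRange (fun r => ULift.down r) rfl c, Finsupp.ext fun i => rfl⟩

theorem fc_injective {Z : EtOver X} (t : Z ⟶ U) : Function.Injective (fc (I := I) t) :=
  fun _ _ e => (upC_bijective t).1 (combTo_injective _ _ _ e)

theorem upC_add {Z : EtOver X} (t : Z ⟶ U) (a b : I →₀ Γo Z) : upC t (a + b) = upC t a + upC t b :=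
  Finsupp.mapRange_add (map_add _) a b

theorem upC_res {Y Z : EtOver X} (t : Y ⟶ U) (k : Z ⟶ Y) (c : I →₀ Γo Y) :
    (combPresheaf ((OEtRing X).over U) I).map (Over.homMk k : Over.mk (k ≫ t) ⟶ Over.mk t).op (upC t c) =
      upC (k ≫ t) (c.mapRange (γ k) (map_zero _)) := by
  induction c using Finsupp.induction_linear with
  | zero => simp only [upC, Finsupp.mapRange_zero]; exact map_zero _
  | add a b ha hb =>
    rw [Finsupp.mapRange_add (map_add _), upC_add, upC_add]
    exact (map_add _ _ _).trans (congrArg₂ _ ha hb)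
  | single i r =>
    let r' : ((OEtRing X).over U).obj.obj (op (Over.mk t)) := upΓ Y r
    have h : upC t (Finsupp.single i r) = r' • ModuleCat.freeMk (R := ((OEtRing X).over U).obj.obj _) i := by
      rw [upC, Finsupp.mapRange_single]
      change _ = r' • Finsupp.single i (1 : ((OEtRing X).over U).obj.obj (op (Over.mk t)))
      rw [Finsupp.smul_single]
      congr 1
      exact (mul_one _).symm
    rw [h]
    refine (PresheafOfModules.map_smul _ _ _ _).trans ?_
    rw [upC, Finsupp.mapRange_single, Finsupp.mapRange_single]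
    refine (congrArg _ (ModuleCat.freeDesc_apply _ _)).trans ?_
    change _ • Finsupp.single i (1 : ((OEtRing X).over U).obj.obj (op (Over.mk (k ≫ t)))) = _
    rw [Finsupp.smul_single]
    congr 1
    exact mul_one _

theorem fc_res {Y Z : EtOver X} (t : Y ⟶ U) (k : Z ⟶ Y) (c : I →₀ Γo Y) :
    (freeU U I).val.map (Over.homMk k : Over.mk (k ≫ t) ⟶ Over.mk t).op (fc t c) =
      fc (k ≫ t) (c.mapRange (γ k) (map_zero _)) := by
  refine (PresheafOfModules.naturality_apply (combTo ((OEtRing X).over U) I) _ _).symm.trans ?_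
  exact congrArg _ (upC_res t k c)

theorem mem_etTop_of_over {V : Over U} (R : Sieve V) (hR : R ∈ (etTop X).over U V) :
    Sieve.overEquiv V R ∈ etTop X V.left :=
  hR

/-- On an affine object every section of a free sheaf is a finite combination. -/
theorem fc_surjective {Y : EtOver X} [IsAffine Y.obj.left.left] (t : Y ⟶ U) :
    Function.Surjective (fc (I := I) t) := by
  classical
  intro s
  let R := Presheaf.imageSieve ((PresheafOfModules.toPresheaf _).map (combTo ((OEtRing X).over U) I))
    (U := Over.mk t) s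
  have hR : R ∈ (etTop X).over U (Over.mk t) := (combTo_locallySurjective ((OEtRing X).over U) I).imageSieve_mem s
  have hloc : ∀ ⦃Z : EtOver X⦄ (k : Z ⟶ Y), Sieve.overEquiv (Over.mk t) R k →
      ∃ c, fc (k ≫ t) c = (freeU U I).val.map (Over.homMk k : Over.mk (k ≫ t) ⟶ Over.mk t).op s := by
    intro Z k hk
    obtain ⟨c₀, hc₀⟩ := (Sieve.overEquiv_iff _ _).1 hk
    obtain ⟨c, rfl⟩ := (upC_bijective (k ≫ t)).2 c₀
    exact ⟨c, hc₀⟩
  let a : I → Γo Y := fun i => ULift.down ((coord ((OEtRing X).over U) I i).val.app (op (Over.mk t)) s)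
  have ha : ∀ ⦃Z : EtOver X⦄ (k : Z ⟶ Y) (c : I →₀ Γo Z),
      fc (k ≫ t) c = (freeU U I).val.map (Over.homMk k : Over.mk (k ≫ t) ⟶ Over.mk t).op s →
        ∀ i, γ k (a i) = c i := by
    intro Z k c e i
    have h1 := congrArg ((coord ((OEtRing X).over U) I i).val.app (op (Over.mk (k ≫ t)))) e
    have h2 := (PresheafOfModules.naturality_apply (coord ((OEtRing X).over U) I i).val
      (Over.homMk k : Over.mk (k ≫ t) ⟶ Over.mk t).op s)
    have h3 := (coord_combTo ((OEtRing X).over U) I _ i (upC (k ≫ t) c)).symm.trans (h1.trans h2)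
    exact (congrArg ULift.down h3).symm
  obtain ⟨κ, hκ, W, f, hW, hf, hcov⟩ := exists_affine_family (E := Y) (Sieve.overEquiv (Over.mk t) R)
    (mem_etTop_of_over R hR)
  have := Fintype.ofFinite κ
  choose c hc using fun j => hloc (f j) (hf j)
  let F : Finset I := Finset.univ.biUnion fun j => (c j).support
  have hF : ∀ i, a i ≠ 0 → i ∈ F := fun i hi => by
    by_contra hn
    refine hi (ULift.up_injective (sections_ext_family (unitModEt X) W f hcov
      (m := ULift.up (a i)) (m' := ULift.up 0) fun j => congrArg ULift.up ?_))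
    change γ (f j) (a i) = γ (f j) 0
    rw [ha _ _ (hc j) i, map_zero]
    by_contra hne
    exact hn (Finset.mem_biUnion.2 ⟨j, Finset.mem_univ _, Finsupp.mem_support_iff.2 hne⟩)
  refine ⟨Finsupp.onFinset F a hF, ?_⟩
  have hsep := ((isSheaf_iff_isSheaf_of_type _ _).1 (Presheaf.isSheaf_comp_of_isSheaf ((etTop X).over U)
    (freeU U I).val.presheaf (CategoryTheory.forget AddCommGrpCat.{u + 1}) (freeU U I).isSheaf) R hR).isSeparatedFor
  refine hsep.ext fun V k hk => ?_
  let k₀ : Over.mk (k.left ≫ t) ⟶ Over.mk t := Over.homMk k.left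
  let φ : V ⟶ Over.mk (k.left ≫ t) := Over.homMk (𝟙 _) ((Category.id_comp _).trans (Over.w k))
  have hφ : φ ≫ k₀ = k := Over.OverMorphism.ext (Category.id_comp _)
  let ψ : Over.mk (k.left ≫ t) ⟶ V := Over.homMk (𝟙 _) ((Category.id_comp _).trans (Over.w k).symm)
  have hk' : Sieve.overEquiv (Over.mk t) R k.left := by
    rw [Sieve.overEquiv_iff]
    have : (Over.homMk k.left : Over.mk (k.left ≫ (Over.mk t).hom) ⟶ Over.mk t) = ψ ≫ k :=
      Over.OverMorphism.ext (Category.id_comp _).symm
    rw [this]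
    exact R.downward_closed hk ψ
  obtain ⟨c, hc'⟩ := hloc k.left hk'
  have h₀ : (freeU U I).val.map k₀.op (fc t (Finsupp.onFinset F a hF)) = (freeU U I).val.map k₀.op s := by
    refine (fc_res t k.left (Finsupp.onFinset F a hF)).trans (Eq.trans ?_ hc')
    congr 1
    exact Finsupp.ext fun i => (Finsupp.mapRange_apply ..).trans (by rw [Finsupp.onFinset_apply, ha _ _ hc' i])
  rw [← hφ]
  change (freeU U I).val.map (φ ≫ k₀).op (fc t (Finsupp.onFinset F a hF)) = (freeU U I).val.map (φ ≫ k₀).op s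
  refine ((freeU U I).val.map_comp_apply k₀.op φ.op _).trans ?_
  rw [h₀]
  exact ((freeU U I).val.map_comp_apply k₀.op φ.op _).symm

end Free

section Presentation

variable (σ : (M.over U).GeneratingSections)

/-- A generator over an object over `U`. -/
noncomputable def gen {Z : EtOver X} (t : Z ⟶ U) (j : σ.I) : sectModEt M Z := (σ.s j).1 (op (Over.mk t))

theorem gen_res {Y Z : EtOver X} (t : Y ⟶ U) (k : Z ⟶ Y) (j : σ.I) : res M k (gen σ t j) = gen σ (k ≫ t) j :=
  (σ.s j).2 (Over.homMk k : Over.mk (k ≫ t) ⟶ Over.mk t).op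

theorem π_fc {Z : EtOver X} (t : Z ⟶ U) (c : σ.I →₀ Γo Z) :
    (σ.π.val.app (op (Over.mk t)) (fc t c) : sectModEt M Z) = Finsupp.linearCombination (Γo Z) (gen σ t) c := by
  classical
  induction c using Finsupp.induction_linear with
  | zero =>
    simp only [fc, upC, Finsupp.mapRange_zero, map_zero]
  | add a b ha hb =>
    rw [map_add, ← ha, ← hb, fc, upC_add, map_add, map_add]
    rfl
  | single i r =>
    rw [Finsupp.linearCombination_single, fc, upC, Finsupp.mapRange_single, combTo_single]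
    refine ((σ.π.val.app _).hom.map_smul _ _).trans ?_
    have h := congrArg (fun q : (M.over U).sections => q.1 (op (Over.mk t)))
      (SheafOfModules.sectionsMap_freeHomEquiv_symm_freeSection σ.s i)
    rw [show σ.π.val.app (op (Over.mk t)) (basisAt ((OEtRing X).over U) σ.I (op (Over.mk t)) i) =
      (σ.s i).1 (op (Over.mk t)) from h]
    rfl

end Presentation

/-- Restriction of finite combinations commutes with base change. -/
theorem lift_linearCombination {Y Z : EtOver X} {J : Type v} (g : Z ⟶ Y) (x : J → sectModEt M Y)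
    (z : Tw g ⊗[Γo Y] (J →₀ Γo Y)) (c : J →₀ Γo Z)
    (hc : z = Finsupp.linearCombination (Γo Z) (fun j => (1 : Tw g) ⊗ₜ[Γo Y] Finsupp.single j (1 : Γo Y)) c) :
    lift g (Finsupp.linearCombination (Γo Y) x) z = Finsupp.linearCombination (Γo Z) (fun j => res M g (x j)) c := by
  subst hc
  induction c using Finsupp.induction_linear with
  | zero => simp
  | add a b ha hb => simp only [map_add, ha, hb]
  | single i r =>
    rw [Finsupp.linearCombination_single, Finsupp.linearCombination_single, lift_smul, lift_one_tmul,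
      Finsupp.linearCombination_single, one_smul]

theorem exists_coeff {Y Z : EtOver X} {J : Type v} (g : Z ⟶ Y) (z : Tw g ⊗[Γo Y] (J →₀ Γo Y)) :
    ∃ c, z = Finsupp.linearCombination (Γo Z) (fun j => (1 : Tw g) ⊗ₜ[Γo Y] Finsupp.single j (1 : Γo Y)) c := by
  induction z using TensorProduct.induction_on with
  | zero => exact ⟨0, (map_zero _).symm⟩
  | tmul a n =>
    induction n using Finsupp.induction_linear with
    | zero => exact ⟨0, by rw [TensorProduct.tmul_zero, map_zero]⟩
    | add u v hu hv =>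
      obtain ⟨c, hc⟩ := hu
      obtain ⟨d, hd⟩ := hv
      exact ⟨c + d, by rw [TensorProduct.tmul_add, map_add, hc, hd]⟩
    | single j r =>
      refine ⟨Finsupp.single j (Tw.out a * γ g r), ?_⟩
      rw [Finsupp.linearCombination_single, ← Finsupp.smul_single_one j r, TensorProduct.tmul_smul,
        TensorProduct.smul_tmul', TensorProduct.smul_tmul']
      congr 1
      change γ g r * Tw.out a = (Tw.out a * γ g r) * (1 : Γo Z)
      ring
  | add u v hu hv =>
    obtain ⟨c, hc⟩ := hu
    obtain ⟨d, hd⟩ := hv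
    exact ⟨c + d, by rw [map_add, hc, hd]⟩

/-- The tensor attached to a combination. -/
noncomputable def phi {Y Z : EtOver X} (g : Z ⟶ Y) (J : Type v) :
    (J →₀ Γo Z) →ₗ[Γo Z] Tw g ⊗[Γo Y] (J →₀ Γo Y) :=
  Finsupp.linearCombination (Γo Z) fun j => (1 : Tw g) ⊗ₜ[Γo Y] Finsupp.single j (1 : Γo Y)

theorem phi_res {Y Z : EtOver X} {J : Type v} (g : Z ⟶ Y) (c : J →₀ Γo Y) :
    phi g J (c.mapRange (γ g) (map_zero _)) = (1 : Tw g) ⊗ₜ[Γo Y] c := by
  induction c using Finsupp.induction_linear with
  | zero => rw [Finsupp.mapRange_zero, map_zero, TensorProduct.tmul_zero]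
  | add a b ha hb => rw [Finsupp.mapRange_add (map_add _), map_add, ha, hb, TensorProduct.tmul_add]
  | single j r =>
    rw [Finsupp.mapRange_single, phi, Finsupp.linearCombination_single, ← Finsupp.smul_single_one j r,
      TensorProduct.tmul_smul, TensorProduct.smul_tmul', TensorProduct.smul_tmul']
    rfl

theorem rTensor_phi {Y E' Z : EtOver X} {J : Type v} (g : E' ⟶ Y) (k : Z ⟶ E') (c : J →₀ Γo E') :
    (mapTw (g := g) k rfl).rTensor (J →₀ Γo Y) (phi g J c) = phi (k ≫ g) J (c.mapRange (γ k) (map_zero _)) := by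
  induction c using Finsupp.induction_linear with
  | zero => rw [Finsupp.mapRange_zero, map_zero, map_zero, map_zero]
  | add a b ha hb => rw [Finsupp.mapRange_add (map_add _), map_add, map_add, map_add, ha, hb]
  | single j r =>
    rw [Finsupp.mapRange_single, phi, phi, Finsupp.linearCombination_single, Finsupp.linearCombination_single,
      TensorProduct.smul_tmul', TensorProduct.smul_tmul', LinearMap.rTensor_tmul]
    congr 1
    change γ k (r * (1 : Γo E')) = γ k r * (1 : Γo Z)
    rw [mul_one, mul_one]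

theorem fc_smul {I : Type (u + 1)} {Z : EtOver X} (t : Z ⟶ U) (r : Γo Z) (c : I →₀ Γo Z) :
    fc t (r • c) = (upΓ Z r : ((OEtRing X).over U).obj.obj (op (Over.mk t))) • fc t c := by
  have h : upC t (r • c) = (upΓ Z r : ((OEtRing X).over U).obj.obj (op (Over.mk t))) • upC t c :=
    Finsupp.ext fun i => rfl
  rw [fc, h]
  exact ((combTo ((OEtRing X).over U) I).app _).hom.map_smul _ _

theorem π_basisAt {I : Type (u + 1)} {N : SheafOfModules.{u + 1} ((OEtRing X).over U)} (s : I → N.sections)
    {Z : EtOver X} (t : Z ⟶ U) (i : I) :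
    (N.freeHomEquiv.symm s).val.app (op (Over.mk t)) (basisAt ((OEtRing X).over U) I (op (Over.mk t)) i) =
      (s i).1 (op (Over.mk t)) :=
  congrArg (fun q : N.sections => q.1 (op (Over.mk t))) (SheafOfModules.sectionsMap_freeHomEquiv_symm_freeSection s i)

theorem map_fc_of_basis {I J : Type (u + 1)} {N : SheafOfModules.{u + 1} ((OEtRing X).over U)} {Z : EtOver X}
    (t : Z ⟶ U) (s : J → N.sections) (f : N ⟶ freeU U I) (rk : J → (I →₀ Γo Z))
    (h : ∀ i, fc t (rk i) = f.val.app (op (Over.mk t)) ((s i).1 (op (Over.mk t)))) (d : J →₀ Γo Z) :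
    f.val.app (op (Over.mk t)) ((N.freeHomEquiv.symm s).val.app (op (Over.mk t)) (fc t d)) =
      fc t (Finsupp.linearCombination (Γo Z) rk d) := by
  induction d using Finsupp.induction_linear with
  | zero => simp [fc, upC]
  | add a b ha hb =>
    simp only [fc, upC_add, map_add] at ha hb ⊢
    rw [ha, hb]
  | single i a =>
    have e : fc t (Finsupp.single i a) =
        (upΓ Z a : ((OEtRing X).over U).obj.obj (op (Over.mk t))) • basisAt ((OEtRing X).over U) J (op (Over.mk t)) i := by
      rw [fc, upC, Finsupp.mapRange_single, combTo_single]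
    rw [Finsupp.linearCombination_single, fc_smul, e, h]
    refine (congrArg _ (((N.freeHomEquiv.symm s).val.app _).hom.map_smul _ _)).trans ?_
    refine ((f.val.app _).hom.map_smul _ _).trans ?_
    exact congrArg (fun x => (upΓ Z a : ((OEtRing X).over U).obj.obj (op (Over.mk t))) • f.val.app (op (Over.mk t)) x)
      (π_basisAt s t i)

theorem fc_mapRange_eq_section {I : Type (u + 1)} {N : SheafOfModules.{u + 1} ((OEtRing X).over U)} (f : N ⟶ freeU U I)
    (x : N.sections) {Y Z : EtOver X} (t : Y ⟶ U) (k : Z ⟶ Y) (r : I →₀ Γo Y)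
    (h : fc t r = f.val.app (op (Over.mk t)) (x.1 (op (Over.mk t)))) :
    fc (k ≫ t) (r.mapRange (γ k) (map_zero _)) = f.val.app (op (Over.mk (k ≫ t))) (x.1 (op (Over.mk (k ≫ t)))) := by
  refine (fc_res t k r).symm.trans ?_
  rw [h]
  refine (PresheafOfModules.naturality_apply f.val (Over.homMk k : Over.mk (k ≫ t) ⟶ Over.mk t).op
    (x.1 (op (Over.mk t)))).symm.trans ?_
  exact congrArg (fun y => f.val.app (op (Over.mk (k ≫ t))) y) (x.2 (Over.homMk k : Over.mk (k ≫ t) ⟶ Over.mk t).op)

theorem fc_mapRange_eq_app {I : Type (u + 1)} {N : SheafOfModules.{u + 1} ((OEtRing X).over U)} (f : N ⟶ freeU U I)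
    {Y Z : EtOver X} (t : Y ⟶ U) (k : Z ⟶ Y) (r : I →₀ Γo Y) (w : N.val.obj (op (Over.mk t)))
    (hw : f.val.app (op (Over.mk t)) w = fc t r) (x : N.val.obj (op (Over.mk (k ≫ t))))
    (hx : x = N.val.map (Over.homMk k : Over.mk (k ≫ t) ⟶ Over.mk t).op w) :
    fc (k ≫ t) (r.mapRange (γ k) (map_zero _)) = f.val.app (op (Over.mk (k ≫ t))) x := by
  rw [hx, ← fc_res t k r, ← hw]
  exact (PresheafOfModules.naturality_apply f.val (Over.homMk k : Over.mk (k ≫ t) ⟶ Over.mk t).op w).symm

theorem exists_of_imageSieve {J : Type (u + 1)} {N : SheafOfModules.{u + 1} ((OEtRing X).over U)} (p : freeU U J ⟶ N)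
    {E' Z : EtOver X} (t : E' ⟶ U) (w : N.val.obj (op (Over.mk t))) (k : Z ⟶ E')
    (hk : Sieve.overEquiv (Over.mk t) (Presheaf.imageSieve ((PresheafOfModules.toPresheaf _).map
      (combTo ((OEtRing X).over U) J) ≫ (PresheafOfModules.toPresheaf _).map p.val) (U := Over.mk t) w) k) :
    ∃ d : J →₀ Γo Z, p.val.app (op (Over.mk (k ≫ t))) (fc (k ≫ t) d) =
      N.val.map (Over.homMk k : Over.mk (k ≫ t) ⟶ Over.mk t).op w := by
  obtain ⟨d₀, hd₀⟩ := (Sieve.overEquiv_iff _ _).1 hk
  obtain ⟨d, rfl⟩ := (upC_bijective (k ≫ t)).2 d₀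
  exact ⟨d, hd₀⟩

theorem exists_kernel_section {V : (Over U)ᵒᵖ} {A B : SheafOfModules.{u + 1} ((OEtRing X).over U)} (f : A ⟶ B)
    (a : A.val.obj V) (ha : f.val.app V a = 0) : ∃ w, (kernel.ι f).val.app V w = a := by
  let G := SheafOfModules.forget ((OEtRing X).over U) ⋙ PresheafOfModules.evaluation _ V
  let hl := KernelFork.mapIsLimit _ (kernelIsKernel f) G
  let τ : ModuleCat.of (((OEtRing X).over U).obj.obj V) (((OEtRing X).over U).obj.obj V) ⟶ G.obj A :=
    ModuleCat.ofHom (LinearMap.toSpanSingleton _ _ a)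
  have hτ : τ ≫ G.map f = 0 := ModuleCat.hom_ext (LinearMap.ext_ring (by
    change f.val.app V ((1 : ((OEtRing X).over U).obj.obj V) • a) = 0
    rw [one_smul]
    exact ha))
  obtain ⟨l, hl'⟩ := KernelFork.IsLimit.lift' hl τ hτ
  refine ⟨l.hom 1, ?_⟩
  refine (congrArg (fun q => q.hom (1 : ((OEtRing X).over U).obj.obj V)) hl').trans ?_
  exact one_smul _ a

theorem rTensor_mem_range {Y E' Z : EtOver X} {I J : Type (u + 1)} (g : E' ⟶ Y) (k : Z ⟶ E')
    (K : Submodule (Γo Y) (I →₀ Γo Y)) (r : J → (I →₀ Γo Y)) (hr : ∀ i, r i ∈ K) (z : Tw g ⊗[Γo Y] (I →₀ Γo Y))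
    (c : I →₀ Γo E') (hz : z = phi g I c) (d : J →₀ Γo Z)
    (hc : c.mapRange (γ k) (map_zero _) =
      Finsupp.linearCombination (Γo Z) (fun i => (r i).mapRange (γ (k ≫ g)) (map_zero _)) d) :
    (mapTw (g := g) k rfl).rTensor (I →₀ Γo Y) z ∈ LinearMap.range (K.subtype.lTensor (Tw (k ≫ g))) := by
  rw [hz, rTensor_phi g k c, hc]
  clear hc
  induction d using Finsupp.induction_linear with
  | zero => rw [map_zero, map_zero]; exact zero_mem _
  | add a b ha hb => rw [map_add, map_add]; exact add_mem ha hb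
  | single i a =>
    refine ⟨(Tw.mk (k ≫ g) a) ⊗ₜ ⟨r i, hr i⟩, ?_⟩
    rw [LinearMap.lTensor_tmul, Finsupp.linearCombination_single, map_smul, phi_res, TensorProduct.smul_tmul']
    congr 1
    exact (mul_one a).symm

theorem good_of_presentation (P : (M.over U).Presentation) {Y : EtOver X} [IsAffine Y.obj.left.left] (t : Y ⟶ U) :
    Good M Y := by
  classical
  let σ := P.generators
  have hx : ∀ {Z : EtOver X} (g : Z ⟶ Y) (j : σ.I), res M g (gen σ t j) = gen σ (g ≫ t) j := fun g j => gen_res σ t g j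
  refine good_of_generators (gen σ t) (fun E' _ g m => ?_) (fun E' _ g z hz => ?_)
  · have := combTo_locallySurjective ((OEtRing X).over U) σ.I
    have := locallySurjective_of_epi ((OEtRing X).over U) σ.π
    have hls := Presheaf.isLocallySurjective_comp ((etTop X).over U)
      ((PresheafOfModules.toPresheaf _).map (combTo ((OEtRing X).over U) σ.I))
      ((PresheafOfModules.toPresheaf _).map σ.π.val)
    refine ⟨_, mem_etTop_of_over _ (hls.imageSieve_mem (U := Over.mk (g ≫ t)) m), fun Z _ k hk => ?_⟩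
    obtain ⟨c₀, hc₀⟩ := (Sieve.overEquiv_iff _ _).1 hk
    obtain ⟨c, rfl⟩ := (upC_bijective (k ≫ g ≫ t)).2 c₀
    refine ⟨Finsupp.linearCombination (Γo Z) (fun j => (1 : Tw (k ≫ g)) ⊗ₜ[Γo Y] Finsupp.single j (1 : Γo Y)) c, ?_⟩
    refine (lift_linearCombination (k ≫ g) _ _ c rfl).trans ?_
    have h1 : (fun j => res M (k ≫ g) (gen σ t j)) = gen σ (k ≫ g ≫ t) := funext fun j => by
      rw [hx, Category.assoc]
    rw [h1, ← π_fc]
    exact hc₀
  · obtain ⟨c, hc⟩ := exists_coeff g z
    rw [lift_linearCombination g _ z c hc] at hz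
    have h1 : (fun j => res M g (gen σ t j)) = gen σ (g ≫ t) := funext fun j => hx g j
    rw [h1, ← π_fc] at hz
    let ρ := P.relations
    have := combTo_locallySurjective ((OEtRing X).over U) ρ.I
    have := locallySurjective_of_epi ((OEtRing X).over U) ρ.π
    have hls := Presheaf.isLocallySurjective_comp ((etTop X).over U)
      ((PresheafOfModules.toPresheaf _).map (combTo ((OEtRing X).over U) ρ.I))
      ((PresheafOfModules.toPresheaf _).map ρ.π.val)
    obtain ⟨w, hw⟩ := exists_kernel_section σ.π (fc (g ≫ t) c) hz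
    have hrelY : ∀ i : ρ.I, ∃ r : σ.I →₀ Γo Y,
        fc t r = (kernel.ι σ.π).val.app (op (Over.mk t)) ((ρ.s i).1 (op (Over.mk t))) := fun i => fc_surjective t _
    choose r hr using hrelY
    have hker : ∀ i, r i ∈ (Finsupp.linearCombination (Γo Y) (gen σ t)).ker := fun i => by
      rw [LinearMap.mem_ker, ← π_fc, hr]
      have := congrArg (fun q => q.val.app (op (Over.mk t)) ((ρ.s i).1 (op (Over.mk t)))) (kernel.condition σ.π)
      exact this
    refine ⟨_, mem_etTop_of_over _ (hls.imageSieve_mem (U := Over.mk (g ≫ t)) w), fun Z _ k hk => ?_⟩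
    obtain ⟨d, hd₁⟩ := exists_of_imageSieve ρ.π (g ≫ t) w k hk
    let rk : ρ.I → (σ.I →₀ Γo Z) := fun i => (r i).mapRange (γ (k ≫ g)) (map_zero _)
    have hrk : ∀ i, fc ((k ≫ g) ≫ t) (rk i) =
        (kernel.ι σ.π).val.app (op (Over.mk ((k ≫ g) ≫ t))) ((ρ.s i).1 (op (Over.mk ((k ≫ g) ≫ t)))) := fun i =>
      fc_mapRange_eq_section (kernel.ι σ.π) (ρ.s i) t (k ≫ g) (r i) (hr i)
    rw [Category.assoc] at hrk
    have hd := map_fc_of_basis (k ≫ g ≫ t) ρ.s (kernel.ι σ.π) rk hrk
    have hck : c.mapRange (γ k) (map_zero _) = Finsupp.linearCombination (Γo Z) rk d := by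
      exact fc_injective (k ≫ g ≫ t) ((fc_mapRange_eq_app (kernel.ι σ.π) (g ≫ t) k c w hw (ρ.π.val.app (op (Over.mk (k ≫ g ≫ t))) (fc (k ≫ g ≫ t) d)) hd₁).trans (hd d))
    have hz' : z = phi g σ.I c := hc
    exact rTensor_mem_range g k _ r hker z c hz' d hck

theorem good_of_isQuasicoherent [hM : M.IsQuasicoherent] (Y : EtOver X) [IsAffine Y.obj.left.left] : Good M Y := by
  obtain ⟨q⟩ := hM.nonempty_quasicoherentData
  refine Good.of_local _ (q.coversTop Y) ?_
  intro Z _ k hk
  obtain ⟨i, ⟨t⟩⟩ := (Sieve.mem_ofObjects_iff ..).1 hk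
  exact good_of_presentation (q.presentation i) t

end Groth.Agent.QcohEt15
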