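import Groth.Agent.Lib.QcohEt15.Push
import Mathlib.Algebra.Module.FinitePresentation
import Mathlib.RingTheory.Finiteness.ModuleFinitePresentation

/-!
# Finite type and finite presentation via sections over affine objects
-/

universe u v w

set_option backward.isDefEq.respectTransparency false

open CategoryTheory CategoryTheory.Limits AlgebraicGeometry Opposite TensorProduct

namespace Groth.Agent.QcohEt15

open AlgSp Groth.Agent.AlgSpace

variable {S : Scheme.{u}} {X : Sp S} {M : ModEt X}

/-- A module over the functions on an affine object vanishing locally vanishes. -/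
theorem eq_zero_of_local_one {E : EtOver X} [IsAffine E.obj.left.left] {N : Type v} [AddCommGroup N]
    [Module (Γo E) N] (n : N) (R : Sieve E) (hR : R ∈ etTop X E)
    (h : ∀ ⦃Y : EtOver X⦄ [IsAffine Y.obj.left.left] (k : Y ⟶ E), R k → (1 : Tw k) ⊗ₜ[Γo E] n = 0) : n = 0 := by
  have h0 : (1 : Tw (𝟙 E)) ⊗ₜ[Γo E] n = 0 := by
    refine eq_zero_of_local (𝟙 E) _ R hR fun Y _ k hk => ?_
    have hm : ∀ z : Tw (𝟙 E) ⊗[Γo E] N, z = (1 : Tw (𝟙 E)) ⊗ₜ n →
        (mapTw (g := 𝟙 E) k rfl).rTensor N z = Tw.mk _ (1 : Γo Y) ⊗ₜ n := fun z e => by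
      rw [e, LinearMap.rTensor_tmul]
      congr 1
      exact map_one (γ k)
    rw [hm _ rfl]
    have e := h k hk
    rw [show (Tw.mk (k ≫ 𝟙 E) (1 : Γo Y)) ⊗ₜ[Γo E] n =
      ((mapTw (g := k) (g' := k ≫ 𝟙 E) (𝟙 Y) (by simp)).rTensor N) ((1 : Tw k) ⊗ₜ n) from rfl, e, map_zero]
  have e := congrArg (TensorProduct.lid (Γo E) _) (congrArg
    ((({ toFun := fun t => Tw.out t, map_add' := fun _ _ => rfl, map_smul' := fun _ _ => rfl } :
      Tw (𝟙 E) →ₗ[Γo E] Γo E)).rTensor _) h0)
  have h3 : Tw.out (1 : Tw (𝟙 E)) = (1 : Γo E) := rfl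
  simpa [h3] using e

theorem exists_finite_span {E Z : EtOver X} (k : Z ⟶ E) {N : Type v} [AddCommGroup N] [Module (Γo E) N]
    (x : Tw k ⊗[Γo E] N) :
    ∃ T : Finset N, x ∈ LinearMap.range ((Submodule.span (Γo E) (T : Set N)).subtype.lTensor (Tw k)) := by
  classical
  induction x using TensorProduct.induction_on with
  | zero => exact ⟨∅, zero_mem _⟩
  | tmul a n => exact ⟨{n}, a ⊗ₜ ⟨n, Submodule.subset_span (by simp)⟩, rfl⟩
  | add a b ha hb =>
    obtain ⟨T₁, y₁, rfl⟩ := ha
    obtain ⟨T₂, y₂, rfl⟩ := hb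
    refine ⟨T₁ ∪ T₂, add_mem ?_ ?_⟩
    · refine ⟨(Submodule.inclusion (Submodule.span_mono (by simp))).lTensor (Tw k) y₁, ?_⟩
      rw [← LinearMap.lTensor_comp_apply]; rfl
    · refine ⟨(Submodule.inclusion (Submodule.span_mono (by simp))).lTensor (Tw k) y₂, ?_⟩
      rw [← LinearMap.lTensor_comp_apply]; rfl

/-- Finiteness of modules over the functions on an affine object is local. -/
theorem finite_of_local {E : EtOver X} [IsAffine E.obj.left.left] {N : Type v} [AddCommGroup N]
    [Module (Γo E) N] (R : Sieve E) (hR : R ∈ etTop X E)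
    (h : ∀ ⦃Y : EtOver X⦄ [IsAffine Y.obj.left.left] (k : Y ⟶ E), R k → Module.Finite (Γo Y) (Tw k ⊗[Γo E] N)) :
    Module.Finite (Γo E) N := by
  classical
  obtain ⟨κ, hκ, Y, f, hY, hRf, hcov⟩ := exists_affine_family R hR
  have hlin : ∀ {Z : EtOver X} {g : Z ⟶ E} {P : Type v} [AddCommGroup P] [Module (Γo E) P]
      (L : P →ₗ[Γo E] N) (c : Γo Z) (w : Tw g ⊗[Γo E] P), L.lTensor (Tw g) (c • w) = c • L.lTensor (Tw g) w := by
    intro Z g P _ _ L c w
    induction w using TensorProduct.induction_on with
    | zero => simp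
    | tmul a n => simp [TensorProduct.smul_tmul']
    | add a b ha hb => rw [smul_add, map_add, map_add, ha, hb, smul_add]
  have key : ∀ k, ∃ T : Finset N, ∀ x : Tw (f k) ⊗[Γo E] N,
      x ∈ LinearMap.range ((Submodule.span (Γo E) (T : Set N)).subtype.lTensor (Tw (f k))) := by
    intro k
    have := h (f k) (hRf k)
    obtain ⟨G, hG⟩ := Module.Finite.fg_top (R := Γo (Y k)) (M := Tw (f k) ⊗[Γo E] N)
    choose T hT using fun x => exists_finite_span (f k) (N := N) x
    refine ⟨G.biUnion T, fun x => ?_⟩
    have hx : x ∈ Submodule.span (Γo (Y k)) (G : Set (Tw (f k) ⊗[Γo E] N)) := hG.ge trivial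
    clear hG
    induction hx using Submodule.span_induction with
    | mem y hy =>
      obtain ⟨w, hw⟩ := hT y
      refine ⟨(Submodule.inclusion (Submodule.span_mono (Finset.coe_subset.2
        (Finset.subset_biUnion_of_mem T hy)))).lTensor (Tw (f k)) w, ?_⟩
      rw [← LinearMap.lTensor_comp_apply]
      exact hw
    | zero => exact zero_mem _
    | add a b _ _ ha hb => exact add_mem ha hb
    | smul c a _ ha =>
      obtain ⟨w, rfl⟩ := ha
      refine ⟨c • w, ?_⟩
      exact hlin _ c w
  choose T hT using key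
  have := Fintype.ofFinite κ
  let N₀ := Submodule.span (Γo E) ((Finset.univ.biUnion T : Finset N) : Set N)
  have htop : N₀ = ⊤ := by
    rw [eq_top_iff]
    rintro n -
    refine (Submodule.Quotient.mk_eq_zero N₀).1 (eq_zero_of_local_one _ (Sieve.generate (Presieve.ofArrows Y f))
      (ofArrows_mem_etTop Y f hcov) fun Z _ g hg => ?_)
    obtain ⟨W, a, b, ⟨j⟩, rfl⟩ := hg
    obtain ⟨w, hw⟩ := hT j ((1 : Tw (f j)) ⊗ₜ n)
    have h1 : (1 : Tw (f j)) ⊗ₜ[Γo E] N₀.mkQ n = 0 := by
      rw [← LinearMap.lTensor_tmul, ← hw, ← LinearMap.lTensor_comp_apply]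
      have : N₀.mkQ ∘ₗ (Submodule.span (Γo E) ((T j : Finset N) : Set N)).subtype = 0 := LinearMap.ext fun x =>
        (Submodule.Quotient.mk_eq_zero N₀).2 (Submodule.span_mono
          (Finset.coe_subset.2 (Finset.subset_biUnion_of_mem T (Finset.mem_univ j))) x.2)
      rw [this, LinearMap.lTensor_zero]
      rfl
    have h2 := congrArg ((mapTw (g := f j) a rfl).rTensor (N ⧸ N₀)) h1
    rw [map_zero, LinearMap.rTensor_tmul, show mapTw (g := f j) a rfl (1 : Tw (f j)) = (1 : Tw (a ≫ f j)) from
      map_one (γ a)] at h2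
    exact h2
  exact Module.Finite.of_fg_top (htop ▸ Submodule.fg_span (Finset.finite_toSet _))

theorem isFiniteType_of_good_of_finite
    (hgood : ∀ (E : EtOver X) [IsAffine E.obj.left.left], Good M E)
    (hfin : ∀ (E : EtOver X) [IsAffine E.obj.left.left], Module.Finite (Γo E) (sectModEt M E)) :
    M.IsFiniteType := by
  let Ob := {E : EtOver X // IsAffine E.obj.left.left}
  have hP : ∀ E : Ob, ∃ σ : (M.over E.1).GeneratingSections, σ.IsFiniteType := fun E => by
    have : IsAffine E.1.obj.left.left := E.2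
    have := hfin E.1
    obtain ⟨n, x, hx⟩ := Module.Finite.exists_fin (R := Γo E.1) (M := sectModEt M E.1)
    let x' : ULift.{u + 1} (Fin n) → sectModEt M E.1 := fun j => x j.down
    have hx' : Submodule.span (Γo E.1) (Set.range x') = ⊤ := by
      rw [← hx]
      congr 1
      exact (Equiv.ulift.surjective).range_comp x
    let r : (Finsupp.linearCombination (Γo E.1) x').ker → (ULift.{u + 1} (Fin n) →₀ Γo E.1) := Subtype.val
    let rr : ULift.{u + 1} (Finsupp.linearCombination (Γo E.1) x').ker → (ULift.{u + 1} (Fin n) →₀ Γo E.1) :=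
      fun j => r j.down
    have hr : Submodule.span (Γo E.1) (Set.range rr) = (Finsupp.linearCombination (Γo E.1) x').ker := by
      rw [show Set.range rr = ((Finsupp.linearCombination (Γo E.1) x').ker : Set (ULift.{u + 1} (Fin n) →₀ Γo E.1))
        from ((Equiv.ulift.surjective).range_comp r).trans Subtype.range_coe, Submodule.span_eq]
    obtain ⟨P, h₁, -⟩ := exists_presentation_of_good (hgood E.1) x' hx' rr hr
    exact ⟨P.generators, ⟨by rw [h₁]; infer_instance⟩⟩
  choose σ hσ using hP
  have hc : (etTop X).CoversTop (fun E : Ob => E.1) := fun W => by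
    refine (etTop X).superset_covering ?_ (ofArrows_mem_etTop
      (fun O : W.obj.left.left.affineOpens => AlgSpEt14.openSub W O.1) (fun O => AlgSpEt14.openSubι W O.1) fun x => ?_)
    · rw [Sieve.generate_le_iff]
      rintro Z k ⟨O⟩
      exact (Sieve.mem_ofObjects_iff ..).2 ⟨(⟨AlgSpEt14.openSub W O.1, O.2⟩ : Ob), ⟨𝟙 _⟩⟩
    · obtain ⟨V, hV, hxV, -⟩ := W.obj.left.left.isBasis_affineOpens.exists_subset_of_mem_open (Set.mem_univ x) isOpen_univ
      obtain ⟨V, hV', rfl⟩ := hV
      exact ⟨⟨V, hV'⟩, (AlgSpEt14.range_openSubι W V).ge hxV⟩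
  let q := SheafOfModules.LocalGeneratorsData.mk (M := M) Ob (fun E : Ob => E.1) hc σ
  have hf : q.shrink.IsFiniteType := { isFiniteType := fun i => hσ i.2.choose }
  exact @SheafOfModules.IsFiniteType.mk _ _ _ _ _ _ M (Exists.intro q.shrink hf)

/-! ### Finite presentation -/

/-- Base change of a linear map, linear over the functions on the source. -/
noncomputable def lTensorₗ {E Z : EtOver X} (g : Z ⟶ E) {P : Type w} [AddCommMonoid P] [Module (Γo E) P]
    {N : Type v} [AddCommMonoid N] [Module (Γo E) N] (L : P →ₗ[Γo E] N) :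
    Tw g ⊗[Γo E] P →ₗ[Γo Z] Tw g ⊗[Γo E] N where
  toFun := L.lTensor (Tw g)
  map_add' := map_add _
  map_smul' c w := by
    induction w using TensorProduct.induction_on with
    | zero => simp
    | tmul a n => simp [TensorProduct.smul_tmul']
    | add a b ha hb => simp only [smul_add, map_add, ha, hb, RingHom.id_apply]

theorem span_range_gen {U : EtOver X} (σ : (M.over U).GeneratingSections) {Y : EtOver X} [IsAffine Y.obj.left.left]
    (t : Y ⟶ U) (hY : Good M Y) : Submodule.span (Γo Y) (Set.range (gen σ t)) = ⊤ := by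
  rw [eq_top_iff]
  rintro m -
  have := combTo_locallySurjective ((OEtRing X).over U) σ.I
  have := locallySurjective_of_epi ((OEtRing X).over U) σ.π
  have hls := Presheaf.isLocallySurjective_comp ((etTop X).over U)
    ((PresheafOfModules.toPresheaf _).map (combTo ((OEtRing X).over U) σ.I))
    ((PresheafOfModules.toPresheaf _).map σ.π.val)
  refine mem_submodule_of_local hY (Submodule.span (Γo Y) (Set.range (gen σ t))) m _
    (mem_etTop_of_over _ (hls.imageSieve_mem (U := Over.mk t) m)) fun Z _ k hk => ?_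
  obtain ⟨d, hd⟩ := exists_of_imageSieve σ.π t m k hk
  have h2 : res M k m = Finsupp.linearCombination (Γo Z) (fun j => res M k (gen σ t j)) d := by
    rw [show (fun j => res M k (gen σ t j)) = gen σ (k ≫ t) from funext fun j => gen_res σ t k j, ← π_fc σ (k ≫ t) d]
    exact hd.symm
  rw [h2]
  exact linearCombination_res_mem_range k (Submodule.span (Γo Y) (Set.range (gen σ t))) (gen σ t)
    (fun j => Submodule.subset_span (Set.mem_range_self j)) d

theorem mem_span_of_section {U : EtOver X} {I J : Type (u + 1)} {N : SheafOfModules.{u + 1} ((OEtRing X).over U)}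
    (s : J → N.sections)
    (hs : Presheaf.IsLocallySurjective ((etTop X).over U) ((PresheafOfModules.toPresheaf _).map
      (combTo ((OEtRing X).over U) J) ≫ (PresheafOfModules.toPresheaf _).map (N.freeHomEquiv.symm s).val))
    (ι : N ⟶ freeU U I) {Y : EtOver X} [IsAffine Y.obj.left.left] (t : Y ⟶ U) (r : J → (I →₀ Γo Y))
    (hr : ∀ i, fc t (r i) = ι.val.app (op (Over.mk t)) ((s i).1 (op (Over.mk t))))
    (c : I →₀ Γo Y) (w : N.val.obj (op (Over.mk t))) (hw : ι.val.app (op (Over.mk t)) w = fc t c) :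
    c ∈ Submodule.span (Γo Y) (Set.range r) := by
  let N₁ := Submodule.span (Γo Y) (Set.range r)
  refine (Submodule.Quotient.mk_eq_zero N₁).1 (eq_zero_of_local_one (E := Y) _ _
    (mem_etTop_of_over _ (hs.imageSieve_mem (U := Over.mk t) w)) fun Z _ k hk => ?_)
  obtain ⟨d, hd₁⟩ := exists_of_imageSieve (N.freeHomEquiv.symm s) t w k hk
  have hrk : ∀ i, fc (k ≫ t) ((r i).mapRange (γ k) (map_zero _)) =
      ι.val.app (op (Over.mk (k ≫ t))) ((s i).1 (op (Over.mk (k ≫ t)))) := fun i =>
    fc_mapRange_eq_section ι (s i) t k (r i) (hr i)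
  have hd := map_fc_of_basis (k ≫ t) s ι _ hrk
  have hck : c.mapRange (γ k) (map_zero _) =
      Finsupp.linearCombination (Γo Z) (fun i => (r i).mapRange (γ k) (map_zero _)) d :=
    fc_injective (k ≫ t) ((fc_mapRange_eq_app ι t k c w hw _ hd₁).trans (hd d))
  have h1 : (1 : Tw k) ⊗ₜ[Γo Y] c = (Finsupp.linearCombination (Γo Y) r).lTensor (Tw k) (phi k J d) := by
    rw [lTensor_linearCombination_phi, ← hck, phi_res]
  change (1 : Tw k) ⊗ₜ[Γo Y] N₁.mkQ c = 0
  rw [← LinearMap.lTensor_tmul, h1, ← LinearMap.lTensor_comp_apply]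
  have h0 : N₁.mkQ ∘ₗ Finsupp.linearCombination (Γo Y) r = 0 := Finsupp.lhom_ext fun i a => by
    simp only [LinearMap.coe_comp, Function.comp_apply, Finsupp.linearCombination_single, map_smul,
      LinearMap.zero_apply]
    rw [show N₁.mkQ (r i) = 0 from (Submodule.Quotient.mk_eq_zero _).2 (Submodule.subset_span ⟨i, rfl⟩), smul_zero]
  rw [h0, LinearMap.lTensor_zero]
  rfl

theorem locallySurjective_comb_π {U : EtOver X} {A : SheafOfModules.{u + 1} ((OEtRing X).over U)}
    (σ : A.GeneratingSections) :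
    Presheaf.IsLocallySurjective ((etTop X).over U) ((PresheafOfModules.toPresheaf _).map
      (combTo ((OEtRing X).over U) σ.I) ≫ (PresheafOfModules.toPresheaf _).map (A.freeHomEquiv.symm σ.s).val) := by
  have := combTo_locallySurjective ((OEtRing X).over U) σ.I
  have := locallySurjective_of_epi ((OEtRing X).over U) σ.π
  exact Presheaf.isLocallySurjective_comp ((etTop X).over U)
    ((PresheafOfModules.toPresheaf _).map (combTo ((OEtRing X).over U) σ.I))
    ((PresheafOfModules.toPresheaf _).map σ.π.val)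

theorem finitePresentation_of_presentation {U : EtOver X} (P : (M.over U).Presentation) [hP : P.IsFinite]
    {Y : EtOver X} [IsAffine Y.obj.left.left] (t : Y ⟶ U) (hY : Good M Y) :
    Module.FinitePresentation (Γo Y) (sectModEt M Y) := by
  classical
  have : Finite P.generators.I := hP.isFiniteType_generators.finite
  have : Finite P.relations.I := hP.isFiniteType_relations.finite
  have hrelY : ∀ i : P.relations.I, ∃ r : P.generators.I →₀ Γo Y,
      fc t r = (kernel.ι P.generators.π).val.app (op (Over.mk t)) ((P.relations.s i).1 (op (Over.mk t))) :=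
    fun i => fc_surjective t _
  choose r hr using hrelY
  let lc := Finsupp.linearCombination (Γo Y) (gen P.generators t)
  have hlcs : Function.Surjective lc :=
    LinearMap.range_eq_top.1 (by rw [Finsupp.range_linearCombination, span_range_gen P.generators t hY])
  have hker : ∀ i, r i ∈ lc.ker := fun i => by
    rw [LinearMap.mem_ker, ← π_fc, hr]
    exact congrArg (fun q => q.val.app (op (Over.mk t)) ((P.relations.s i).1 (op (Over.mk t))))
      (kernel.condition P.generators.π)
  have hle : lc.ker ≤ Submodule.span (Γo Y) (Set.range r) := fun c hc => by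
    obtain ⟨w, hw⟩ := exists_kernel_section P.generators.π (fc t c) (by rw [π_fc]; exact hc)
    exact mem_span_of_section P.relations.s (locallySurjective_comb_π P.relations) (kernel.ι P.generators.π)
      t r hr c w hw
  refine Module.finitePresentation_of_surjective lc hlcs ?_
  rw [show lc.ker = Submodule.span (Γo Y) (Set.range r) from
    le_antisymm hle (Submodule.span_le.2 (Set.range_subset_iff.2 hker))]
  exact Submodule.fg_span (Set.finite_range r)

theorem fg_ker_of_local {E : EtOver X} [IsAffine E.obj.left.left] {N : Type v} [AddCommGroup N]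
    [Module (Γo E) N] {P₀ : Type w} [AddCommGroup P₀] [Module (Γo E) P₀] (π : P₀ →ₗ[Γo E] N)
    (hπ : Function.Surjective π) (R : Sieve E) (hR : R ∈ etTop X E)
    (hP₀ : ∀ ⦃Y : EtOver X⦄ (k : Y ⟶ E), Module.Finite (Γo Y) (Tw k ⊗[Γo E] P₀))
    (h : ∀ ⦃Y : EtOver X⦄ [IsAffine Y.obj.left.left] (k : Y ⟶ E), R k →
      Module.FinitePresentation (Γo Y) (Tw k ⊗[Γo E] N)) : π.ker.FG := by
  refine Module.Finite.iff_fg.1 (finite_of_local (N := π.ker) R hR fun Y _ k hk => ?_)
  have := h k hk
  have := Tw.flat k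
  have := hP₀ k
  let L := lTensorₗ k π.ker.subtype
  let P := lTensorₗ k π
  have hL : Function.Injective L := Module.Flat.lTensor_preserves_injective_linearMap (M := Tw k) π.ker.subtype
    Subtype.val_injective
  have hP : Function.Surjective P := LinearMap.lTensor_surjective (Tw k) hπ
  have hex : Function.Exact L P := Module.Flat.lTensor_exact (Tw k) (LinearMap.exact_subtype_ker_map π)
  have hfg := Module.FinitePresentation.fg_ker P hP
  have : Module.Finite (Γo Y) P.ker := Module.Finite.iff_fg.2 hfg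
  exact Module.Finite.equiv ((LinearEquiv.ofInjective L hL).trans
    (LinearEquiv.ofEq _ _ hex.linearMap_ker_eq.symm)).symm

theorem finitePresentation_of_local {E : EtOver X} [IsAffine E.obj.left.left] {N : Type v} [AddCommGroup N]
    [Module (Γo E) N] (R : Sieve E) (hR : R ∈ etTop X E)
    (h : ∀ ⦃Y : EtOver X⦄ [IsAffine Y.obj.left.left] (k : Y ⟶ E), R k →
      Module.FinitePresentation (Γo Y) (Tw k ⊗[Γo E] N)) : Module.FinitePresentation (Γo E) N := by
  have hfinN : Module.Finite (Γo E) N := finite_of_local R hR fun Y _ k hk => have := h k hk; inferInstance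
  obtain ⟨n, π₀, hπ₀⟩ := Module.Finite.exists_fin' (Γo E) N
  let π : (Fin n →₀ Γo E) →ₗ[Γo E] N := π₀ ∘ₗ (Finsupp.linearEquivFunOnFinite (Γo E) (Γo E) (Fin n)).toLinearMap
  have hπ : Function.Surjective π := hπ₀.comp (LinearEquiv.surjective _)
  exact Module.finitePresentation_of_surjective π hπ (fg_ker_of_local π hπ R hR
    (fun Y k => Module.Finite.of_surjective (phi k (Fin n)) fun z => (exists_coeff k z).imp fun c hc => hc.symm) h)

theorem finitePresentation_sections [hM : M.IsFinitePresentation] (E : EtOver X) [IsAffine E.obj.left.left] :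
    Module.FinitePresentation (Γo E) (sectModEt M E) := by
  obtain ⟨q, hq⟩ := hM.exists_quasicoherentData
  refine finitePresentation_of_local _ (q.coversTop E) fun Z _ k hk => ?_
  obtain ⟨i, ⟨t⟩⟩ := (Sieve.mem_ofObjects_iff ..).1 hk
  have := hq.isFinite_presentation i
  have := finitePresentation_of_presentation (q.presentation i) t (good_of_isQuasicoherent Z)
  let e : Tw k ⊗[Γo E] sectModEt M E ≃ₗ[Γo Z] sectModEt M Z :=
    LinearEquiv.ofBijective (liftₗ k LinearMap.id) (good_of_isQuasicoherent E k)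
  exact Module.FinitePresentation.of_equiv e.symm

theorem isFinitePresentation_of_good_of_finitePresentation
    (hgood : ∀ (E : EtOver X) [IsAffine E.obj.left.left], Good M E)
    (hfp : ∀ (E : EtOver X) [IsAffine E.obj.left.left], Module.FinitePresentation (Γo E) (sectModEt M E)) :
    M.IsFinitePresentation := by
  let Ob := {E : EtOver X // IsAffine E.obj.left.left}
  have hP : ∀ E : Ob, ∃ P : (M.over E.1).Presentation, P.IsFinite := fun E => by
    have : IsAffine E.1.obj.left.left := E.2
    have := hfp E.1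
    obtain ⟨n, x, hx⟩ := Module.Finite.exists_fin (R := Γo E.1) (M := sectModEt M E.1)
    let x' : ULift.{u + 1} (Fin n) → sectModEt M E.1 := fun j => x j.down
    have hx' : Submodule.span (Γo E.1) (Set.range x') = ⊤ := by
      rw [← hx]
      congr 1
      exact (Equiv.ulift.surjective).range_comp x
    have hxs : Function.Surjective (Finsupp.linearCombination (Γo E.1) x') :=
      LinearMap.range_eq_top.1 (by rw [Finsupp.range_linearCombination, hx'])
    obtain ⟨m, r, hr⟩ := Submodule.fg_iff_exists_fin_generating_family.1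
      (Module.FinitePresentation.fg_ker _ hxs)
    let r' : ULift.{u + 1} (Fin m) → (ULift.{u + 1} (Fin n) →₀ Γo E.1) := fun j => r j.down
    have hr' : Submodule.span (Γo E.1) (Set.range r') = (Finsupp.linearCombination (Γo E.1) x').ker := by
      rw [← hr]
      congr 1
      exact (Equiv.ulift.surjective).range_comp r
    obtain ⟨P, h₁, h₂⟩ := exists_presentation_of_good (hgood E.1) x' hx' r' hr'
    have hJ : P.generators.IsFiniteType := ⟨by rw [h₁]; infer_instance⟩
    have hK : P.relations.IsFiniteType := ⟨by rw [h₂]; infer_instance⟩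
    exact ⟨P, ⟨hJ, hK⟩⟩
  choose P hPf using hP
  have hc : (etTop X).CoversTop (fun E : Ob => E.1) := fun W => by
    refine (etTop X).superset_covering ?_ (ofArrows_mem_etTop
      (fun O : W.obj.left.left.affineOpens => AlgSpEt14.openSub W O.1) (fun O => AlgSpEt14.openSubι W O.1) fun x => ?_)
    · rw [Sieve.generate_le_iff]
      rintro Z k ⟨O⟩
      exact (Sieve.mem_ofObjects_iff ..).2 ⟨(⟨AlgSpEt14.openSub W O.1, O.2⟩ : Ob), ⟨𝟙 _⟩⟩
    · obtain ⟨V, hV, hxV, -⟩ := W.obj.left.left.isBasis_affineOpens.exists_subset_of_mem_open (Set.mem_univ x) isOpen_univ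
      obtain ⟨V, hV', rfl⟩ := hV
      exact ⟨⟨V, hV'⟩, (AlgSpEt14.range_openSubι W V).ge hxV⟩
  let q := SheafOfModules.QuasicoherentData.mk (M := M) Ob (fun E : Ob => E.1) hc P
  have hf : q.shrink.IsFinitePresentation := { isFinite_presentation := fun i => hPf i.2.choose }
  exact @SheafOfModules.IsFinitePresentation.mk _ _ _ _ _ _ M (Exists.intro q.shrink hf)

/-! ### Every point has a neighbourhood coming from the target of an affine morphism -/

variable {Y : Space S} {f : X ⟶ Y.obj} (hf : Representable f)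

theorem exists_affine_over_bc (Z : EtOver X) (v : ↥Z.obj.left.left) :
    ∃ (E : EtOver Y.obj) (_ : IsAffine E.obj.left.left) (W : EtOver X) (_ : IsAffine W.obj.left.left)
      (k : W ⟶ Z) (_ : W ⟶ EtOver.bcObj hf E), v ∈ Set.range k.hom.left.left := by
  obtain ⟨U, a, hae, has⟩ := Y.property.atlas
  obtain ⟨u₀, hu₀⟩ := surjective_ofPt has (Points.map f (Points.ofPt Z.obj.hom v))
  let E₀ := EtOver.mk a hae
  obtain ⟨V, hV, hvV, -⟩ := E₀.obj.left.left.isBasis_affineOpens.exists_subset_of_mem_open (Set.mem_univ u₀) isOpen_univ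
  obtain ⟨V, hV', rfl⟩ := hV
  let E := AlgSpEt14.openSub E₀ V
  have hu : Points.ofPt E.obj.hom ⟨u₀, hvV⟩ = Points.map f (Points.ofPt Z.obj.hom v) :=
    (AlgSpEt14.ofPt_openSub E₀ V ⟨u₀, hvV⟩).trans hu₀
  obtain ⟨b, hb, -⟩ := exists_pt_of_isPullback (EtOver.isPullback_bcObj hf E)
    (x := Points.ofPt Z.obj.hom v) (t := ⟨u₀, hvV⟩) hu.symm
  obtain ⟨W, hW, k, k', w, hk, -⟩ := exists_common_affine v b hb.symm
  exact ⟨E, hV', W, hW, k, k', w, hk⟩

/-- A property of affine objects holds if it holds over base changes and descends along coverings. -/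
theorem affine_induction_bc (P : ∀ (Z : EtOver X), IsAffine Z.obj.left.left → Prop)
    (hloc : ∀ (Z : EtOver X) (hZ : IsAffine Z.obj.left.left) (R : Sieve Z), R ∈ etTop X Z →
      (∀ ⦃W : EtOver X⦄ (hW : IsAffine W.obj.left.left) (k : W ⟶ Z), R k → P W hW) → P Z hZ)
    (h : ∀ (E : EtOver Y.obj) [IsAffine E.obj.left.left] (W : EtOver X) (hW : IsAffine W.obj.left.left)
      (_ : W ⟶ EtOver.bcObj hf E), P W hW)
    (Z : EtOver X) (hZ : IsAffine Z.obj.left.left) : P Z hZ := by
  let R : Sieve Z :=
    { arrows := fun W k => ∃ (E : EtOver Y.obj) (_ : IsAffine E.obj.left.left), Nonempty (W ⟶ EtOver.bcObj hf E)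
      downward_closed := fun {W W'} k ⟨E, hE, ⟨t⟩⟩ g => ⟨E, hE, ⟨g ≫ t⟩⟩ }
  refine hloc Z hZ R ?_ fun W hW k ⟨E, hE, ⟨t⟩⟩ => h E W hW t
  choose E hE W hW k t hk using exists_affine_over_bc hf Z
  exact (etTop X).superset_covering ((Sieve.generate_le_iff _ _).2 fun V g hg => by
    obtain ⟨v⟩ := hg
    exact ⟨E v, hE v, ⟨t v⟩⟩) (ofArrows_mem_etTop W k fun v => ⟨v, hk v⟩)

/-! ### Finite morphisms -/

theorem finitePresentation_push (hfin : IsFiniteMor f) (hfp : LocP @LocallyOfFinitePresentation f) (E : EtOver Y.obj)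
    [IsAffine E.obj.left.left]
    [Module.FinitePresentation (Γo (EtOver.bcObj hf E)) (sectModEt M (EtOver.bcObj hf E))] :
    Module.FinitePresentation (Γo E) (sectModEt ((pushModEt hf).obj M) E) := by
  let B := EtOver.bcObj hf E
  have := isAffine_bcObj hf (isAffineMor_of_isFiniteMor hfin) E
  have := hfp B.obj.hom E.obj.hom (EtOver.bcπ hf E) B.property E.property (EtOver.isPullback_bcObj hf E).w
  have hfp' : (bγ hf E).FinitePresentation :=
    HasRingHomProperty.appTop @LocallyOfFinitePresentation (EtOver.bcπ hf E).left this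
  letI : Algebra (Γo E) (Γo B) := (bγ hf E).toAlgebra
  have : Module.Finite (Γo E) (Γo B) := finite_bγ hf hfin E
  have : Algebra.FinitePresentation (Γo E) (Γo B) := hfp'
  have := Module.FinitePresentation.of_finite_of_finitePresentation (R := Γo E) (S := Γo B)
  letI : Module (Γo E) (sectModEt M B) := Module.compHom _ (bγ hf E)
  have : IsScalarTower (Γo E) (Γo B) (sectModEt M B) := ⟨fun r b m => mul_smul (bγ hf E r) b m⟩
  have : Module.FinitePresentation (Γo E) (sectModEt M B) := Module.FinitePresentation.trans _ _ (Γo B)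
  exact Module.FinitePresentation.of_equiv
    ({ toFun := fun m => pushIn hf m
       invFun := fun m => pushOut hf m
       left_inv := fun _ => rfl
       right_inv := fun _ => rfl
       map_add' := fun _ _ => rfl
       map_smul' := fun _ _ => rfl } : sectModEt M B ≃ₗ[Γo E] sectModEt ((pushModEt hf).obj M) E)

theorem finite_of_push (E : EtOver Y.obj)
    [Module.Finite (Γo E) (sectModEt ((pushModEt hf).obj M) E)] :
    Module.Finite (Γo (EtOver.bcObj hf E)) (sectModEt M (EtOver.bcObj hf E)) := by
  let B := EtOver.bcObj hf E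
  letI : Algebra (Γo E) (Γo B) := (bγ hf E).toAlgebra
  letI : Module (Γo E) (sectModEt M B) := Module.compHom _ (bγ hf E)
  have : IsScalarTower (Γo E) (Γo B) (sectModEt M B) := ⟨fun r b m => mul_smul (bγ hf E r) b m⟩
  have : Module.Finite (Γo E) (sectModEt M B) := Module.Finite.equiv
    ({ toFun := fun m => pushOut hf m
       invFun := fun m => pushIn hf m
       left_inv := fun _ => rfl
       right_inv := fun _ => rfl
       map_add' := fun _ _ => rfl
       map_smul' := fun _ _ => rfl } : sectModEt ((pushModEt hf).obj M) E ≃ₗ[Γo E] sectModEt M B)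
  exact Module.Finite.of_restrictScalars_finite (Γo E) _ _

theorem finitePresentation_of_push (hfin : IsFiniteMor f) (E : EtOver Y.obj) [IsAffine E.obj.left.left]
    [Module.FinitePresentation (Γo E) (sectModEt ((pushModEt hf).obj M) E)] :
    Module.FinitePresentation (Γo (EtOver.bcObj hf E)) (sectModEt M (EtOver.bcObj hf E)) := by
  let B := EtOver.bcObj hf E
  have : Module.Finite (Γo B) (sectModEt M B) := finite_of_push hf E
  obtain ⟨n, π, hπ⟩ := Module.Finite.exists_fin' (Γo B) (sectModEt M B)
  letI : Algebra (Γo E) (Γo B) := (bγ hf E).toAlgebra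
  have : Module.Finite (Γo E) (Γo B) := finite_bγ hf hfin E
  letI : Module (Γo E) (sectModEt M B) := Module.compHom _ (bγ hf E)
  have : IsScalarTower (Γo E) (Γo B) (sectModEt M B) := ⟨fun r b m => mul_smul (bγ hf E r) b m⟩
  have : Module.FinitePresentation (Γo E) (sectModEt M B) := Module.FinitePresentation.of_equiv
    ({ toFun := fun m => pushOut hf m
       invFun := fun m => pushIn hf m
       left_inv := fun _ => rfl
       right_inv := fun _ => rfl
       map_add' := fun _ _ => rfl
       map_smul' := fun _ _ => rfl } : sectModEt ((pushModEt hf).obj M) E ≃ₗ[Γo E] sectModEt M B)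
  refine Module.finitePresentation_of_surjective π hπ ?_
  have h := Module.FinitePresentation.fg_ker (π.restrictScalars (Γo E)) hπ
  exact Submodule.FG.of_restrictScalars (Γo E) h

theorem finite_sections_of_bc [M.IsQuasicoherent] (Z : EtOver X) (hZ : IsAffine Z.obj.left.left)
    (haff : IsAffineMor f)
    (h : ∀ (E : EtOver Y.obj) [IsAffine E.obj.left.left],
      Module.Finite (Γo (EtOver.bcObj hf E)) (sectModEt M (EtOver.bcObj hf E))) :
    Module.Finite (Γo Z) (sectModEt M Z) := by
  refine affine_induction_bc hf (fun Z _ => Module.Finite (Γo Z) (sectModEt M Z))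
    (fun Z hZ R hR h => finite_of_cover (good_of_isQuasicoherent Z) R hR fun W hW k hk => h hW k hk)
    (fun E _ W hW t => ?_) Z hZ
  have := isAffine_bcObj hf haff E
  have := h E
  have : Module.Finite (Γo W) (Tw t ⊗[Γo (EtOver.bcObj hf E)] sectModEt M (EtOver.bcObj hf E)) := by
    obtain ⟨n, π, hπ⟩ := Module.Finite.exists_fin' (Γo (EtOver.bcObj hf E)) (sectModEt M (EtOver.bcObj hf E))
    let π' : (Fin n →₀ Γo (EtOver.bcObj hf E)) →ₗ[Γo (EtOver.bcObj hf E)] sectModEt M (EtOver.bcObj hf E) :=
      π ∘ₗ (Finsupp.linearEquivFunOnFinite _ _ (Fin n)).toLinearMap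
    have hπ' : Function.Surjective π' := hπ.comp (LinearEquiv.surjective _)
    exact Module.Finite.of_surjective ((lTensorₗ t π') ∘ₗ phi t (Fin n))
      ((LinearMap.lTensor_surjective (Tw t) hπ').comp
        fun z => (exists_coeff t z).imp fun c hc => hc.symm)
  exact Module.Finite.equiv (LinearEquiv.ofBijective (liftₗ t LinearMap.id) (good_of_isQuasicoherent _ t))

theorem finitePresentation_sections_of_bc [M.IsQuasicoherent] (Z : EtOver X) (hZ : IsAffine Z.obj.left.left)
    (haff : IsAffineMor f)
    (h : ∀ (E : EtOver Y.obj) [IsAffine E.obj.left.left],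
      Module.FinitePresentation (Γo (EtOver.bcObj hf E)) (sectModEt M (EtOver.bcObj hf E))) :
    Module.FinitePresentation (Γo Z) (sectModEt M Z) := by
  refine affine_induction_bc hf (fun Z _ => Module.FinitePresentation (Γo Z) (sectModEt M Z))
    (fun Z hZ R hR h => finitePresentation_of_local R hR fun W hW k hk => ?_) (fun E _ W hW t => ?_) Z hZ
  · have := h hW k hk
    exact Module.FinitePresentation.of_equiv
      (LinearEquiv.ofBijective (liftₗ k LinearMap.id) (good_of_isQuasicoherent Z k)).symm
  · have := isAffine_bcObj hf haff E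
    have := h E
    letI : Algebra (Γo (EtOver.bcObj hf E)) (Γo W) := (γ t).toAlgebra
    have : Module.FinitePresentation (Γo W) (Tw t ⊗[Γo (EtOver.bcObj hf E)] sectModEt M (EtOver.bcObj hf E)) :=
      inferInstanceAs (Module.FinitePresentation (Γo W) (Γo W ⊗[Γo (EtOver.bcObj hf E)] sectModEt M (EtOver.bcObj hf E)))
    exact Module.FinitePresentation.of_equiv
      (LinearEquiv.ofBijective (liftₗ t LinearMap.id) (good_of_isQuasicoherent _ t))

end Groth.Agent.QcohEt15
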