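import Groth.Agent.Lib.QcohEt15.Cartan
import Groth.Agent.Lib.QcohEt15.FP

/-!
# Quasi-coherent modules have exact Čech complexes on affine objects
-/

universe u v

set_option backward.isDefEq.respectTransparency false

open CategoryTheory CategoryTheory.Limits AlgebraicGeometry Opposite TensorProduct Groth.Agent.Cech24

namespace Groth.Agent.QcohEt15

open AlgSp

variable {S : Scheme.{u}} {X : Sp S} {M : ModEt X}

/-- The map of fibre products induced by a map over `E`. -/
noncomputable def pbMap {E E₀ A B : EtOver X} (h : E₀ ⟶ E) (kA : A ⟶ E) (kB : B ⟶ E) (f : A ⟶ B) (hf : f ≫ kB = kA) :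
    EtOver.pullbackObj h kA ⟶ EtOver.pullbackObj h kB :=
  (EtOver.isPullback h kB).lift (EtOver.pullbackFst h kA) (EtOver.pullbackSnd h kA ≫ f)
    (by rw [Category.assoc, hf, EtOver.pullback_condition])

theorem pbMap_fst {E E₀ A B : EtOver X} (h : E₀ ⟶ E) (kA : A ⟶ E) (kB : B ⟶ E) (f : A ⟶ B) (hf : f ≫ kB = kA) :
    pbMap h kA kB f hf ≫ EtOver.pullbackFst h kB = EtOver.pullbackFst h kA := IsPullback.lift_fst _ _ _ _

theorem pbMap_snd {E E₀ A B : EtOver X} (h : E₀ ⟶ E) (kA : A ⟶ E) (kB : B ⟶ E) (f : A ⟶ B) (hf : f ≫ kB = kA) :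
    pbMap h kA kB f hf ≫ EtOver.pullbackSnd h kB = EtOver.pullbackSnd h kA ≫ f := IsPullback.lift_snd _ _ _ _

theorem squareMap_natural {E E₀ A B : EtOver X} [IsAffine E.obj.left.left] [IsAffine E₀.obj.left.left]
    [IsAffine A.obj.left.left] [IsAffine B.obj.left.left] (h : E₀ ⟶ E) (kA : A ⟶ E) (kB : B ⟶ E) (f : A ⟶ B)
    (hf : f ≫ kB = kA) (c : Tw h) (m : Push M kB) :
    squareMap h kA (c ⊗ₜ resP M f hf m) = res M (pbMap h kA kB f hf) (squareMap h kB (c ⊗ₜ m)) := by
  rw [squareMap_tmul, squareMap_tmul, res_smul, ← res_comp, pbMap_snd, ← RingHom.comp_apply, ← γ_comp, pbMap_fst,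
    res_comp]
  rfl

section Contract

variable {E E₀ : EtOver X} (h : E₀ ⟶ E)

/-- The faces after base change. -/
noncomputable abbrev G (n : ℕ) (i : Fin (n + 2)) :
    EtOver.pullbackObj h (pr1 h (n + 1)).hom ⟶ EtOver.pullbackObj h (pr1 h n).hom :=
  pbMap h (pr1 h (n + 1)).hom (pr1 h n).hom (face1 h n i) (face1_comp h n i)

/-- The extra degeneracy after base change. -/
noncomputable def ψ (n : ℕ) : EtOver.pullbackObj h (pr1 h n).hom ⟶ EtOver.pullbackObj h (pr1 h (n + 1)).hom :=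
  (EtOver.isPullback h (pr1 h (n + 1)).hom).lift (EtOver.pullbackFst h (pr1 h n).hom) (Θ h n)
    (by rw [← prπ_comp h (n + 1) 0, ← Category.assoc, Θ_zero])

theorem ψ_fst (n : ℕ) : ψ h n ≫ EtOver.pullbackFst h (pr1 h (n + 1)).hom = EtOver.pullbackFst h (pr1 h n).hom :=
  IsPullback.lift_fst _ _ _ _

theorem ψ_snd (n : ℕ) : ψ h n ≫ EtOver.pullbackSnd h (pr1 h (n + 1)).hom = Θ h n := IsPullback.lift_snd _ _ _ _

theorem ψ_G_zero (n : ℕ) : ψ h (n + 1) ≫ G h (n + 1) 0 = 𝟙 _ := by
  refine (EtOver.isPullback h _).hom_ext ?_ (pr1_hom_ext fun j => ?_)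
  · rw [Category.assoc, pbMap_fst, ψ_fst, Category.id_comp]
  · simp only [Category.assoc, Category.id_comp]
    rw [reassoc_of% (pbMap_snd h _ _ (face1 h (n + 1) 0) (face1_comp h (n + 1) 0)), reassoc_of% (ψ_snd h (n + 1)), fc_π,
      Fin.succAbove_zero, Θ_succ]

theorem ψ_G_succ (n : ℕ) (i : Fin (n + 2)) : ψ h (n + 1) ≫ G h (n + 1) i.succ = G h n i ≫ ψ h n := by
  refine (EtOver.isPullback h _).hom_ext ?_ (pr1_hom_ext fun j => ?_)
  · rw [Category.assoc, Category.assoc, pbMap_fst, ψ_fst, ψ_fst, pbMap_fst]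
  · simp only [Category.assoc]
    rw [reassoc_of% (pbMap_snd h _ _ (face1 h (n + 1) i.succ) (face1_comp h (n + 1) i.succ)), reassoc_of% (ψ_snd h (n + 1)),
      reassoc_of% (ψ_snd h n), fc_π]
    refine Fin.cases ?_ (fun j => ?_) j
    · rw [Fin.succ_succAbove_zero, Θ_zero, Θ_zero, pbMap_fst]
    · rw [Fin.succ_succAbove_succ, Θ_succ, Θ_succ, reassoc_of% (pbMap_snd h _ _ (face1 h n i) (face1_comp h n i)), fc_π]

theorem exists_contraction (n : ℕ) (z : sectModEt M (EtOver.pullbackObj h (pr1 h (n + 1)).hom))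
    (hz : ∑ i : Fin (n + 3), (-1 : ℤ) ^ (i : ℕ) • res M (G h (n + 1) i) z = 0) :
    ∑ i : Fin (n + 2), (-1 : ℤ) ^ (i : ℕ) • res M (G h n i) (res M (ψ h n) z) = z := by
  have e := congrArg (res M (ψ h (n + 1))) hz
  rw [map_zero, map_sum, Fin.sum_univ_succ] at e
  simp only [map_zsmul, map_neg, ← res_comp, ψ_G_zero, ψ_G_succ, res_id, Fin.val_zero, pow_zero, one_smul, Fin.val_succ,
    pow_succ, mul_neg, mul_one, neg_smul, Finset.sum_neg_distrib] at e
  simp only [← res_comp]
  exact (neg_add_eq_zero.1 ((add_comm _ _).trans e))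

end Contract

theorem acycAff_toAbEt [M.IsQuasicoherent] : AcycAff ((toAbEt X).obj M) := by
  intro E E₀ _ _ h hs n
  have haff := isAffine_pr1 h
  have := Tw.faithfullyFlat h hs
  let D : ∀ m, Push M (pr1 h m).hom →ₗ[Γo E] Push M (pr1 h (m + 1)).hom := fun m =>
    ∑ i : Fin (m + 2), (-1 : ℤ) ^ (i : ℕ) • resP M (face1 h m i) (face1_comp h m i)
  have hDapp : ∀ m (x : Push M (pr1 h m).hom),
      D m x = ∑ i : Fin (m + 2), (-1 : ℤ) ^ (i : ℕ) • resP M (face1 h m i) (face1_comp h m i) x := fun m x => by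
    rw [LinearMap.sum_apply]
    rfl
  have hd : ∀ (m : ℕ) (x : Push M (pr1 h m).hom) (a : Fin (m + 2) → PUnit.{u + 2}),
      dCochain (one h) ((toAbEt X).obj M).obj (fun _ => x) a = D m x := fun m x a => by
    rw [hDapp]
    rfl
  have hDD : ∀ m (x : Push M (pr1 h m).hom), D (m + 1) (D m x) = 0 := fun m x => by
    have h0 := congrFun (dCochain_dCochain (one h) ((toAbEt X).obj M).obj (n := m) fun _ => x) fun _ => PUnit.unit
    rw [show dCochain (one h) ((toAbEt X).obj M).obj (fun _ : Fin (m + 1) → PUnit.{u + 2} => x) =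
      fun _ => D m x from funext (hd m x), hd] at h0
    exact h0
  have hsq : ∀ m, Function.Bijective (squareMap (M := M) h (pr1 h m).hom) := fun m =>
    have := haff m
    squareMap_bijective h _ (good_of_isQuasicoherent (pr1 h m).left _)
  have hnat : ∀ m (z : Tw h ⊗[Γo E] Push M (pr1 h m).hom), squareMap h (pr1 h (m + 1)).hom ((D m).lTensor (Tw h) z) =
      ∑ i : Fin (m + 2), (-1 : ℤ) ^ (i : ℕ) • res M (G h m i) (squareMap h (pr1 h m).hom z) := fun m z => by
    have := haff m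
    have := haff (m + 1)
    induction z using TensorProduct.induction_on with
    | zero => simp
    | tmul c x =>
      rw [LinearMap.lTensor_tmul, hDapp, TensorProduct.tmul_sum, map_sum]
      refine Finset.sum_congr rfl fun i _ => ?_
      rw [← squareMap_natural, TensorProduct.tmul_smul, map_zsmul]
    | add x y hx hy => simp only [map_add, hx, hy, smul_add, Finset.sum_add_distrib]
  have hex : Function.Exact (D n) (D (n + 1)) := by
    refine Module.FaithfullyFlat.lTensor_reflects_exact (Γo E) (Tw h) _ _ fun z => ⟨fun hz => ?_, ?_⟩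
    · have := exists_contraction h n (squareMap h (pr1 h (n + 1)).hom z) (by rw [← hnat, hz, map_zero])
      obtain ⟨w, hw⟩ := (hsq n).2 (res M (ψ h n) (squareMap h (pr1 h (n + 1)).hom z))
      refine ⟨w, (hsq (n + 1)).1 ?_⟩
      rw [hnat, hw, this]
    · rintro ⟨w, rfl⟩
      rw [← LinearMap.lTensor_comp_apply, show D (n + 1) ∘ₗ D n = 0 from LinearMap.ext (hDD n),
        LinearMap.lTensor_zero, LinearMap.zero_apply]
  refine isZero_of_exists _ _ fun c hc => ?_
  obtain ⟨b, hb⟩ := (hex (c fun _ => PUnit.unit)).1 (by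
    have h0 := congrFun hc fun _ => PUnit.unit
    rw [show c = fun _ => c (fun _ => PUnit.unit) from funext fun a => rfl, hd] at h0
    exact h0)
  exact ⟨fun _ => b, funext fun a => (hd n b a).trans hb⟩

end Groth.Agent.QcohEt15
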