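import Groth.Agent.Lib.QcohEt15.Presented
import Groth.Agent.Lib.WeakAssEt15.Basic
import Groth.Agent.Lib.AlgSpEt.Lifts
import Groth.Agent.Lib.WeakAssBC4
import Mathlib.RingTheory.Unramified.LocalStructure
import Mathlib.RingTheory.Unramified.LocalRing
import Mathlib.RingTheory.Etale.StandardEtale
import Mathlib.RingTheory.Etale.Locus
import Mathlib.RingTheory.AdjoinRoot

/-!
# Weakly associated points of quasi-coherent modules can be computed on any chart
-/

universe u v

set_option backward.isDefEq.respectTransparency false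

open CategoryTheory CategoryTheory.Limits AlgebraicGeometry Opposite TensorProduct

namespace Groth.Agent.QcohEt15

open AlgSp Groth.Agent.AlgSpEt Groth.Agent.WeakAssEt15

variable {S : Scheme.{u}} {X : Sp S} {M : ModEt X}

/-- Weakly associated primes and etale base change, in any universe of modules. -/
theorem weakAss_etale_iff {A B : Type u} [CommRing A] [CommRing B] [Algebra A B] [Algebra.Etale A B]
    (M : Type v) [AddCommGroup M] [Module A M] (p : Ideal A) [p.IsPrime] (u : Ideal B) [u.IsPrime] [u.LiesOver p] :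
    u ∈ FlatCA.weakAss B (B ⊗[A] M) ↔ p ∈ FlatCA.weakAss A M := by
  refine ⟨fun h => ?_, Groth.Agent.WeakAssBC4.weakAss_baseChange_of_flat u fun q hq hle hp => ?_⟩
  · obtain ⟨g, hg, hse⟩ := Algebra.IsEtaleAt.exists_isStandardEtale (R := A) u
    let B' := Localization.Away g
    have hdisj : Disjoint ((Submonoid.powers g : Submonoid B) : Set B) (u : Set B) :=
      (Ideal.disjoint_powers_iff_notMem g (Ideal.IsPrime.isRadical inferInstance)).2 hg
    let u' : Ideal B' := u.map (algebraMap B B')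
    have : u'.IsPrime := IsLocalization.isPrime_of_isPrime_disjoint _ B' u inferInstance hdisj
    have hu' : u'.comap (algebraMap B B') = u := IsLocalization.comap_map_of_isPrime_disjoint _ B' inferInstance hdisj
    rw [← hu', ← Groth.Agent.WeakAssBC4.weakAss_baseChange_localization_iff (Submonoid.powers g)] at h
    obtain ⟨P⟩ := hse.nonempty_standardEtalePresentation
    let C := AdjoinRoot P.P.f
    let hh : C := AdjoinRoot.mk P.P.f P.P.g
    let e : Localization.Away hh ≃ₐ[A] B' := (P.equivRing.trans P.P.equivAwayAdjoinRoot).symm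
    letI : Algebra C B' := (e.toAlgHom.comp (IsScalarTower.toAlgHom A C _)).toRingHom.toAlgebra
    have : IsScalarTower A C B' := IsScalarTower.of_algebraMap_eq' (by
      ext a; exact ((e.toAlgHom.comp (IsScalarTower.toAlgHom A C _)).commutes a).symm)
    let e' : Localization.Away hh ≃ₐ[C] B' := { e with commutes' := fun c => rfl }
    have : IsLocalization.Away hh B' := IsLocalization.isLocalization_of_algEquiv _ e'
    have : Module.Finite A C := P.P.monic_f.finite_adjoinRoot
    have : Module.Free A C := P.P.monic_f.free_adjoinRoot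
    rw [Groth.Agent.WeakAssBC4.weakAss_baseChange_localization_iff (B := C) (Submonoid.powers hh)] at h
    have : (u'.comap (algebraMap C B')).LiesOver p := ⟨by
      rw [Ideal.under, Ideal.comap_comap, ← IsScalarTower.algebraMap_eq, IsScalarTower.algebraMap_eq A B B',
        ← Ideal.comap_comap, hu']
      exact u.over_def p⟩
    exact Groth.Agent.WeakAssBC4.weakAss_of_baseChange_finite_flat _ h
  · have := hq
    refine Algebra.QuasiFinite.eq_of_le_of_under_eq (R := A) q u hle (le_antisymm (Ideal.comap_mono hle) ?_)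
    rw [← u.over_def p]; exact hp

theorem isWeakAssOn_iff (E : EtOver X) [IsAffine E.obj.left.left] (u : ↥E.obj.left.left) :
    IsWeakAssOn M E u ↔ primeAtPt E.obj.left.left u ∈ FlatCA.weakAss (Γo E) (sectModEt M E) := by
  refine exists_congr fun s => ?_
  have h : annSect s = (Submodule.span (Γo E) {s}).annihilator := by
    ext a
    rw [Submodule.mem_annihilator_span_singleton, mem_annSect_iff]
    rfl
  rw [h]

/-- Functions on a morphism of affine objects of the site form an etale algebra. -/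
theorem Tw.etale {E E' : EtOver X} (g : E' ⟶ E) [IsAffine E.obj.left.left] [IsAffine E'.obj.left.left] :
    Algebra.Etale (Γo E) (Tw g) := by
  have := EtOver.etale_left g
  exact HasRingHomProperty.appTop @Etale g.hom.left.left inferInstance

theorem isWeakAssOn_map_iff {E E' : EtOver X} [IsAffine E.obj.left.left] [IsAffine E'.obj.left.left]
    (hg : Good M E) (g : E' ⟶ E) (w : ↥E'.obj.left.left) :
    IsWeakAssOn M E' w ↔ IsWeakAssOn M E (g.hom.left.left w) := by
  rw [isWeakAssOn_iff, isWeakAssOn_iff]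
  have := Tw.etale g
  let u : Ideal (Tw g) := primeAtPt E'.obj.left.left w
  have : u.IsPrime := isPrime_primeAtPt _ w
  let p := primeAtPt E.obj.left.left (g.hom.left.left w)
  have : u.LiesOver p := ⟨(primeAtPt_comap g.hom.left.left w).symm⟩
  rw [← weakAss_etale_iff (B := Tw g) (sectModEt M E) p u]
  let e : Tw g ⊗[Γo E] sectModEt M E ≃ₗ[Γo E'] sectModEt M E' := LinearEquiv.ofBijective (liftₗ g LinearMap.id) (hg g)
  exact (Groth.Agent.WeakAssBC4.weakAss_linearEquiv e.symm (p := primeAtPt E'.obj.left.left w))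

theorem res_ne_zero {E E' : EtOver X} [IsAffine E.obj.left.left] [IsAffine E'.obj.left.left] (hg : Good M E)
    (g : E' ⟶ E) (w : ↥E'.obj.left.left) (s : sectModEt M E)
    (hs : annSect s ≤ primeAtPt E.obj.left.left (g.hom.left.left w)) : res M g s ≠ 0 := by
  intro h
  have := Tw.flat g
  have h1 : (1 : Tw g) ⊗ₜ[Γo E] s = 0 := (hg g).1 (by rw [map_zero, lift_one_tmul]; exact h)
  have h2 := Groth.Agent.WeakAssBC4.annEl_one_tmul_le (A := Γo E) (B := Tw g) s
  have h3 : (1 : Tw g) ∈ (Groth.Agent.H2Alg.annEl (Γo E) s).map (algebraMap (Γo E) (Tw g)) :=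
    h2 (Groth.Agent.H2Alg.mem_annEl.2 (by rw [h1, smul_zero]))
  let u : Ideal (Tw g) := primeAtPt E'.obj.left.left w
  have h4 : (Groth.Agent.H2Alg.annEl (Γo E) s).map (algebraMap (Γo E) (Tw g)) ≤ u := by
    rw [Ideal.map_le_iff_le_comap]
    intro a ha
    have ha' : a • s = 0 := Groth.Agent.H2Alg.mem_annEl.1 ha
    have h5 := hs ((mem_annSect_iff s a).2 ha')
    rw [← primeAtPt_comap g.hom.left.left w] at h5
    exact h5
  exact (isPrime_primeAtPt _ w).ne_top ((Ideal.eq_top_iff_one _).2 (h4 h3))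

theorem exists_common_affine {E₁ E₂ : EtOver X} (u₁ : ↥E₁.obj.left.left) (u₂ : ↥E₂.obj.left.left)
    (h : Points.ofPt E₁.obj.hom u₁ = Points.ofPt E₂.obj.hom u₂) :
    ∃ (W : EtOver X) (_ : IsAffine W.obj.left.left) (k₁ : W ⟶ E₁) (k₂ : W ⟶ E₂) (w : ↥W.obj.left.left),
      k₁.hom.left.left w = u₁ ∧ k₂.hom.left.left w = u₂ := by
  obtain ⟨p, hp, l₁, hl₁⟩ := exists_geometric_lift E₁ u₁
  obtain ⟨l₂, hl₂⟩ := exists_lift_of_point p hp E₂ u₂ (by rw [← h, ← hl₁, ofPt_liftPt])
  obtain ⟨l, h₁, h₂⟩ := exists_lift_prod p l₁ l₂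
  let P := EtOver.prodObj E₁ E₂
  obtain ⟨V, hV, hzV, -⟩ := P.obj.left.left.isBasis_affineOpens.exists_subset_of_mem_open
    (Set.mem_univ (liftPt p l)) isOpen_univ
  obtain ⟨V, hV', rfl⟩ := hV
  obtain ⟨w, hw⟩ := (AlgSpEt14.range_openSubι P V).ge hzV
  refine ⟨AlgSpEt14.openSub P V, hV', AlgSpEt14.openSubι P V ≫ EtOver.prodFst E₁ E₂,
    AlgSpEt14.openSubι P V ≫ EtOver.prodSnd E₁ E₂, w, ?_, ?_⟩
  · change (EtOver.prodFst E₁ E₂).hom.left.left ((AlgSpEt14.openSubι P V).hom.left.left w) = u₁
    rw [hw, ← liftPt_map, h₁, hl₁]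
  · change (EtOver.prodSnd E₁ E₂).hom.left.left ((AlgSpEt14.openSubι P V).hom.left.left w) = u₂
    rw [hw, ← liftPt_map, h₂, hl₂]

theorem isWeakAssOn_of_mem_weakAssEt [M.IsQuasicoherent] {E : EtOver X} [IsAffine E.obj.left.left]
    (u : ↥E.obj.left.left) (h : Points.ofPt E.obj.hom u ∈ WeakAssEt M) : IsWeakAssOn M E u := by
  obtain ⟨E₀, hE₀, u₀, hx, h₀⟩ := h
  obtain ⟨W, hW, k, k₀, w, hw, hw₀⟩ := exists_common_affine u u₀ hx.symm
  rw [← hw, ← isWeakAssOn_map_iff (good_of_isQuasicoherent E) k, isWeakAssOn_map_iff (good_of_isQuasicoherent E₀) k₀, hw₀]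
  exact h₀

end Groth.Agent.QcohEt15
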