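import Groth.Agent.Lib.QcohEt15.SuppSplit
import Groth.Agent.Lib.QcohEt15.WeakAss

/-!
# Supports and powers of ideals
-/

universe u v

set_option backward.isDefEq.respectTransparency false

open CategoryTheory CategoryTheory.Limits AlgebraicGeometry Opposite TensorProduct

namespace Groth.Agent.QcohEt15

open AlgSp Groth.Agent.AlgSpEt Groth.Agent.AlgSpace Groth.Agent.WeakAssEt15

variable {S : Scheme.{u}} {X Z : Sp S} {i : Z ⟶ X} {M : ModEt X}

theorem mem_primeAtPt_iff_notMem_basicOpen {U : Scheme.{u}} (a : Γ(U, ⊤)) (x : U) :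
    a ∈ primeAtPt U x ↔ x ∉ U.basicOpen a := by
  rw [primeAtPt, Ideal.mem_comap, IsLocalRing.mem_maximalIdeal, mem_nonunits_iff]
  exact (not_congr (U.mem_basicOpen a x trivial)).symm

/-- On affine objects the points of a cut out subspace form the zero locus of its ideal. -/
theorem mem_range_map_iff (hi : RepWith @IsClosedImmersion i) (E : EtOver X) [hE : IsAffine E.obj.left.left]
    (x : ↥E.obj.left.left) :
    Points.ofPt E.obj.hom x ∈ Set.range (Points.map i) ↔
      (idealOfRep hi.1).ideal E hE ≤ primeAtPt E.obj.left.left x := by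
  have sq := EtOver.isPullback_bcObj hi.1 E
  let π := (EtOver.bcπ hi.1 E).left
  have : IsClosedImmersion π := hi.2 E.obj.hom _ _ sq
  have h1 : Points.ofPt E.obj.hom x ∈ Set.range (Points.map i) ↔ x ∈ Set.range π := by
    constructor
    · rintro ⟨z, hz⟩
      obtain ⟨v, -, hv⟩ := exists_pt_of_isPullback sq hz
      exact ⟨v, hv⟩
    · rintro ⟨v, rfl⟩
      exact ⟨_, ofPt_sq sq.w v⟩
  have h2 : Set.range π = (π.ker.support : Set ↥E.obj.left.left) := by
    rw [Scheme.Hom.support_ker, π.isClosedEmbedding.isClosed_range.closure_eq]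
  rw [h1, h2]
  let T : E.obj.left.left.affineOpens := ⟨⊤, isAffineOpen_top _⟩
  have h3 : x ∈ (π.ker.support : Set ↥E.obj.left.left) ↔
      x ∈ E.obj.left.left.zeroLocus (U := T.1) (π.ker.ideal T) := Scheme.IdealSheafData.mem_support_iff_of_mem trivial
  rw [h3, Scheme.mem_zeroLocus_iff, Scheme.Hom.ker_apply]
  exact forall₂_congr fun a _ => (mem_primeAtPt_iff_notMem_basicOpen a x).symm

theorem isZero_stalk_of_pow_le_annSect (hA : IsAlgSpace X) (hi : RepWith @IsClosedImmersion i) (n : ℕ)
    (h : ∀ (E : EtOver X) (hE : IsAffine E.obj.left.left) (s : sectModEt M E),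
      ((idealOfRep hi.1) ^ n).ideal E hE ≤ annSect s)
    (p : FieldPt X) (hp : p.IsGeometric) (hpZ : Points.mk p ∉ Set.range (Points.map i)) :
    IsZero (stalkEt p ((toAbEt X).obj M)) := by
  have h0 : ∀ z : ↥(stalkEt p ((toAbEt X).obj M)), z = 0 := fun z => by
    obtain ⟨⟨E₀, l₀⟩, s₀, rfl⟩ := exists_stalkEtι_eq hA p hp ((toAbEt X).obj M) z
    obtain ⟨V, hV, hlV, -⟩ := E₀.obj.left.left.isBasis_affineOpens.exists_subset_of_mem_open
      (Set.mem_univ (liftPt p l₀)) isOpen_univ
    obtain ⟨V, hV', rfl⟩ := hV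
    let E := AlgSpEt14.openSub E₀ V
    have hE : IsAffine E.obj.left.left := hV'
    obtain ⟨x, hx⟩ := (AlgSpEt14.range_openSubι E₀ V).ge hlV
    have hxZ : ¬ (idealOfRep hi.1).ideal E hE ≤ primeAtPt E.obj.left.left x := fun hc => hpZ (by
      have := (mem_range_map_iff hi E x).2 hc
      rwa [AlgSpEt14.ofPt_openSub, hx, ofPt_liftPt] at this)
    obtain ⟨a, ha, hax⟩ := SetLike.not_le_iff_exists.1 hxZ
    let s : sectModEt M E := res M (AlgSpEt14.openSubι E₀ V) s₀
    have hs : (a ^ n) • s = 0 := (mem_annSect_iff s _).1 (h E hE s (Ideal.pow_mem_pow ha n))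
    let D := AlgSpEt14.openSub E (E.obj.left.left.basicOpen a)
    let κ : D ⟶ E := AlgSpEt14.openSubι E (E.obj.left.left.basicOpen a)
    have hunit : IsUnit (γ κ a) := by
      change IsUnit (κ.hom.left.left.appTop.hom a)
      refine RingedSpace.isUnit_of_isUnit_germ _ ⊤ _ fun d _ => ?_
      refine (D.obj.left.left.mem_basicOpen (U := ⊤) _ d trivial).1 ?_
      rw [← Scheme.preimage_basicOpen_top]
      exact (AlgSpEt14.range_openSubι E (E.obj.left.left.basicOpen a)).le ⟨d, rfl⟩
    have hres : res M κ s = 0 := by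
      have : γ κ (a ^ n) • res M κ s = 0 := by rw [← res_smul, hs, map_zero]
      rw [map_pow] at this
      exact (hunit.pow n).smul_eq_zero.1 this
    obtain ⟨d, hd⟩ := (AlgSpEt14.range_openSubι E (E.obj.left.left.basicOpen a)).ge
      (show x ∈ E.obj.left.left.basicOpen a from not_not.1 fun hc => hax ((mem_primeAtPt_iff_notMem_basicOpen a x).2 hc))
    refine (stalkEtι_eq_zero_iff hA p hp _ ⟨E₀, l₀⟩ s₀).2 ⟨D, κ ≫ AlgSpEt14.openSubι E₀ V, ?_, d, ?_⟩
    · have : res M (κ ≫ AlgSpEt14.openSubι E₀ V) s₀ = 0 := by rw [res_comp]; exact hres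
      exact this
    · change (AlgSpEt14.openSubι E₀ V).hom.left.left (κ.hom.left.left d) = _
      rw [hd, hx]
  have : Subsingleton ↥(stalkEt p ((toAbEt X).obj M)) := ⟨fun a b => (h0 a).trans (h0 b).symm⟩
  exact AddCommGrpCat.isZero_of_subsingleton _

theorem exists_pow_le_annSect [M.IsFinitePresentation] (hA : IsAlgSpace X) (hX : IsLocNoethSp X)
    {U : EtOver X} [hU : IsAffine U.obj.left.left] (hUs : Function.Surjective (Points.ofPt U.obj.hom))
    (hi : RepWith @IsClosedImmersion i) {I : IdealEt X} (hI : I.IsQCoh) (hIi : idealOfRep hi.1 = I)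
    (h : ∀ p : FieldPt X, p.IsGeometric → Points.mk p ∉ Set.range (Points.map i) →
      IsZero (stalkEt p ((toAbEt X).obj M))) :
    ∃ n : ℕ, ∀ (E : EtOver X) (hE : IsAffine E.obj.left.left) (s : sectModEt M E), (I ^ n).ideal E hE ≤ annSect s := by
  classical
  have hM : ∀ (E : EtOver X) [IsAffine E.obj.left.left], Good M E := fun E _ => good_of_isQuasicoherent E
  have := isNoetherianRing_Γo hX U
  have hrad : ∀ m : sectModEt M U, I.ideal U hU ≤ (annSect m).radical := fun m a ha => by
    rw [Ideal.radical_eq_sInf, Ideal.mem_sInf]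
    rintro P ⟨hle, hP⟩
    obtain ⟨x, rfl⟩ := exists_point_of_prime P hP
    by_contra hax
    have hxZ : Points.ofPt U.obj.hom x ∉ Set.range (Points.map i) := fun hc =>
      hax ((mem_range_map_iff hi U x).1 hc (hIi.symm ▸ ha))
    obtain ⟨q, hq, l, hl⟩ := exists_geometric_lift U x
    have hz := h q hq (by rw [← ofPt_liftPt q l, hl]; exact hxZ)
    have := AddCommGrpCat.subsingleton_of_isZero hz
    obtain ⟨V, φ, hφ, v, hv⟩ := (stalkEtι_eq_zero_iff hA q hq ((toAbEt X).obj M) ⟨U, l⟩ m).1 (Subsingleton.elim _ _)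
    obtain ⟨O, hO, hvO, -⟩ := V.obj.left.left.isBasis_affineOpens.exists_subset_of_mem_open (Set.mem_univ v) isOpen_univ
    obtain ⟨O, hO', rfl⟩ := hO
    obtain ⟨w, hw⟩ := (AlgSpEt14.range_openSubι V O).ge hvO
    have : IsAffine (AlgSpEt14.openSub V O).obj.left.left := hO'
    refine res_ne_zero (hM U) (AlgSpEt14.openSubι V O ≫ φ) w m ?_ ?_
    · change annSect m ≤ primeAtPt _ (φ.hom.left.left ((AlgSpEt14.openSubι V O).hom.left.left w))
      rw [hw, hv, hl]
      exact hle
    · rw [res_comp, show res M φ m = 0 from hφ, map_zero]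
  obtain ⟨T, hT⟩ := Module.Finite.fg_top (R := Γo U) (M := sectModEt M U) (self := finite_of_isFinitePresentation U)
  choose k hk using fun m => Ideal.exists_pow_le_of_le_radical_of_fg (hrad m) (IsNoetherian.noetherian _)
  let n := T.sup k
  have hgen : ∀ m : sectModEt M U, ∀ a ∈ I.ideal U hU ^ n, a • m = 0 := fun m a ha => by
    have hm : m ∈ Submodule.span (Γo U) (T : Set (sectModEt M U)) := hT.ge trivial
    induction hm using Submodule.span_induction with
    | mem x hx => exact (mem_annSect_iff x a).1 (hk x (Ideal.pow_le_pow_right (Finset.le_sup hx) ha))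
    | zero => exact smul_zero _
    | add x y _ _ hx hy => rw [smul_add, hx, hy, add_zero]
    | smul r x _ hx => rw [smul_comm, hx, smul_zero]
  refine ⟨n, fun E hE s a ha => ?_⟩
  rw [mem_annSect_iff]
  change a • s = 0
  choose u hu using fun v : ↥E.obj.left.left => hUs (Points.ofPt E.obj.hom v)
  choose W hW k₁ k₂ w hw₁ hw₂ using fun v : ↥E.obj.left.left => exists_common_affine v (u v) (hu v).symm
  refine sections_ext_family M W k₁ (fun v => ⟨v, w v, hw₁ v⟩) fun v => ?_
  have := hW v
  rw [res_smul, map_zero]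
  obtain ⟨z, hz⟩ := (hM U (k₂ v)).2 (res M (k₁ v) s)
  rw [← hz]
  have hb : γ (k₁ v) a ∈ ((I.ideal U hU) ^ n).map (γ (k₂ v)) := by
    rw [Ideal.map_pow]
    exact Ideal.pow_right_mono (hI (k₂ v) hU (hW v)) n ((I ^ n).map_le (k₁ v) hE (hW v) (Ideal.mem_map_of_mem _ ha))
  clear hz
  generalize γ (k₁ v) a = c₀ at hb ⊢
  induction hb using Submodule.span_induction with
  | mem b hb =>
    obtain ⟨c, hc, rfl⟩ := hb
    induction z using TensorProduct.induction_on with
    | zero => rw [map_zero, smul_zero]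
    | tmul t m => rw [lift_tmul, LinearMap.id_apply, smul_comm, ← res_smul, hgen m c hc, map_zero, smul_zero]
    | add x y hx hy => rw [map_add, smul_add, hx, hy, add_zero]
  | zero => exact zero_smul _ _
  | add x y _ _ hx hy => rw [add_smul, hx, hy, add_zero]
  | smul r x _ hx => rw [smul_eq_mul, mul_smul, hx, smul_zero]

end Groth.Agent.QcohEt15
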