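import Mathlib.RingTheory.Flat.FaithfullyFlat.Algebra
import Mathlib.RingTheory.TensorProduct.Maps

/-!
# The Amitsur complex of a module in degrees zero and one
-/

universe u v

open TensorProduct

namespace Groth.Agent.QcohEt15.Amitsur

variable {A : Type u} [CommRing A] (B : Type u) [CommRing B] [Algebra A B] (N : Type v) [AddCommGroup N] [Module A N]

/-- The augmentation `n ↦ 1 ⊗ n`. -/
noncomputable def ι : N →ₗ[A] B ⊗[A] N := TensorProduct.mk A B N 1

/-- The first differential `b ⊗ n ↦ b ⊗ (1 ⊗ n) - 1 ⊗ (b ⊗ n)`. -/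
noncomputable def d₀ : B ⊗[A] N →ₗ[A] B ⊗[A] (B ⊗[A] N) :=
  (ι B N).lTensor B - ι B (B ⊗[A] N)

/-- The second differential. -/
noncomputable def d₁ : B ⊗[A] (B ⊗[A] N) →ₗ[A] B ⊗[A] (B ⊗[A] (B ⊗[A] N)) :=
  ((ι B N).lTensor B).lTensor B - (ι B (B ⊗[A] N)).lTensor B + ι B (B ⊗[A] (B ⊗[A] N))

/-- The contraction multiplying the first two factors. -/
noncomputable def μ : B ⊗[A] (B ⊗[A] N) →ₗ[A] B ⊗[A] N :=
  (LinearMap.mul' A B).rTensor N ∘ₗ (TensorProduct.assoc A B B N).symm.toLinearMap

variable {B N}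

@[simp] theorem μ_tmul (b c : B) (n : N) : μ (A := A) B N (b ⊗ₜ (c ⊗ₜ n)) = (b * c) ⊗ₜ n := by
  simp [μ]

@[simp] theorem ι_apply (n : N) : ι (A := A) B N n = (1 : B) ⊗ₜ n := rfl

theorem d₀_tmul (b : B) (n : N) : d₀ (A := A) B N (b ⊗ₜ n) = b ⊗ₜ ((1 : B) ⊗ₜ n) - (1 : B) ⊗ₜ (b ⊗ₜ n) := by
  simp [d₀]

theorem d₁_tmul (b c : B) (n : N) : d₁ (A := A) B N (b ⊗ₜ (c ⊗ₜ n)) =
    b ⊗ₜ (c ⊗ₜ ((1 : B) ⊗ₜ n)) - b ⊗ₜ ((1 : B) ⊗ₜ (c ⊗ₜ n)) + (1 : B) ⊗ₜ (b ⊗ₜ (c ⊗ₜ n)) := by
  simp [d₁]

variable (B N)

theorem d₀_ι (n : N) : d₀ B N (ι (A := A) B N n) = 0 := by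
  rw [ι_apply, d₀_tmul, sub_self]

theorem injective_ι [Module.FaithfullyFlat A B] : Function.Injective (ι (A := A) B N) := by
  rw [← Module.FaithfullyFlat.lTensor_injective_iff_injective A B]
  refine Function.LeftInverse.injective (g := μ B N) fun z => ?_
  induction z using TensorProduct.induction_on with
  | zero => simp
  | tmul b n => simp
  | add x y hx hy => simp only [map_add, hx, hy]

theorem exact_d₀ [Module.FaithfullyFlat A B] : Function.Exact (ι (A := A) B N) (d₀ B N) := by
  refine Module.FaithfullyFlat.lTensor_reflects_exact A B _ _ fun z => ⟨fun hz => ⟨μ B N z, ?_⟩, ?_⟩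
  · have key : ∀ z, μ B (B ⊗[A] N) ((d₀ B N).lTensor B z) = (ι B N).lTensor B (μ B N z) - z := by
      intro z
      induction z using TensorProduct.induction_on with
      | zero => simp
      | tmul b x =>
        induction x using TensorProduct.induction_on with
        | zero => simp
        | tmul c n => simp [d₀_tmul, tmul_sub, map_sub]
        | add x y hx hy => simp only [tmul_add, map_add, hx, hy]; abel
      | add x y hx hy => simp only [map_add, hx, hy]; abel
    have := key z
    rw [hz, map_zero] at this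
    exact sub_eq_zero.1 this.symm
  · rintro ⟨y, rfl⟩
    rw [← LinearMap.lTensor_comp_apply, show (d₀ B N).comp (ι (A := A) B N) = 0 from
      LinearMap.ext (d₀_ι B N), LinearMap.lTensor_zero, LinearMap.zero_apply]

theorem d₁_d₀ (z : B ⊗[A] N) : d₁ B N (d₀ B N z) = 0 := by
  induction z using TensorProduct.induction_on with
  | zero => simp
  | tmul b n => simp only [d₀_tmul, map_sub, d₁_tmul]; abel
  | add x y hx hy => simp only [map_add, hx, hy, add_zero]

theorem exact_d₁ [Module.FaithfullyFlat A B] : Function.Exact (d₀ (A := A) B N) (d₁ B N) := by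
  refine Module.FaithfullyFlat.lTensor_reflects_exact A B _ _ fun z => ⟨fun hz => ⟨-μ B (B ⊗[A] N) z, ?_⟩, ?_⟩
  · have key : ∀ z, μ B (B ⊗[A] (B ⊗[A] N)) ((d₁ B N).lTensor B z) =
        z + (d₀ B N).lTensor B (μ B (B ⊗[A] N) z) := by
      intro z
      induction z using TensorProduct.induction_on with
      | zero => simp
      | tmul a x =>
        induction x using TensorProduct.induction_on with
        | zero => simp
        | tmul b y =>
          induction y using TensorProduct.induction_on with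
          | zero => simp
          | tmul c n =>
            simp only [LinearMap.lTensor_tmul, d₁_tmul, tmul_add, tmul_sub, map_add, map_sub, μ_tmul,
              map_neg, d₀_tmul, mul_one]
            abel
          | add x y hx hy => simp only [tmul_add, map_add, hx, hy]; abel
        | add x y hx hy => simp only [tmul_add, map_add, hx, hy]; abel
      | add x y hx hy => simp only [map_add, hx, hy]; abel
    have := key z
    rw [hz, map_zero] at this
    rw [map_neg]
    exact (eq_neg_of_add_eq_zero_left this.symm).symm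
  · rintro ⟨y, rfl⟩
    rw [← LinearMap.lTensor_comp_apply, show (d₁ B N).comp (d₀ (A := A) B N) = 0 from
      LinearMap.ext (d₁_d₀ B N), LinearMap.lTensor_zero, LinearMap.zero_apply]

end Groth.Agent.QcohEt15.Amitsur
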