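import Groth.Agent.Lib.QcohEt15.Site
import Groth.Agent.Lib.Cech24.Cocycle
import Mathlib.CategoryTheory.Limits.Constructions.Over.Basic
import Mathlib.CategoryTheory.Sites.EpiMono

/-!
# Sheaves with exact Čech complexes for coverings of affine objects by one affine object
-/

universe u

set_option backward.isDefEq.respectTransparency false

open CategoryTheory CategoryTheory.Limits AlgebraicGeometry Opposite Groth.Agent.Cech24

namespace Groth.Agent.QcohEt15

open AlgSp

variable {S : Scheme.{u}} {X : Sp S}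

instance hasPullbacks_etOver : HasPullbacks (EtOver X) :=
  haveI : ∀ {A B C : EtOver X} {f : A ⟶ C} {g : B ⟶ C}, HasLimit (cospan f g) :=
    fun {_ _ _ f g} => (EtOver.isPullback f g).hasPullback
  hasPullbacks_of_hasLimit_cospan _

instance hasFiniteProducts_over (E : EtOver X) : HasFiniteProducts (Over E) :=
  haveI := Over.ConstructProducts.over_binaryProduct_of_pullback (B := E)
  hasFiniteProducts_of_has_binary_and_terminal

/-- The family with one member. -/
abbrev one {E E₀ : EtOver X} (h : E₀ ⟶ E) : PUnit.{u + 2} → Over E := fun _ => Over.mk h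

/-- The fibre powers of one object. -/
noncomputable abbrev pr1 {E E₀ : EtOver X} (h : E₀ ⟶ E) (n : ℕ) : Over E := pr (one h) fun _ : Fin (n + 1) => PUnit.unit

/-- The projections of a fibre power. -/
noncomputable def prπ {E E₀ : EtOver X} (h : E₀ ⟶ E) (n : ℕ) (j : Fin (n + 1)) : (pr1 h n).left ⟶ E₀ :=
  (Pi.π (one h ∘ fun _ : Fin (n + 1) => PUnit.unit) j).left

theorem prπ_comp {E E₀ : EtOver X} (h : E₀ ⟶ E) (n : ℕ) (j : Fin (n + 1)) : prπ h n j ≫ h = (pr1 h n).hom :=
  Over.w (Pi.π (one h ∘ fun _ : Fin (n + 1) => PUnit.unit) j)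

theorem pr1_hom_ext {E E₀ T : EtOver X} {h : E₀ ⟶ E} {n : ℕ} {x y : T ⟶ (pr1 h n).left}
    (e : ∀ j, x ≫ prπ h n j = y ≫ prπ h n j) : x = y :=
  pr_hom_ext (one h) (a := fun _ : Fin (n + 1) => PUnit.unit) x y e

/-- The face maps. -/
noncomputable def face1 {E E₀ : EtOver X} (h : E₀ ⟶ E) (n : ℕ) (i : Fin (n + 2)) :
    (pr1 h (n + 1)).left ⟶ (pr1 h n).left :=
  (prFace (one h) (fun _ : Fin (n + 2) => PUnit.unit) i).left

theorem fc_π {E E₀ : EtOver X} (h : E₀ ⟶ E) (n : ℕ) (i : Fin (n + 2)) (j : Fin (n + 1)) :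
    face1 h n i ≫ prπ h n j = prπ h (n + 1) (i.succAbove j) :=
  (Over.comp_left _ _ _ _ _).symm.trans (congrArg Over.Hom.left
    (Pi.lift_π (f := one h ∘ fun _ : Fin (n + 1) => PUnit.unit) _ j))

theorem face1_comp {E E₀ : EtOver X} (h : E₀ ⟶ E) (n : ℕ) (i : Fin (n + 2)) :
    face1 h n i ≫ (pr1 h n).hom = (pr1 h (n + 1)).hom :=
  Over.w (prFace (one h) (fun _ : Fin (n + 2) => PUnit.unit) i)

/-- A map into a fibre power. -/
noncomputable def mkPr {E E₀ T : EtOver X} {h : E₀ ⟶ E} {n : ℕ} (f : Fin (n + 1) → (T ⟶ E₀))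
    (hf : ∀ j, f j ≫ h = f 0 ≫ h) : T ⟶ (pr1 h n).left :=
  (Pi.lift (f := one h ∘ fun _ : Fin (n + 1) => PUnit.unit) fun j =>
    (Over.homMk (f j) (hf j) : Over.mk (f 0 ≫ h) ⟶ Over.mk h)).left

theorem mkPr_π {E E₀ T : EtOver X} {h : E₀ ⟶ E} {n : ℕ} (f : Fin (n + 1) → (T ⟶ E₀))
    (hf : ∀ j, f j ≫ h = f 0 ≫ h) (j : Fin (n + 1)) : mkPr f hf ≫ prπ h n j = f j :=
  (Over.comp_left _ _ _ _ _).symm.trans (congrArg Over.Hom.left
    (Pi.lift_π (f := one h ∘ fun _ : Fin (n + 1) => PUnit.unit) _ j))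

/-- The fibre power as an iterated fibre product. -/
noncomputable def Θ {E E₀ : EtOver X} (h : E₀ ⟶ E) (n : ℕ) :
    EtOver.pullbackObj h (pr1 h n).hom ⟶ (pr1 h (n + 1)).left :=
  mkPr (Fin.cases (EtOver.pullbackFst h (pr1 h n).hom) fun j => EtOver.pullbackSnd h (pr1 h n).hom ≫ prπ h n j)
    fun j => by
      refine Fin.cases ?_ (fun j => ?_) j
      · rfl
      · rw [Fin.cases_succ, Category.assoc, prπ_comp, Fin.cases_zero, EtOver.pullback_condition]

theorem Θ_zero {E E₀ : EtOver X} (h : E₀ ⟶ E) (n : ℕ) :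
    Θ h n ≫ prπ h (n + 1) 0 = EtOver.pullbackFst h (pr1 h n).hom := mkPr_π _ _ _

theorem Θ_succ {E E₀ : EtOver X} (h : E₀ ⟶ E) (n : ℕ) (j : Fin (n + 1)) :
    Θ h n ≫ prπ h (n + 1) j.succ = EtOver.pullbackSnd h (pr1 h n).hom ≫ prπ h n j := mkPr_π _ _ _

theorem isIso_Θ {E E₀ : EtOver X} (h : E₀ ⟶ E) (n : ℕ) : IsIso (Θ h n) := by
  let q : (pr1 h (n + 1)).left ⟶ EtOver.pullbackObj h (pr1 h n).hom :=
    (EtOver.isPullback h (pr1 h n).hom).lift (prπ h (n + 1) 0) (face1 h n 0) (by rw [prπ_comp, face1_comp])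
  have hq₁ : q ≫ EtOver.pullbackFst h (pr1 h n).hom = prπ h (n + 1) 0 := IsPullback.lift_fst _ _ _ _
  have hq₂ : q ≫ EtOver.pullbackSnd h (pr1 h n).hom = face1 h n 0 := IsPullback.lift_snd _ _ _ _
  refine ⟨q, (EtOver.isPullback h (pr1 h n).hom).hom_ext ?_ (pr1_hom_ext fun j => ?_), pr1_hom_ext fun j => ?_⟩
  · rw [Category.assoc, hq₁, Θ_zero, Category.id_comp]
  · rw [Category.assoc (Θ h n), hq₂, Category.assoc, fc_π, Fin.succAbove_zero, Θ_succ, Category.id_comp]
  · rw [Category.assoc, Category.id_comp]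
    refine Fin.cases ?_ (fun j => ?_) j
    · rw [Θ_zero, hq₁]
    · rw [Θ_succ, ← Category.assoc, hq₂, fc_π, Fin.succAbove_zero]

theorem isAffine_of_iso {A B : EtOver X} (e : A ⟶ B) [IsIso e] [IsAffine A.obj.left.left] : IsAffine B.obj.left.left :=
  IsAffine.of_isIso (inv e).hom.left.left

theorem isAffine_pr1 {E E₀ : EtOver X} [IsAffine E.obj.left.left] [IsAffine E₀.obj.left.left] (h : E₀ ⟶ E) :
    ∀ n, IsAffine (pr1 h n).left.obj.left.left := by
  intro n
  induction n with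
  | zero =>
    have : IsIso (mkPr (h := h) (n := 0) (fun _ => 𝟙 E₀) fun _ => rfl) :=
      ⟨prπ h 0 0, mkPr_π _ _ _, pr1_hom_ext fun j => by
        obtain rfl : j = 0 := Fin.fin_one_eq_zero j
        rw [Category.assoc, mkPr_π, Category.comp_id, Category.id_comp]⟩
    exact isAffine_of_iso (mkPr (h := h) (n := 0) (fun _ => 𝟙 E₀) fun _ => rfl)
  | succ n ih =>
    have := isIso_Θ h n
    exact isAffine_of_iso (Θ h n)

/-- The Čech complexes of coverings of affine objects by one affine object are exact in positive degrees. -/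
def AcycAff (F : AbEt X) : Prop :=
  ∀ ⦃E E₀ : EtOver X⦄ [IsAffine E.obj.left.left] [IsAffine E₀.obj.left.left] (h : E₀ ⟶ E),
    Surjective h.hom.left.left → ∀ n : ℕ, IsZero (EtCech.cechH (one h) F.obj (n + 1))

theorem acycAff_of_injective (I : AbEt X) [Injective I] : AcycAff I := by
  have : Injective I.obj :=
    Injective.injective_of_adjoint (sheafificationAdjunction (etTop X) AddCommGrpCat.{u + 1}) I
  exact fun E E₀ _ _ h _ n => isZero_cechH_injective (one h) I.obj n

theorem isSheaf_type (F : AbEt X) : Presieve.IsSheaf (etTop X) (F.obj ⋙ forget AddCommGrpCat.{u + 1}) :=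
  (isSheaf_iff_isSheaf_of_type _ _).1 ((Presheaf.isSheaf_iff_isSheaf_forget _ F.obj (forget _)).1 F.property)

theorem ab_ext_family (F : AbEt X) {E : EtOver X} {ι : Type*} (Y : ι → EtOver X) (g : ∀ i, Y i ⟶ E)
    (h : ∀ x : ↥E.obj.left.left, ∃ i, x ∈ Set.range (g i).hom.left.left) {m m' : F.obj.obj (op E)}
    (e : ∀ i, F.obj.map (g i).op m = F.obj.map (g i).op m') : m = m' :=
  ((Presieve.isSheafFor_iff_generate _).2 (isSheaf_type F _ (ofArrows_mem_etTop Y g h))).isSeparatedFor.ext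
    fun _ _ hf => by obtain ⟨i⟩ := hf; exact e i

theorem ab_glue_family (F : AbEt X) {E : EtOver X} {ι : Type*} (Y : ι → EtOver X) (g : ∀ i, Y i ⟶ E)
    (h : ∀ x : ↥E.obj.left.left, ∃ i, x ∈ Set.range (g i).hom.left.left) (m : ∀ i, F.obj.obj (op (Y i)))
    (hm : ∀ i j (Z : EtOver X) (a : Z ⟶ Y i) (b : Z ⟶ Y j), a ≫ g i = b ≫ g j →
      F.obj.map a.op (m i) = F.obj.map b.op (m j)) :
    ∃ m₀ : F.obj.obj (op E), ∀ i, F.obj.map (g i).op m₀ = m i := by
  obtain ⟨x, hx, -⟩ := (Presieve.isSheafFor_arrows_iff _ _).1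
    ((Presieve.isSheafFor_iff_generate _).2 (isSheaf_type F _ (ofArrows_mem_etTop Y g h))) m hm
  exact ⟨x, hx⟩

variable {T : ShortComplex (AbEt X)} (hT : T.ShortExact)

theorem exact_mono_presheaf_et (hT : T.ShortExact) :
    (T.map (sheafToPresheaf (etTop X) AddCommGrpCat.{u + 1})).Exact ∧
      Mono ((sheafToPresheaf (etTop X) AddCommGrpCat.{u + 1}).map T.f) := by
  have h := (Functor.preservesFiniteLimits_tfae (sheafToPresheaf (etTop X) AddCommGrpCat.{u + 1})).out 3 0
  exact h.1 inferInstance T hT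

include hT in
theorem exists_single_lift (E : EtOver X) [IsAffine E.obj.left.left] (t : T.X₃.obj.obj (op E)) :
    ∃ (E₀ : EtOver X) (_ : IsAffine E₀.obj.left.left) (h : E₀ ⟶ E) (s : T.X₂.obj.obj (op E₀)),
      Surjective h.hom.left.left ∧ T.g.hom.app (op E₀) s = T.X₃.obj.map h.op t := by
  haveI := hT.epi_g
  haveI : Sheaf.IsLocallySurjective T.g := (Sheaf.isLocallySurjective_iff_epi' _ T.g).2 inferInstance
  obtain ⟨κ, hκ, Y, f, hY, hRf, hcov⟩ :=
    exists_affine_family _ (Presheaf.imageSieve_mem (etTop X) T.g.hom (U := op E) t)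
  obtain ⟨E₀, hE₀, ι, h₀, hι, hop, hc, hd⟩ := exists_coprod E Y f
  choose m hm using hRf
  obtain ⟨m₀, hm₀⟩ := ab_glue_family T.X₂ Y ι hc m fun l l' Z p q e => by
    by_cases hll : l = l'
    · subst hll
      have := hop l
      have hpq : p = q := EtOver.hom_ext _ _ (Over.OverMorphism.ext
        ((cancel_mono (ι l).hom.left.left).1 (congrArg (fun r => r.hom.left.left) e)))
      rw [hpq]
    · have := hd _ _ Z p q e hll
      exact ab_ext_family T.X₂ (fun e : PEmpty.{1} => e.elim) (fun e => e.elim) (fun z => isEmptyElim z) fun e => e.elim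
  refine ⟨E₀, hE₀, h₀, m₀, ⟨fun x => ?_⟩, ab_ext_family T.X₃ Y ι hc fun k => ?_⟩
  · obtain ⟨k, v, hv⟩ := hcov x
    exact ⟨(ι k).hom.left.left v, by
      change ((ι k).hom.left.left ≫ h₀.hom.left.left) v = x
      rw [show (ι k).hom.left.left ≫ h₀.hom.left.left = (f k).hom.left.left from
        congrArg (fun q => q.hom.left.left) (hι k)]
      exact hv⟩
  · rw [← NatTrans.naturality_apply, hm₀, ← Functor.map_comp_apply, ← op_comp, hι]
    exact hm k

include hT in
theorem surjective_of_acycAff (h1 : AcycAff T.X₁) (E : EtOver X) [IsAffine E.obj.left.left] :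
    Function.Surjective (T.g.hom.app (op E)) := by
  intro t
  obtain ⟨hex, hmono⟩ := exact_mono_presheaf_et hT
  have hexA : ∀ (V : EtOver X) (x : T.X₂.obj.obj (op V)), T.g.hom.app (op V) x = 0 →
      ∃ y, T.f.hom.app (op V) y = x := fun V x hx =>
    (ShortComplex.ab_exact_iff _).1 (hex.map ((evaluation _ _).obj (op V))) x hx
  have hinjA : ∀ V : EtOver X, Function.Injective (T.f.hom.app (op V)) := fun V =>
    (AddCommGrpCat.mono_iff_injective _).1 ((NatTrans.mono_iff_mono_app _).1 hmono (op V))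
  obtain ⟨E₀, hE₀, h, s, hs, hst⟩ := exists_single_lift hT E t
  let c : ∀ b : Fin 1 → PUnit.{u + 2}, T.X₂.obj.obj (op (pr (one h) b).left) :=
    fun b => T.X₂.obj.map (prπ h 0 0).op s
  have hgc : ∀ b, T.g.hom.app _ (c b) = T.X₃.obj.map (pr (one h) b).hom.op t := fun b => by
    change T.g.hom.app (op (pr1 h 0).left) (T.X₂.obj.map (prπ h 0 0).op s) = T.X₃.obj.map (pr1 h 0).hom.op t
    rw [NatTrans.naturality_apply, hst, ← Functor.map_comp_apply, ← op_comp, prπ_comp]
  have hg0 : ∀ a, T.g.hom.app _ (dCochain (one h) T.X₂.obj c a) = 0 := fun a => by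
    rw [dCochain_nat]
    simp only [hgc]
    rw [dCochain, Fin.sum_univ_two]
    simp only [← Functor.map_comp_apply, ← op_comp, Over.w, Fin.val_zero, Fin.val_one, pow_zero, pow_one,
      one_zsmul, neg_smul, add_neg_cancel]
  choose k hk using fun a => hexA _ _ (hg0 a)
  have hdk : dCochain (one h) T.X₁.obj k = 0 := funext fun a => hinjA _ (by
    rw [Pi.zero_apply, map_zero, dCochain_nat, show (fun b => T.f.hom.app _ (k b)) = dCochain (one h) T.X₂.obj c
      from funext hk]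
    exact congrFun (dCochain_dCochain (one h) T.X₂.obj c) a)
  obtain ⟨y, hy⟩ := exists_of_isZero (one h) T.X₁.obj (h1 h hs 0) k hdk
  let c' : ∀ b : Fin 1 → PUnit.{u + 2}, T.X₂.obj.obj (op (pr (one h) b).left) :=
    c - fun b => T.f.hom.app _ (y b)
  have hc' : ∀ a, dCochain (one h) T.X₂.obj c' a = 0 := fun a => by
    rw [dCochain_sub, ← dCochain_nat, hy, hk, sub_self]
  let d : T.X₂.obj.obj (op (pr1 h 0).left) := c' fun _ => PUnit.unit
  let e : E₀ ⟶ (pr1 h 0).left := mkPr (fun _ => 𝟙 E₀) fun _ => rfl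
  have hd : T.X₂.obj.map (face1 h 0 0).op d = T.X₂.obj.map (face1 h 0 1).op d := by
    have h0 : dCochain (one h) T.X₂.obj c' (fun _ => PUnit.unit) =
        ∑ i : Fin 2, (-1 : ℤ) ^ (i : ℕ) • T.X₂.obj.map (face1 h 0 i).op d := rfl
    rw [hc', Fin.sum_univ_two] at h0
    simp only [Fin.val_zero, Fin.val_one, pow_zero, pow_one, one_zsmul, neg_smul, ← sub_eq_add_neg] at h0
    exact sub_eq_zero.1 h0.symm
  obtain ⟨t₀, ht₀⟩ := ab_glue_family T.X₂ (fun _ : PUnit.{1} => E₀) (fun _ => h) (fun x => ⟨⟨⟩, hs.surj x⟩)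
    (fun _ => T.X₂.obj.map e.op d) fun _ _ Z a b eab => by
      let m : Z ⟶ (pr1 h 1).left := mkPr (Fin.cases a fun _ => b) fun j => by
        refine Fin.cases ?_ (fun _ => ?_) j
        · rfl
        · exact eab.symm
      have ha : m ≫ face1 h 0 1 = a ≫ e := pr1_hom_ext fun j => by
        obtain rfl : j = 0 := Fin.fin_one_eq_zero j
        rw [Category.assoc, fc_π, Category.assoc, mkPr_π, mkPr_π, Category.comp_id]
        rfl
      have hb : m ≫ face1 h 0 0 = b ≫ e := pr1_hom_ext fun j => by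
        obtain rfl : j = 0 := Fin.fin_one_eq_zero j
        rw [Category.assoc, fc_π, Category.assoc, mkPr_π, mkPr_π, Category.comp_id]
        rfl
      rw [← Functor.map_comp_apply, ← Functor.map_comp_apply, ← op_comp, ← op_comp, ← ha, ← hb, op_comp, op_comp,
        Functor.map_comp_apply, Functor.map_comp_apply, hd]
  refine ⟨t₀, ab_ext_family T.X₃ (fun _ : PUnit.{1} => E₀) (fun _ => h) (fun x => ⟨⟨⟩, hs.surj x⟩) fun u => ?_⟩
  rw [← NatTrans.naturality_apply, ht₀ u, NatTrans.naturality_apply]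
  have hgd : T.g.hom.app (op (pr1 h 0).left) d = T.X₃.obj.map (pr1 h 0).hom.op t := by
    show T.g.hom.app _ (c _ - T.f.hom.app _ (y _)) = _
    rw [map_sub, hgc, ← ConcreteCategory.comp_apply (T.f.hom.app _), ← NatTrans.comp_app,
      ← ObjectProperty.FullSubcategory.comp_hom, T.zero]
    exact sub_zero _
  rw [hgd, ← Functor.map_comp_apply, ← op_comp, ← prπ_comp h 0 0, ← Category.assoc, mkPr_π, Category.id_comp]

theorem isZero_cechH_of_bijective {E : EtOver X} {ι : Type (u + 1)} (Uf : ι → Over E)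
    {P Q : (EtOver X)ᵒᵖ ⥤ AddCommGrpCat.{u + 1}} (f : P ⟶ Q) (n : ℕ)
    (hf : ∀ (m : ℕ) (a : Fin (m + 1) → ι), Function.Bijective (f.app (op (pr Uf a).left)))
    (h : IsZero (EtCech.cechH Uf P (n + 1))) : IsZero (EtCech.cechH Uf Q (n + 1)) := by
  refine isZero_of_exists Uf Q fun c hc => ?_
  choose c' hc' using fun a => (hf _ a).2 (c a)
  obtain ⟨b, hb⟩ := exists_of_isZero Uf P h c' (funext fun a => (hf _ a).1 (by
    rw [dCochain_nat, Pi.zero_apply, map_zero]
    simp only [hc']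
    exact congrFun hc a))
  exact ⟨fun a => f.app _ (b a), funext fun a => by rw [← dCochain_nat, hb, hc']⟩

include hT in
theorem acycAff_X₃ (h1 : AcycAff T.X₁) (h2 : AcycAff T.X₂) : AcycAff T.X₃ := by
  intro E E₀ _ _ h hs n
  obtain ⟨hex, hmono⟩ := exact_mono_presheaf_et hT
  let f : T.X₁.obj ⟶ T.X₂.obj := T.f.hom
  haveI : Mono f := hmono
  have hP : (ShortComplex.mk f (cokernel.π f) (cokernel.condition f)).ShortExact :=
    { exact := ShortComplex.exact_cokernel f }
  let η : cokernel f ⟶ T.X₃.obj := cokernel.desc f T.g.hom (by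
    show T.f.hom ≫ T.g.hom = 0
    rw [← ObjectProperty.FullSubcategory.comp_hom, T.zero]; rfl)
  refine isZero_cechH_of_bijective (one h) η n (fun m a => ?_) ?_
  · have hW : IsAffine (pr (one h) a).left.obj.left.left := isAffine_pr1 h m
    have hπ : Function.Surjective ((cokernel.π f).app (op (pr (one h) a).left)) :=
      (AddCommGrpCat.epi_iff_surjective _).1 inferInstance
    have hη : ∀ y, η.app (op (pr (one h) a).left) ((cokernel.π f).app _ y) = T.g.hom.app _ y := fun y =>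
      ConcreteCategory.congr_hom (NatTrans.congr_app (cokernel.π_desc f T.g.hom _) _) y
    refine ⟨(injective_iff_map_eq_zero (η.app _).hom).2 fun x hx => ?_, fun x => ?_⟩
    · obtain ⟨y, rfl⟩ := hπ x
      obtain ⟨z, rfl⟩ := (ShortComplex.ab_exact_iff _).1 (hex.map ((evaluation _ _).obj (op (pr (one h) a).left))) y
        ((hη y).symm.trans hx)
      exact ConcreteCategory.congr_hom (NatTrans.congr_app (cokernel.condition f) _) z
    · obtain ⟨y, hy⟩ := surjective_of_acycAff hT h1 (pr (one h) a).left x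
      exact ⟨(cokernel.π f).app _ y, (hη y).trans hy⟩
  · refine ((cechT (one h)).exact₃ _ hP (n + 1) (n + 2) rfl).isZero_X₂ ?_ ?_
    · exact (h2 h hs n).eq_of_src _ _
    · exact (h1 h hs (n + 1)).eq_of_tgt _ _

end Groth.Agent.QcohEt15
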