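import Groth.Agent.Lib.QcohEt15.LocColim

/-!
# Colimits recognised locally
-/

universe u v w

set_option backward.isDefEq.respectTransparency false

open CategoryTheory CategoryTheory.Limits AlgebraicGeometry Opposite

namespace Groth.Agent.QcohEt15

open AlgSp

variable {S : Scheme.{u}} {X : Sp S} {J : Type w} [Category.{v} J] {F : J ⥤ ModEt X}

/-- Two sections with the same image in the vertex have the same image in every cocone. -/
theorem appₗ_eq_of_eq' {t : Cocone F}
    (upper : ∀ j j' : J, ∃ k : J, Nonempty (j ⟶ k) ∧ Nonempty (j' ⟶ k))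
    (hzero : ∀ (E : EtOver X) [IsAffine E.obj.left.left] (j : J) (n : sectModEt (F.obj j) E),
      appₗ (cleg t j) E n = 0 → ∀ v : ↥E.obj.left.left, ∃ (Z : EtOver X) (g : Z ⟶ E) (k : J) (f : j ⟶ k),
        v ∈ Set.range g.hom.left.left ∧ appₗ (F.map f) Z (res (F.obj j) g n) = 0)
    (c : Cocone F) {E : EtOver X} {j j' : J}
    (n : sectModEt (F.obj j) E) (n' : sectModEt (F.obj j') E)
    (e : appₗ (cleg t j) E n = appₗ (cleg t j') E n') : appₗ (cleg c j) E n = appₗ (cleg c j') E n' := by
  obtain ⟨k, ⟨f⟩, ⟨g⟩⟩ := upper j j'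
  rw [← appₗ_w (t := c) f E n, ← appₗ_w (t := c) g E n', ← sub_eq_zero, ← map_sub]
  set d := appₗ (F.map f) E n - appₗ (F.map g) E n' with hd
  have hd0 : appₗ (cleg t k) E d = 0 := by rw [hd, map_sub, appₗ_w, appₗ_w, e, sub_self]
  refine sections_ext_affine c.pt fun Z _ a => ?_
  rw [map_zero, ← appₗ_res]
  choose W g' k' f' hv h0 using hzero Z k (res (F.obj k) a d) (by rw [appₗ_res, hd0, map_zero])
  refine sections_ext_family c.pt W g' (fun v => ⟨v, hv v⟩) fun v => ?_
  rw [map_zero, ← appₗ_res, ← appₗ_w (t := c) (f' v), h0 v, map_zero]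

/-- A cocone is a colimit when it is locally surjective and locally injective. -/
theorem isColimit_of_local' (t : Cocone F)
    (upper : ∀ j j' : J, ∃ k : J, Nonempty (j ⟶ k) ∧ Nonempty (j' ⟶ k))
    (hzero : ∀ (E : EtOver X) [IsAffine E.obj.left.left] (j : J) (n : sectModEt (F.obj j) E),
      appₗ (cleg t j) E n = 0 → ∀ v : ↥E.obj.left.left, ∃ (Z : EtOver X) (g : Z ⟶ E) (k : J) (f : j ⟶ k),
        v ∈ Set.range g.hom.left.left ∧ appₗ (F.map f) Z (res (F.obj j) g n) = 0)
    (hloc : ∀ (E : EtOver X) (m : sectModEt t.pt E) (v : ↥E.obj.left.left),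
      ∃ (Z : EtOver X) (g : Z ⟶ E) (j : J) (n : sectModEt (F.obj j) Z),
        v ∈ Set.range g.hom.left.left ∧ appₗ (cleg t j) Z n = res t.pt g m) : Nonempty (IsColimit t) := by
  have key : ∀ c : Cocone F, ∃! l : t.pt ⟶ c.pt, ∀ j, cleg t j ≫ l = cleg c j := by
    intro c
    have hex : ∀ (E : EtOver X) (m : sectModEt t.pt E), ∃ p, IsDesc t c m p := by
      intro E m
      let R : Sieve E :=
        { arrows := fun Z g => ∃ (j : J) (n : sectModEt (F.obj j) Z), appₗ (cleg t j) Z n = res t.pt g m
          downward_closed := fun {Z Z'} g ⟨j, n, hn⟩ h => ⟨j, res _ h n, by rw [appₗ_res, hn, res_comp]⟩ }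
      choose W g jj nn hv hn using hloc E m
      have hR : R ∈ etTop X E := by
        refine (etTop X).superset_covering ((Sieve.generate_le_iff _ _).2 ?_)
          (ofArrows_mem_etTop W g fun v => ⟨v, hv v⟩)
        rintro Z _ ⟨v⟩
        exact ⟨jj v, nn v, hn v⟩
      let x : Presieve.FamilyOfElements (c.pt.val.presheaf ⋙ CategoryTheory.forget AddCommGrpCat.{u + 1}) R.arrows :=
        fun Z g hg => appₗ (cleg c hg.choose) Z hg.choose_spec.choose
      have hx : x.Compatible := fun Y₁ Y₂ Z g₁ g₂ f₁ f₂ h₁ h₂ e => by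
        change res c.pt g₁ (appₗ (cleg c h₁.choose) Y₁ h₁.choose_spec.choose) =
          res c.pt g₂ (appₗ (cleg c h₂.choose) Y₂ h₂.choose_spec.choose)
        refine ((appₗ_res _ _ _).symm.trans ?_).trans (appₗ_res _ _ _)
        refine appₗ_eq_of_eq' upper hzero c _ _ ?_
        rw [appₗ_res, appₗ_res, h₁.choose_spec.choose_spec, h₂.choose_spec.choose_spec]
        refine ((res_comp t.pt f₁ g₁ m).symm.trans ?_).trans (res_comp t.pt f₂ g₂ m)
        rw [e]
      obtain ⟨p, hp, -⟩ := isSheaf_sections c.pt R hR x hx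
      refine ⟨p, fun Z g j n hn => ?_⟩
      have hg : R g := ⟨j, n, hn⟩
      rw [show res c.pt g p = _ from hp g hg]
      exact appₗ_eq_of_eq' upper hzero c _ _ (hn.trans hg.choose_spec.choose_spec.symm)
    have huniq : ∀ (E : EtOver X) (m : sectModEt t.pt E) (p q : sectModEt c.pt E),
        IsDesc t c m p → IsDesc t c m q → p = q := by
      intro E m p q hp hq
      choose W g jj nn hv hn using hloc E m
      refine sections_ext_family c.pt W g (fun v => ⟨v, hv v⟩) fun v => ?_
      rw [← hp (W v) (g v) (jj v) (nn v) (hn v), hq (W v) (g v) (jj v) (nn v) (hn v)]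
    choose d hd using hex
    have hsmul : ∀ (E : EtOver X) (r : Γo E) (a : sectModEt t.pt E), d E (r • a) = r • d E a := by
      intro E r a
      choose W g jj nn hv hn using hloc E a
      refine sections_ext_family c.pt W g (fun v => ⟨v, hv v⟩) fun v => ?_
      rw [← hd E (r • a) _ (g v) (jj v) (γ (g v) r • nn v) (by rw [map_smul, hn, res_smul]), map_smul, res_smul,
        hd E a _ (g v) (jj v) (nn v) (hn v)]
    have hnat : ∀ {E E' : EtOver X} (g : E' ⟶ E) (a : sectModEt t.pt E), d E' (res t.pt g a) = res c.pt g (d E a) :=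
      fun {E E'} g a => huniq _ _ _ _ (hd _ _) fun Z h j n hn => by
        rw [← res_comp, hd E a Z (h ≫ g) j n (by rw [hn, res_comp])]
    have hadd : ∀ (E : EtOver X) (a b : sectModEt t.pt E), d E (a + b) = d E a + d E b := by
      intro E a b
      choose W g jj nn hv hn using hloc E a
      refine sections_ext_family c.pt W g (fun v => ⟨v, hv v⟩) fun v => ?_
      choose W' g' jj' nn' hv' hn' using hloc (W v) (res t.pt (g v) b)
      refine sections_ext_family c.pt W' g' (fun v' => ⟨v', hv' v'⟩) fun v' => ?_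
      obtain ⟨k, ⟨f⟩, ⟨f'⟩⟩ := upper (jj v) (jj' v')
      let n₁ := res (F.obj (jj v)) (g' v') (nn v)
      have hn₁ : appₗ (cleg t (jj v)) (W' v') n₁ = res t.pt (g' v' ≫ g v) a := by rw [appₗ_res, hn, res_comp]
      have hn₂ : appₗ (cleg t (jj' v')) (W' v') (nn' v') = res t.pt (g' v' ≫ g v) b := by rw [hn', res_comp]
      rw [← res_comp, ← res_comp, ← hd E (a + b) _ (g' v' ≫ g v) k (appₗ (F.map f) _ n₁ + appₗ (F.map f') _ (nn' v'))
        (by rw [map_add, appₗ_w, appₗ_w, hn₁, hn₂, map_add]), map_add, appₗ_w, appₗ_w, map_add,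
        hd E a _ (g' v' ≫ g v) (jj v) n₁ hn₁, hd E b _ (g' v' ≫ g v) (jj' v') (nn' v') hn₂]
    let l : t.pt ⟶ c.pt := ⟨PresheafOfModules.homMk
      { app := fun E => AddCommGrpCat.ofHom (AddMonoidHom.mk' (fun a => d E.unop a) (hadd E.unop))
        naturality := fun {E E'} g => by ext a; exact hnat g.unop a }
      fun E r a => hsmul E.unop (ULift.down r) a⟩
    refine ⟨l, fun j => ?_, fun l' hl' => ?_⟩
    · apply SheafOfModules.hom_ext
      apply PresheafOfModules.hom_ext
      intro E
      ext n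
      have h := hd E.unop (appₗ (cleg t j) E.unop n) E.unop (𝟙 _) j n (res_id t.pt _ _).symm
      rw [res_id] at h
      exact h.symm
    · apply SheafOfModules.hom_ext
      apply PresheafOfModules.hom_ext
      intro E
      ext a
      refine huniq E.unop a _ _ (fun Z g j n hn => ?_) (hd E.unop a)
      change appₗ (cleg c j) Z n = res c.pt g (appₗ l' E.unop a)
      rw [← appₗ_res, ← hn, ← appₗ_comp, show cleg t j ≫ l' = cleg c j from hl' j]
  exact ⟨{ desc := fun c => (key c).choose
           fac := fun c j => (key c).choose_spec.1 j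
           uniq := fun c l hl => (key c).choose_spec.2 l hl }⟩

end Groth.Agent.QcohEt15
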