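import Groth.Agent.Lib.QcohEt15.Coherent
import Groth.Agent.Lib.QcohEt15.LocColim2
import Groth.Agent.Lib.QcohEt15.Pull.Desc

/-!
# Modules on spaces affine over a Noetherian space are colimits of modules of finite presentation
-/

universe u v

set_option backward.isDefEq.respectTransparency false

open CategoryTheory CategoryTheory.Limits AlgebraicGeometry Opposite TensorProduct

namespace Groth.Agent.QcohEt15.CohColim

open AlgSp Groth.Agent.QcohEt15.Pull

/-- A morphism from an inverse image is determined by its transpose. -/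
theorem pullQ_hom_ext {S : Scheme.{u}} {X : Sp S} {Y : Space S} {f : X ⟶ Y.obj} (hf : Representable f)
    {G : ModEt Y.obj} (hG : ∀ (V : EtOver Y.obj) [IsAffine V.obj.left.left], Good G V) {T : ModEt X}
    {l l' : pullQ f G hG ⟶ T}
    (h : unitQ hf hG ≫ (pushModEt hf).map l = unitQ hf hG ≫ (pushModEt hf).map l') : l = l' :=
  (descQ_unique hf _ hG l rfl).trans (descQ_unique hf _ hG l' h.symm).symm

/-- The standing data: a quasi-separated locally Noetherian base with an affine chart and an affine morphism. -/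
structure Ctx {S : Scheme.{u}} (X : Sp S) (Y : Space S) : Type (u + 1) where
  /-- the morphism -/
  f : X ⟶ Y.obj
  hf : Representable f
  haff : IsAffineMor f
  /-- the chart -/
  U : EtOver Y.obj
  hU : IsAffine U.obj.left.left
  hsurj : Function.Surjective (Points.ofPt U.obj.hom)
  hqs : IsQuasiSeparatedSp Y.obj
  hN : IsLocNoethSp Y.obj

variable {S : Scheme.{u}} [QuasiSeparatedSpace ↥S] {X : Sp S} {Y : Space S} (C : Ctx X Y)

attribute [local instance] Ctx.hU

variable {T : ModEt X} (hT : ∀ (E : EtOver X) [IsAffine E.obj.left.left], Good T E)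

include hT in
theorem good_push' (V : EtOver Y.obj) [IsAffine V.obj.left.left] : Good ((pushModEt C.hf).obj T) V :=
  have := isAffine_bcObj C.hf C.haff V
  good_push C.hf C.haff (hT _)

/-- Finitely generated submodules of the sections over the chart. -/
abbrev FgSub (T : ModEt X) : Type (u + 1) :=
  {N : Submodule (Γo C.U) (sectModEt ((pushModEt C.hf).obj T) C.U) // N.FG}

/-- The coherent submodule of the direct image. -/
noncomputable def SG (N : FgSub C T) : ModEt Y.obj := locSub N.1 (good_push' C hT C.U)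

theorem good_SG (N : FgSub C T) (V : EtOver Y.obj) [IsAffine V.obj.left.left] : Good (SG C hT N) V :=
  good_locSub N.1 (good_push' C hT C.U) C.hqs (good_push' C hT V)

theorem fp_SG (N : FgSub C T) (V : EtOver Y.obj) [IsAffine V.obj.left.left] :
    Module.FinitePresentation (Γo V) (sectModEt (SG C hT N) V) :=
  have : (SG C hT N).IsFinitePresentation :=
    isFinitePresentation_locSub N.1 (good_push' C hT C.U) C.hqs C.hN (fun E _ => good_push' C hT E) C.hsurj N.2
  finitePresentation_sections (M := SG C hT N) V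

/-- The inclusion. -/
noncomputable def SGι (N : FgSub C T) : SG C hT N ⟶ (pushModEt C.hf).obj T := locι N.1 (good_push' C hT C.U)

instance (N : FgSub C T) : Mono (SGι C hT N) := by unfold SGι; infer_instance

theorem SGι_range {N : FgSub C T} {V : EtOver Y.obj} (s : sectModEt ((pushModEt C.hf).obj T) V) :
    s ∈ Set.range (appₗ (SGι C hT N) V) ↔ InLoc N.1 s := appₗ_locι_range _ _ s

/-- The inverse image of a coherent submodule. -/
noncomputable def QN (N : FgSub C T) : ModEt X := pullQ C.f (SG C hT N) (fun V _ => good_SG C hT N V)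

/-- The unit. -/
noncomputable def ηN (N : FgSub C T) : SG C hT N ⟶ (pushModEt C.hf).obj (QN C hT N) := unitQ C.hf _

/-- The evaluation map. -/
noncomputable def εN (N : FgSub C T) : QN C hT N ⟶ T := descQ C.hf (SGι C hT N) _

theorem ηN_εN (N : FgSub C T) : ηN C hT N ≫ (pushModEt C.hf).map (εN C hT N) = SGι C hT N := unit_descQ _ _ _

theorem QN_hom_ext {N : FgSub C T} {T' : ModEt X} {l l' : QN C hT N ⟶ T'}
    (h : ηN C hT N ≫ (pushModEt C.hf).map l = ηN C hT N ≫ (pushModEt C.hf).map l') : l = l' :=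
  pullQ_hom_ext C.hf (fun V _ => good_SG C hT N V) h

theorem good_QN (N : FgSub C T) (E : EtOver X) [IsAffine E.obj.left.left] : Good (QN C hT N) E :=
  good_pullQ C.hf _ E

theorem fp_QN (N : FgSub C T) (E : EtOver X) [IsAffine E.obj.left.left] :
    Module.FinitePresentation (Γo E) (sectModEt (QN C hT N) E) :=
  have : (QN C hT N).IsFinitePresentation := isFinitePresentation_pullQ C.hf _ (fun V _ => fp_SG C hT N V)
  finitePresentation_sections (M := QN C hT N) E

variable {T' : ModEt X} (hT' : ∀ (E : EtOver X) [IsAffine E.obj.left.left], Good T' E)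

/-- The map of inverse images of coherent submodules along a morphism. -/
noncomputable def qmap (κ : T ⟶ T') (N : FgSub C T) (N' : FgSub C T')
    (h : ∀ x ∈ N.1, appₗ ((pushModEt C.hf).map κ) C.U x ∈ N'.1) : QN C hT N ⟶ QN C hT' N' :=
  descQ C.hf (toLocSub N'.1 (good_push' C hT' C.U) (SGι C hT N ≫ (pushModEt C.hf).map κ) (fun _ s =>
    inLoc_of_hom (SGι C hT N ≫ (pushModEt C.hf).map κ) (good_SG C hT N C.U) N'.1
      (fun x => h _ (mem_of_inLoc N.1 _ ((SGι_range C hT _).1 ⟨x, rfl⟩))) s) ≫ ηN C hT' N') _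

theorem qmap_ε (κ : T ⟶ T') (N : FgSub C T) (N' : FgSub C T')
    (h : ∀ x ∈ N.1, appₗ ((pushModEt C.hf).map κ) C.U x ∈ N'.1) :
    qmap C hT hT' κ N N' h ≫ εN C hT' N' = εN C hT N ≫ κ := by
  refine QN_hom_ext C hT ?_
  rw [Functor.map_comp, Functor.map_comp, ← Category.assoc, ← Category.assoc]
  unfold qmap
  rw [show ηN C hT N ≫ (pushModEt C.hf).map (descQ C.hf _ _) = _ from unit_descQ _ _ _, Category.assoc,
    ηN_εN, ηN_εN]
  exact toLocSub_ι _ _ _ _

theorem qmap_id (N : FgSub C T) (h : ∀ x ∈ N.1, appₗ ((pushModEt C.hf).map (𝟙 T)) C.U x ∈ N.1) :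
    qmap C hT hT (𝟙 T) N N h = 𝟙 _ := by
  refine QN_hom_ext C hT ?_
  unfold qmap
  rw [show ηN C hT N ≫ (pushModEt C.hf).map (descQ C.hf _ _) = _ from unit_descQ _ _ _,
    show ηN C hT N ≫ (pushModEt C.hf).map (𝟙 (QN C hT N)) = ηN C hT N from
      (congrArg (ηN C hT N ≫ ·) ((pushModEt C.hf).map_id _)).trans (Category.comp_id _)]
  refine (congrArg (· ≫ ηN C hT N) ?_).trans (Category.id_comp _)
  rw [← cancel_mono (SGι C hT N), Category.id_comp]
  refine (toLocSub_ι _ _ _ _).trans ?_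
  rw [(pushModEt C.hf).map_id, Category.comp_id]

theorem qmap_comp {T'' : ModEt X} (hT'' : ∀ (E : EtOver X) [IsAffine E.obj.left.left], Good T'' E)
    (κ : T ⟶ T') (κ' : T' ⟶ T'') (N : FgSub C T) (N' : FgSub C T') (N'' : FgSub C T'')
    (h : ∀ x ∈ N.1, appₗ ((pushModEt C.hf).map κ) C.U x ∈ N'.1)
    (h' : ∀ x ∈ N'.1, appₗ ((pushModEt C.hf).map κ') C.U x ∈ N''.1)
    (h'' : ∀ x ∈ N.1, appₗ ((pushModEt C.hf).map (κ ≫ κ')) C.U x ∈ N''.1) :
    qmap C hT hT'' (κ ≫ κ') N N'' h'' = qmap C hT hT' κ N N' h ≫ qmap C hT' hT'' κ' N' N'' h' := by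
  refine QN_hom_ext C hT ?_
  rw [Functor.map_comp, ← Category.assoc]
  unfold qmap
  rw [show ηN C hT N ≫ (pushModEt C.hf).map (descQ C.hf _ _) = _ from unit_descQ _ _ _,
    show ηN C hT N ≫ (pushModEt C.hf).map (descQ C.hf _ _) = _ from unit_descQ _ _ _, Category.assoc,
    show ηN C hT' N' ≫ (pushModEt C.hf).map (descQ C.hf _ _) = _ from unit_descQ _ _ _, ← Category.assoc]
  congr 1

/-- The canonical map for an inclusion. -/
noncomputable def qincl {N N' : FgSub C T} (h : N.1 ≤ N'.1) : QN C hT N ⟶ QN C hT N' :=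
  qmap C hT hT (𝟙 T) N N' (fun x hx => by
    rw [(pushModEt C.hf).map_id]
    exact h hx)

theorem qincl_ε {N N' : FgSub C T} (h : N.1 ≤ N'.1) : qincl C hT h ≫ εN C hT N' = εN C hT N :=
  (qmap_ε C hT hT _ _ _ _).trans (Category.comp_id _)

/-- Every section is locally the image of a section of the inverse image of a coherent submodule. -/
theorem exists_pull_sect {W : EtOver X} {V : EtOver Y.obj} [IsAffine W.obj.left.left] [IsAffine V.obj.left.left]
    (b : W ⟶ EtOver.bcObj C.hf V) (m : sectModEt T W) :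
    ∃ (N : FgSub C T) (q : sectModEt (QN C hT N) W), appₗ (εN C hT N) W q = m := by
  have := isAffine_bcObj C.hf C.haff V
  obtain ⟨z, rfl⟩ := (hT _ b).2 m
  induction z using TensorProduct.induction_on with
  | zero => exact ⟨⟨⊥, Submodule.fg_bot⟩, 0, by rw [map_zero, map_zero]⟩
  | tmul c x =>
    obtain ⟨N, hN, hx⟩ := exists_fg_inLoc C.hqs (good_push' C hT C.U) (pushIn C.hf x)
    obtain ⟨g, hg⟩ := (SGι_range C hT (N := ⟨N, hN⟩) (pushIn C.hf x)).2 hx
    refine ⟨⟨N, hN⟩, Tw.out c • res _ b (pushOut C.hf (appₗ (ηN C hT ⟨N, hN⟩) V g)), ?_⟩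
    rw [map_smul, lift_tmul, appₗ_res]
    congr 2
    refine Eq.trans ?_ (congrArg (pushOut C.hf) hg)
    exact congrArg (fun q => pushOut C.hf (appₗ q V g)) (ηN_εN C hT ⟨N, hN⟩)
  | add x y hx hy =>
    obtain ⟨N₁, q₁, h₁⟩ := hx
    obtain ⟨N₂, q₂, h₂⟩ := hy
    refine ⟨⟨N₁.1 ⊔ N₂.1, N₁.2.sup N₂.2⟩, appₗ (qincl C hT le_sup_left) W q₁ + appₗ (qincl C hT le_sup_right) W q₂, ?_⟩
    rw [map_add, map_add, ← appₗ_comp, ← appₗ_comp, qincl_ε, qincl_ε, h₁, h₂]

/-- The kernel of the evaluation map. -/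
noncomputable abbrev KN (N : FgSub C T) : ModEt X := kernel (εN C hT N)

theorem good_KN (N : FgSub C T) (E : EtOver X) [IsAffine E.obj.left.left] : Good (KN C hT N) E :=
  good_kernel _ (good_QN C hT N E) (hT E)

variable (T) in
/-- Indices: finitely generated generators and relations. -/
def Idx : Type (u + 1) := Σ N : FgSub C T, FgSub C (KN C hT N)

/-- The relations. -/
noncomputable def rel (i : Idx C T hT) : QN C (good_KN C hT i.1) i.2 ⟶ QN C hT i.1 :=
  εN C (good_KN C hT i.1) i.2 ≫ kernel.ι (εN C hT i.1)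

/-- The module of an index. -/
noncomputable def obj' (i : Idx C T hT) : ModEt X := cokernel (rel C hT i)

/-- The projection. -/
noncomputable def πI (i : Idx C T hT) : QN C hT i.1 ⟶ obj' C hT i := cokernel.π _

theorem rel_π (i : Idx C T hT) : rel C hT i ≫ πI C hT i = 0 := cokernel.condition _

instance (i : Idx C T hT) : Epi (πI C hT i) := inferInstanceAs (Epi (cokernel.π _))

instance : Preorder (Idx C T hT) where
  le i j := ∃ h : i.1.1 ≤ j.1.1, rel C hT i ≫ qincl C hT h ≫ πI C hT j = 0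
  le_refl i := ⟨le_rfl, by
    rw [show qincl C hT (le_refl i.1.1) = 𝟙 _ from qmap_id C hT i.1 _, Category.id_comp, rel_π]⟩
  le_trans i j k := fun ⟨h₁, e₁⟩ ⟨h₂, e₂⟩ => ⟨h₁.trans h₂, by
    let m : obj' C hT j ⟶ obj' C hT k := cokernel.desc _ (qincl C hT h₂ ≫ πI C hT k) e₂
    have hm : πI C hT j ≫ m = qincl C hT h₂ ≫ πI C hT k := cokernel.π_desc _ _ _
    have hc : qincl C hT (h₁.trans h₂) = qincl C hT h₁ ≫ qincl C hT h₂ := by
      unfold qincl
      rw [← qmap_comp C hT hT hT (𝟙 T) (𝟙 T) i.1 j.1 k.1 _ _ (fun x hx => by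
        rw [Category.id_comp, (pushModEt C.hf).map_id]
        exact h₂ (h₁ hx))]
      congr 1
    rw [hc, Category.assoc, ← hm, ← Category.assoc, ← Category.assoc, Category.assoc (rel C hT i), e₁, zero_comp]⟩

/-- The diagram. -/
noncomputable def diag : Idx C T hT ⥤ ModEt X where
  obj i := obj' C hT i
  map {i j} f := cokernel.desc _ (qincl C hT f.le.1 ≫ πI C hT j) f.le.2
  map_id i := by
    refine (cancel_epi (πI C hT i)).1 ?_
    refine (cokernel.π_desc _ _ _).trans ?_
    rw [show qincl C hT _ = 𝟙 _ from qmap_id C hT i.1 _, Category.id_comp, Category.comp_id]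
  map_comp {i j k} f g := by
    refine (cancel_epi (πI C hT i)).1 ?_
    refine (cokernel.π_desc _ _ _).trans ?_
    rw [← Category.assoc]
    refine Eq.trans ?_ (congrArg (· ≫ _) (cokernel.π_desc _ _ _)).symm
    rw [Category.assoc]
    refine Eq.trans ?_ (congrArg (qincl C hT f.le.1 ≫ ·) (cokernel.π_desc _ _ _)).symm
    rw [← Category.assoc]
    congr 1
    unfold qincl
    rw [← qmap_comp C hT hT hT (𝟙 T) (𝟙 T) i.1 j.1 k.1 _ _ (fun x hx => by
      rw [Category.id_comp, (pushModEt C.hf).map_id]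
      exact g.le.1 (f.le.1 hx))]
    congr 1

/-- The map to the module. -/
noncomputable def toT (i : Idx C T hT) : obj' C hT i ⟶ T :=
  cokernel.desc _ (εN C hT i.1) (by rw [rel, Category.assoc, kernel.condition, comp_zero])

theorem π_toT (i : Idx C T hT) : πI C hT i ≫ toT C hT i = εN C hT i.1 := cokernel.π_desc _ _ _

theorem π_map {i j : Idx C T hT} (f : i ⟶ j) :
    πI C hT i ≫ (diag C hT).map f = qincl C hT f.le.1 ≫ πI C hT j := cokernel.π_desc _ _ _

/-- The cocone. -/
noncomputable def cocone : diag C hT ⟶ (Functor.const (Idx C T hT)).obj T where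
  app i := toT C hT i
  naturality i j f := by
    refine (cancel_epi (πI C hT i)).1 ?_
    rw [← Category.assoc, π_map, Category.assoc, π_toT, qincl_ε]
    change _ = πI C hT i ≫ toT C hT i ≫ 𝟙 T
    rw [Category.comp_id, π_toT]

theorem le_of_kernel_map (i j : Idx C T hT) (h : i.1.1 ≤ j.1.1)
    (κ : KN C hT i.1 ⟶ KN C hT j.1) (hκ : κ ≫ kernel.ι _ = kernel.ι _ ≫ qincl C hT h)
    (hL : ∀ x ∈ i.2.1, appₗ ((pushModEt C.hf).map κ) C.U x ∈ j.2.1) : i ≤ j := by
  refine ⟨h, ?_⟩
  rw [rel, Category.assoc, ← Category.assoc (kernel.ι _), ← hκ, ← Category.assoc, ← Category.assoc,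
    ← qmap_ε C (good_KN C hT i.1) (good_KN C hT j.1) κ i.2 j.2 hL, Category.assoc (qmap _ _ _ _ _ _ _),
    Category.assoc]
  rw [show (εN C (good_KN C hT j.1) j.2 ≫ kernel.ι (εN C hT j.1)) = rel C hT j from rfl, rel_π, comp_zero]

theorem upper (i j : Idx C T hT) : ∃ k, i ≤ k ∧ j ≤ k := by
  let N : FgSub C T := ⟨i.1.1 ⊔ j.1.1, i.1.2.sup j.1.2⟩
  let κ : ∀ (a : FgSub C T), a.1 ≤ N.1 → (KN C hT a ⟶ KN C hT N) := fun a h =>
    kernel.lift _ (kernel.ι _ ≫ qincl C hT h) (by rw [Category.assoc, qincl_ε, kernel.condition])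
  let L : FgSub C (KN C hT N) :=
    ⟨i.2.1.map (appₗ ((pushModEt C.hf).map (κ i.1 le_sup_left)) C.U) ⊔
      j.2.1.map (appₗ ((pushModEt C.hf).map (κ j.1 le_sup_right)) C.U), (i.2.2.map _).sup (j.2.2.map _)⟩
  exact ⟨⟨N, L⟩, le_of_kernel_map C hT i ⟨N, L⟩ le_sup_left (κ i.1 le_sup_left) (kernel.lift_ι _ _ _)
      fun x hx => Submodule.mem_sup_left ⟨x, hx, rfl⟩,
    le_of_kernel_map C hT j ⟨N, L⟩ le_sup_right (κ j.1 le_sup_right) (kernel.lift_ι _ _ _)
      fun x hx => Submodule.mem_sup_right ⟨x, hx, rfl⟩⟩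

theorem isFinitePresentation_obj (i : Idx C T hT) : (obj' C hT i).IsFinitePresentation := by
  have hgood : ∀ (E : EtOver X) [IsAffine E.obj.left.left], Good (obj' C hT i) E := fun E _ =>
    (cokernel_sections (rel C hT i) (E := E) (fun Z _ => good_QN C (good_KN C hT i.1) i.2 Z)
      (fun Z _ => good_QN C hT i.1 Z)).1
  refine isFinitePresentation_of_good_of_finitePresentation hgood fun E _ => ?_
  have := fp_QN C hT i.1 E
  have := fp_QN C (good_KN C hT i.1) i.2 E
  have hs : Function.Surjective (appₗ (πI C hT i) E) :=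
    (cokernel_sections (rel C hT i) (E := E) (fun Z _ => good_QN C (good_KN C hT i.1) i.2 Z)
      (fun Z _ => good_QN C hT i.1 Z)).2
  refine Module.finitePresentation_of_surjective _ hs ?_
  have hk : (appₗ (πI C hT i) E).ker = LinearMap.range (appₗ (rel C hT i) E) := le_antisymm
    (fun n hn => ker_cokernel_π_le (rel C hT i) (good_QN C (good_KN C hT i.1) i.2 E) (good_QN C hT i.1 E) n
      (LinearMap.mem_ker.1 hn))
    (by
      rintro _ ⟨q, rfl⟩
      exact appₗ_comp_zero _ _ (rel_π C hT i) q)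
  rw [hk, LinearMap.range_eq_map]
  exact Submodule.FG.map _ Module.Finite.fg_top

/-- The index preorder is filtered and the cocone is a colimit. -/
theorem isColimit_cocone : IsFiltered (Idx C T hT) ∧ Nonempty (IsColimit (Cocone.mk T (cocone C hT))) := by
  have hne : Nonempty (Idx C T hT) := ⟨⟨⟨⊥, Submodule.fg_bot⟩, ⟨⊥, Submodule.fg_bot⟩⟩⟩
  have : IsFilteredOrEmpty (Idx C T hT) :=
    { cocone_objs := fun i j => by
        obtain ⟨k, hi, hj⟩ := upper C hT i j
        exact ⟨k, homOfLE hi, homOfLE hj, trivial⟩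
      cocone_maps := fun i j f g => ⟨j, 𝟙 _, Subsingleton.elim _ _⟩ }
  refine ⟨{}, isColimit_of_local' _ (fun i j => ?_) (fun E _ i n hn v => ?_) fun E m v => ?_⟩
  · obtain ⟨k, hi, hj⟩ := upper C hT i j
    exact ⟨k, ⟨homOfLE hi⟩, ⟨homOfLE hj⟩⟩
  · obtain ⟨q, hq⟩ := (cokernel_sections (rel C hT i) (E := E) (fun Z _ => good_QN C (good_KN C hT i.1) i.2 Z)
      (fun Z _ => good_QN C hT i.1 Z)).2 n
    obtain ⟨V, hV, W, hW, k, b, hkv⟩ := exists_affine_over_bc C.hf E v
    have hε : appₗ (εN C hT i.1) E q = 0 := by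
      rw [← π_toT, appₗ_comp]
      exact (congrArg (appₗ (toT C hT i) E) hq).trans hn
    obtain ⟨w, hw⟩ := exists_kernel_sect (εN C hT i.1) (res (QN C hT i.1) k q) (by rw [appₗ_res, hε, map_zero])
    obtain ⟨L, qL, hqL⟩ := exists_pull_sect C (good_KN C hT i.1) b w
    let j : Idx C T hT := ⟨i.1, ⟨i.2.1 ⊔ L.1, i.2.2.sup L.2⟩⟩
    have hij : i ≤ j := le_of_kernel_map C hT i j le_rfl (𝟙 _)
      (by rw [Category.id_comp, show qincl C hT (le_refl i.1.1) = 𝟙 _ from qmap_id C hT i.1 _, Category.comp_id])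
      fun x hx => by
        rw [(pushModEt C.hf).map_id]
        exact Submodule.mem_sup_left hx
    refine ⟨W, k, j, homOfLE hij, hkv, ?_⟩
    have e : res (obj' C hT i) k n = appₗ (πI C hT i) W (res (QN C hT i.1) k q) := by
      rw [appₗ_res]
      exact congrArg (res (obj' C hT i) k) hq.symm
    change appₗ ((diag C hT).map (homOfLE hij)) W (res (obj' C hT i) k n) = 0
    rw [e]
    change appₗ (πI C hT i ≫ (diag C hT).map (homOfLE hij)) W (res (QN C hT i.1) k q) = 0
    rw [π_map, show qincl C hT (le_refl i.1.1) = 𝟙 _ from qmap_id C hT i.1 _, Category.id_comp]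
    have hsec : res (QN C hT i.1) k q =
        appₗ (rel C hT j) W (appₗ (qincl C (good_KN C hT i.1) (le_sup_right : L.1 ≤ i.2.1 ⊔ L.1) (N' := j.2)) W qL) := by
      rw [← hw, ← hqL, ← qincl_ε C (good_KN C hT i.1) (le_sup_right : L.1 ≤ i.2.1 ⊔ L.1) (N' := j.2)]
      rfl
    rw [hsec]
    exact appₗ_comp_zero _ _ (rel_π C hT j) _
  · obtain ⟨V, hV, W, hW, k, b, hkv⟩ := exists_affine_over_bc C.hf E v
    obtain ⟨N, q, hq⟩ := exists_pull_sect C hT b (res T k m)
    let j : Idx C T hT := ⟨N, ⟨⊥, Submodule.fg_bot⟩⟩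
    refine ⟨W, k, j, appₗ (πI C hT j) W q, hkv, ?_⟩
    change appₗ (toT C hT j) W (appₗ (πI C hT j) W q) = res T k m
    rw [← appₗ_comp, π_toT, hq]

end Groth.Agent.QcohEt15.CohColim
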