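import Groth.Agent.Lib.QcohEt15.Good

/-!
# Compatibility with base change is local
-/

universe u v

set_option backward.isDefEq.respectTransparency false

open CategoryTheory CategoryTheory.Limits AlgebraicGeometry Opposite TensorProduct

namespace Groth.Agent.QcohEt15

open AlgSp

variable {S : Scheme.{u}} {X : Sp S} {M : ModEt X}

/-- Functions on a fibre product of affine objects. -/
theorem exists_mulMap {E E₁ E₂ : EtOver X} [IsAffine E.obj.left.left] [IsAffine E₁.obj.left.left]
    [IsAffine E₂.obj.left.left] (g₁ : E₁ ⟶ E) (g₂ : E₂ ⟶ E) :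
    ∃ μ : Tw g₁ ⊗[Γo E] Tw g₂ →+ Γo (EtOver.pullbackObj g₁ g₂), Function.Bijective μ ∧
      ∀ a b, μ (a ⊗ₜ b) = γ (EtOver.pullbackFst g₁ g₂) (Tw.out a) * γ (EtOver.pullbackSnd g₁ g₂) (Tw.out b) := by
  let j := EtOver.pullbackFst g₁ g₂ ≫ g₁
  let f₁ : Tw g₁ →ₐ[Γo E] Tw j :=
    { toFun := fun a => γ (EtOver.pullbackFst g₁ g₂) a, map_one' := map_one (γ _), map_mul' := map_mul (γ _)
      map_zero' := map_zero (γ _), map_add' := map_add (γ _)
      commutes' := fun r => (RingHom.congr_fun (γ_comp g₁ (EtOver.pullbackFst g₁ g₂)) r).symm }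
  let f₂ : Tw g₂ →ₐ[Γo E] Tw j :=
    { toFun := fun a => γ (EtOver.pullbackSnd g₁ g₂) a, map_one' := map_one (γ _), map_mul' := map_mul (γ _)
      map_zero' := map_zero (γ _), map_add' := map_add (γ _)
      commutes' := fun r => by
        change γ (EtOver.pullbackSnd g₁ g₂) (γ g₂ r) = γ j r
        rw [show j = EtOver.pullbackSnd g₁ g₂ ≫ g₂ from EtOver.pullback_condition g₁ g₂, γ_comp]
        rfl }
  let Φ := Algebra.TensorProduct.productMap f₁ f₂
  have sq := isPushout_γ g₁ g₂
  let sq' := CommRingCat.isPushout_tensorProduct (Γo E) (Tw g₁) (Tw g₂)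
  let e := sq'.isoIsPushout _ _ sq
  have he : e.hom.hom = Φ.toRingHom := by
    refine Algebra.TensorProduct.ringHom_ext ?_ ?_
    · ext a
      refine (RingHom.congr_fun (congrArg CommRingCat.Hom.hom (sq'.inl_isoIsPushout_hom _ _ sq)) a).trans ?_
      exact (Algebra.TensorProduct.productMap_left_apply f₁ f₂ a).symm
    · ext a
      refine (RingHom.congr_fun (congrArg CommRingCat.Hom.hom (sq'.inr_isoIsPushout_hom _ _ sq)) a).trans ?_
      exact (Algebra.TensorProduct.productMap_right_apply f₁ f₂ a).symm
  have hb : Function.Bijective e.hom.hom := (ConcreteCategory.isIso_iff_bijective e.hom).1 inferInstance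
  rw [he] at hb
  refine ⟨{ toFun := fun x => Tw.out (Φ x), map_zero' := map_zero Φ, map_add' := map_add Φ }, hb, fun a b => ?_⟩
  change Tw.out (Φ (a ⊗ₜ b)) = _
  simp only [Φ, Algebra.TensorProduct.productMap_apply_tmul]
  rfl

/-- Sections over `E₀` as a module over functions on `E`. -/
@[nolint unusedArguments]
def Push (M : ModEt X) {E E₀ : EtOver X} (_h : E₀ ⟶ E) : Type (u + 1) := sectModEt M E₀

noncomputable instance {E E₀ : EtOver X} (h : E₀ ⟶ E) : AddCommGroup (Push M h) :=
  inferInstanceAs (AddCommGroup (sectModEt M E₀))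

noncomputable instance {E E₀ : EtOver X} (h : E₀ ⟶ E) : Module (Γo E₀) (Push M h) :=
  inferInstanceAs (Module (Γo E₀) (sectModEt M E₀))

noncomputable instance {E E₀ : EtOver X} (h : E₀ ⟶ E) : Module (Γo E) (Push M h) :=
  Module.compHom _ (γ h)

/-- An element of `Push M h` as a section. -/
def Push.out {E E₀ : EtOver X} {h : E₀ ⟶ E} (m : Push M h) : sectModEt M E₀ := m

theorem Push.smul_out {E E₀ : EtOver X} {h : E₀ ⟶ E} (r : Γo E) (m : Push M h) :
    Push.out (r • m) = γ h r • Push.out m := rfl

/-- Restriction as a linear map. -/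
noncomputable def resP (M : ModEt X) {E E₀ E₁ : EtOver X} {h : E₀ ⟶ E} {h' : E₁ ⟶ E} (k : E₁ ⟶ E₀) (hk : k ≫ h = h') :
    Push M h →ₗ[Γo E] Push M h' where
  toFun m := res M k (Push.out m)
  map_add' a b := map_add (res M k) (Push.out a) (Push.out b)
  map_smul' r m := by
    change res M k (γ h r • Push.out m) = γ h' r • res M k (Push.out m)
    rw [res_smul, ← hk, γ_comp]
    rfl

/-- Restriction from `E` as a linear map. -/
noncomputable def resP₀ (M : ModEt X) {E E₀ : EtOver X} (h : E₀ ⟶ E) : sectModEt M E →ₗ[Γo E] Push M h where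
  toFun m := res M h m
  map_add' a b := map_add (res M h) a b
  map_smul' r m := res_smul M h r m

section Square

variable {E E' E₀ : EtOver X} [IsAffine E.obj.left.left] [IsAffine E'.obj.left.left] [IsAffine E₀.obj.left.left]
  (f : E' ⟶ E) (h : E₀ ⟶ E)

/-- Sections on the fibre product from `Tw f ⊗ M(E₀)`. -/
noncomputable def squareMap : Tw f ⊗[Γo E] Push M h →+ sectModEt M (EtOver.pullbackObj f h) :=
  TensorProduct.liftAddHom
    { toFun := fun a =>
        { toFun := fun m => γ (EtOver.pullbackFst f h) (Tw.out a) • res M (EtOver.pullbackSnd f h) (Push.out m)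
          map_zero' := by
            change _ • res M (EtOver.pullbackSnd f h) 0 = _
            rw [map_zero, smul_zero]
          map_add' := fun m m' => by
            change _ • res M (EtOver.pullbackSnd f h) (Push.out m + Push.out m') = _
            rw [map_add, smul_add] }
      map_zero' := AddMonoidHom.ext fun m => by
        change γ (EtOver.pullbackFst f h) (0 : Γo E') • res M (EtOver.pullbackSnd f h) (Push.out m) = 0
        rw [map_zero, zero_smul]
      map_add' := fun a b => AddMonoidHom.ext fun m => by
        change γ (EtOver.pullbackFst f h) (Tw.out a + Tw.out b) • res M (EtOver.pullbackSnd f h) (Push.out m) = _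
        rw [map_add, add_smul]
        rfl }
    fun r a m => by
      change γ (EtOver.pullbackFst f h) (γ f r * Tw.out a) • res M (EtOver.pullbackSnd f h) (Push.out m) =
        γ (EtOver.pullbackFst f h) (Tw.out a) • res M (EtOver.pullbackSnd f h) (γ h r • Push.out m)
      have h1 : γ (EtOver.pullbackFst f h) (γ f r) = γ (EtOver.pullbackSnd f h) (γ h r) := by
        rw [← RingHom.comp_apply, ← γ_comp, EtOver.pullback_condition, γ_comp]
        rfl
      rw [res_smul, map_mul, h1, mul_comm, mul_smul]

theorem squareMap_tmul (a : Tw f) (m : Push M h) : squareMap f h (a ⊗ₜ m) =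
    γ (EtOver.pullbackFst f h) (Tw.out a) • res M (EtOver.pullbackSnd f h) (Push.out m) := rfl

theorem squareMap_bijective (hb : BC M (EtOver.pullbackSnd f h)) : Function.Bijective (squareMap (M := M) f h) := by
  obtain ⟨μ, hμ, hμt⟩ := exists_mulMap f h
  let b := EtOver.pullbackSnd f h
  let a := EtOver.pullbackFst f h
  let θ : Tw f ⊗[Γo E] Push M h →+ Tw b ⊗[Γo E₀] sectModEt M E₀ :=
    TensorProduct.liftAddHom
      { toFun := fun c =>
          { toFun := fun m => Tw.mk b (γ a (Tw.out c)) ⊗ₜ Push.out m
            map_zero' := TensorProduct.tmul_zero _ _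
            map_add' := fun m m' => TensorProduct.tmul_add _ _ _ }
        map_zero' := AddMonoidHom.ext fun m => by
          change Tw.mk b (γ a (0 : Γo E')) ⊗ₜ Push.out m = (0 : Tw b ⊗[Γo E₀] sectModEt M E₀)
          rw [map_zero]
          exact TensorProduct.zero_tmul _ _
        map_add' := fun c c' => AddMonoidHom.ext fun m => by
          change Tw.mk b (γ a (Tw.out c + Tw.out c')) ⊗ₜ[Γo E₀] Push.out m = _
          rw [map_add]
          exact TensorProduct.add_tmul _ _ _ }
      fun r c m => by
        change Tw.mk b (γ a (γ f r * Tw.out c)) ⊗ₜ[Γo E₀] Push.out m =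
          Tw.mk b (γ a (Tw.out c)) ⊗ₜ[Γo E₀] (γ h r • Push.out m)
        rw [TensorProduct.tmul_smul, TensorProduct.smul_tmul']
        congr 1
        change γ a (γ f r * Tw.out c) = γ b (γ h r) * γ a (Tw.out c)
        rw [map_mul]
        congr 1
        rw [← RingHom.comp_apply, ← γ_comp, show a ≫ f = b ≫ h from EtOver.pullback_condition f h, γ_comp]
        rfl
  have hsq : ∀ z, squareMap f h z = lift b (LinearMap.id : sectModEt M E₀ →ₗ[Γo E₀] _) (θ z) := fun z => by
    induction z using TensorProduct.induction_on with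
    | zero => simp
    | tmul c m => rfl
    | add x y hx hy => simp only [map_add, hx, hy]
  let e := AddEquiv.ofBijective μ hμ
  let sm : Push M h → (Tw h →ₗ[Γo E] Push M h) := fun m =>
    { toFun := fun c => ((Tw.out c) • Push.out m : sectModEt M E₀)
      map_add' := fun c c' => add_smul (Tw.out c) (Tw.out c') (Push.out m)
      map_smul' := fun r c => mul_smul (γ h r) (Tw.out c) (Push.out m) }
  have hsm : ∀ m m', sm (m + m') = sm m + sm m' := fun m m' =>
    LinearMap.ext fun c => smul_add (Tw.out c) (Push.out m) (Push.out m')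
  have hbal : ∀ (r : Γo E₀) (t : Tw f ⊗[Γo E] Tw h),
      μ (t * ((1 : Tw f) ⊗ₜ Tw.mk h r)) = γ b r * μ t := fun r t => by
    induction t using TensorProduct.induction_on with
    | zero => simp
    | tmul c d =>
      rw [Algebra.TensorProduct.tmul_mul_tmul, hμt, hμt, mul_one]
      change γ a (Tw.out c) * γ b (Tw.out d * r) = γ b r * (γ a (Tw.out c) * γ b (Tw.out d))
      rw [map_mul]
      ring
    | add x y hx hy => rw [add_mul, map_add, hx, hy, map_add, mul_add]
  let ρ : Tw b ⊗[Γo E₀] sectModEt M E₀ →+ Tw f ⊗[Γo E] Push M h :=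
    TensorProduct.liftAddHom
      { toFun := fun c =>
          { toFun := fun m => (sm m).lTensor (Tw f) (e.symm (Tw.out c))
            map_zero' := by
              rw [show sm (0 : sectModEt M E₀) = 0 from LinearMap.ext fun d => smul_zero (Tw.out d),
                LinearMap.lTensor_zero, LinearMap.zero_apply]
            map_add' := fun m m' => by rw [hsm, LinearMap.lTensor_add, LinearMap.add_apply] }
        map_zero' := AddMonoidHom.ext fun m => by
          change (sm m).lTensor (Tw f) (e.symm (0 : Γo _)) = 0
          rw [map_zero, map_zero]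
        map_add' := fun c c' => AddMonoidHom.ext fun m => by
          change (sm m).lTensor (Tw f) (e.symm (Tw.out c + Tw.out c')) = _
          rw [map_add, map_add]
          rfl }
      fun r c m => by
        change (sm m).lTensor (Tw f) (e.symm (γ b r * Tw.out c)) =
          (sm (r • m : sectModEt M E₀)).lTensor (Tw f) (e.symm (Tw.out c))
        obtain ⟨t, ht⟩ := e.surjective (Tw.out c)
        rw [← ht, AddEquiv.symm_apply_apply, show γ b r * e t = e (t * ((1 : Tw f) ⊗ₜ Tw.mk h r)) from (hbal r t).symm,
          AddEquiv.symm_apply_apply]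
        clear ht
        induction t using TensorProduct.induction_on with
        | zero => simp
        | tmul p d =>
          rw [Algebra.TensorProduct.tmul_mul_tmul, LinearMap.lTensor_tmul, LinearMap.lTensor_tmul, mul_one]
          congr 1
          exact mul_smul (Tw.out d) r (Push.out m)
        | add x y hx hy => rw [add_mul, map_add, hx, hy, map_add]
  have hθ : Function.Bijective θ := by
    refine Function.bijective_iff_has_inverse.2 ⟨ρ, fun x => ?_, fun y => ?_⟩
    · induction x using TensorProduct.induction_on with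
      | zero => simp
      | tmul c m =>
        change (sm m).lTensor (Tw f) (e.symm (γ a (Tw.out c))) = _
        rw [show e.symm (γ a (Tw.out c)) = c ⊗ₜ (1 : Tw h) from e.injective (by
          rw [AddEquiv.apply_symm_apply]
          refine Eq.symm ((hμt c 1).trans ?_)
          rw [show γ (EtOver.pullbackSnd f h) (Tw.out (1 : Tw h)) = 1 from map_one _, mul_one]), LinearMap.lTensor_tmul]
        congr 1
        exact one_smul (Γo E₀) (Push.out m)
      | add x y hx hy => simp only [map_add, hx, hy]
    · induction y using TensorProduct.induction_on with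
      | zero => simp
      | tmul c m =>
        change θ ((sm m).lTensor (Tw f) (e.symm (Tw.out c))) = _
        obtain ⟨t, ht⟩ := e.surjective (Tw.out c)
        have hc : c = Tw.mk b (e t) := ht.symm
        rw [← ht, AddEquiv.symm_apply_apply, hc]
        clear ht hc
        induction t using TensorProduct.induction_on with
        | zero =>
          rw [map_zero, map_zero, map_zero]
          exact (TensorProduct.zero_tmul _ _).symm
        | tmul p d =>
          rw [LinearMap.lTensor_tmul]
          change Tw.mk b (γ a (Tw.out p)) ⊗ₜ[Γo E₀] (Tw.out d • m) = _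
          rw [TensorProduct.tmul_smul, TensorProduct.smul_tmul']
          congr 1
          change γ b (Tw.out d) * γ a (Tw.out p) = μ (p ⊗ₜ d)
          rw [hμt, mul_comm]
        | add x y hx hy =>
          rw [map_add, map_add, hx, hy, map_add]
          exact (TensorProduct.add_tmul _ _ _).symm
      | add x y hx hy => simp only [map_add, hx, hy]
  rw [show (squareMap (M := M) f h : _ → _) = lift b LinearMap.id ∘ θ from funext hsq]
  exact Function.Bijective.comp hb hθ

end Square

/-- Compatibility with base change descends along an affine covering morphism. -/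
theorem Good.of_cover {E E₀ : EtOver X} [IsAffine E.obj.left.left] [IsAffine E₀.obj.left.left] (h : E₀ ⟶ E)
    (hs : Surjective h.hom.left.left) (hG : Good M E₀) : Good M E := by
  intro E' _ f
  have hflat := Tw.flat f
  let p := EtOver.pullbackFst h h
  let q := EtOver.pullbackSnd h h
  let hP : EtOver.pullbackObj h h ⟶ E := p ≫ h
  have hq : q ≫ h = hP := (EtOver.pullback_condition h h).symm
  have hP' : Good M (EtOver.pullbackObj h h) := hG.of_hom p
  have hΨ₀ := squareMap_bijective (M := M) f h (hG _)
  have hΨP := squareMap_bijective (M := M) f hP (hP' _)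
  let a := EtOver.pullbackFst f h
  have haS : Surjective a.hom.left.left :=
    MorphismProperty.of_isPullback (P := @Surjective)
      ((IsPullback.of_hasPullback f.hom.left h.hom.left).map (Over.forget S)).flip hs
  have hres : ∀ z, squareMap f h ((resP₀ M h).lTensor (Tw f) z) =
      res M a (lift f (LinearMap.id : sectModEt M E →ₗ[Γo E] _) z) := fun z => by
    induction z using TensorProduct.induction_on with
    | zero => simp
    | tmul c m =>
      rw [LinearMap.lTensor_tmul, squareMap_tmul, lift_tmul, res_smul, ← res_comp]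
      change _ • res M (EtOver.pullbackSnd f h) (res M h m) = _ • res M (a ≫ f) m
      rw [← res_comp, show a ≫ f = EtOver.pullbackSnd f h ≫ h from EtOver.pullback_condition f h]
    | add x y hx hy => simp only [map_add, hx, hy]
  have hinjh : Function.Injective (resP₀ M h) := fun m m' e => sections_ext_single M h hs e
  constructor
  · rw [injective_iff_map_eq_zero]
    intro z hz
    have h1 : squareMap f h ((resP₀ M h).lTensor (Tw f) z) = 0 := by rw [hres, hz, map_zero]
    have h2 := (map_eq_zero_iff _ hΨ₀.1).1 h1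
    exact (map_eq_zero_iff _ (Module.Flat.lTensor_preserves_injective_linearMap _ hinjh)).1 h2
  · intro m
    obtain ⟨w, hw⟩ := hΨ₀.2 (res M a m)
    let d : Push M h →ₗ[Γo E] Push M hP := resP M p rfl - resP M q hq
    have hex : Function.Exact (resP₀ M h) d := by
      intro y
      constructor
      · intro hy
        obtain ⟨y₀, hy₀⟩ := exists_glue_single M h hs y (sub_eq_zero.1 hy)
        exact ⟨y₀, hy₀⟩
      · rintro ⟨y₀, rfl⟩
        refine sub_eq_zero.2 ?_
        change res M p (res M h y₀) = res M q (res M h y₀)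
        rw [← res_comp, ← res_comp, hq]
    have key : ∀ (k : EtOver.pullbackObj h h ⟶ E₀) (hk : k ≫ h = hP),
        squareMap f hP ((resP M k hk).lTensor (Tw f) w) = res M (EtOver.pullbackFst f hP) m := by
      intro k hk
      let c : EtOver.pullbackObj f hP ⟶ EtOver.pullbackObj f h :=
        (EtOver.isPullback f h).lift (EtOver.pullbackFst f hP) (EtOver.pullbackSnd f hP ≫ k)
          (by rw [Category.assoc, hk, EtOver.pullback_condition])
      have hc1 : c ≫ a = EtOver.pullbackFst f hP := (EtOver.isPullback f h).lift_fst _ _ _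
      have hc2 : c ≫ EtOver.pullbackSnd f h = EtOver.pullbackSnd f hP ≫ k := (EtOver.isPullback f h).lift_snd _ _ _
      have : ∀ w, squareMap f hP ((resP M k hk).lTensor (Tw f) w) = res M c (squareMap (M := M) f h w) := fun w => by
        induction w using TensorProduct.induction_on with
        | zero => simp
        | tmul r y =>
          rw [LinearMap.lTensor_tmul, squareMap_tmul, squareMap_tmul, res_smul, ← res_comp, hc2]
          change _ • res M (EtOver.pullbackSnd f hP) (res M k (Push.out y)) = _
          rw [← res_comp, ← hc1, γ_comp]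
          rfl
        | add x y hx hy => simp only [map_add, hx, hy]
      rw [this, hw, ← res_comp, hc1]
    have hd : d.lTensor (Tw f) w = 0 := hΨP.1 (by
      rw [LinearMap.lTensor_sub, LinearMap.sub_apply, map_sub, key p rfl, key q hq, sub_self, map_zero])
    obtain ⟨z, hz⟩ := (Module.Flat.lTensor_exact (Tw f) hex w).1 hd
    refine ⟨z, sections_ext_single M a haS ?_⟩
    rw [← hw, ← hz, hres]

/-- Compatibility with base change holds for a finite disjoint union. -/
theorem Good.of_coprod {κ : Type u} [Finite κ] {E₀ : EtOver X} [IsAffine E₀.obj.left.left] {Y : κ → EtOver X}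
    [∀ k, IsAffine (Y k).obj.left.left] (ι : ∀ k, Y k ⟶ E₀) (hop : ∀ k, IsOpenImmersion (ι k).hom.left.left)
    (hc : ∀ x : ↥E₀.obj.left.left, ∃ k, x ∈ Set.range (ι k).hom.left.left)
    (hd : ∀ k l (Z : EtOver X) (a : Z ⟶ Y k) (b : Z ⟶ Y l), a ≫ ι k = b ≫ ι l → k ≠ l → IsEmpty ↥Z.obj.left.left)
    (hG : ∀ k, Good M (Y k)) : Good M E₀ := by
  classical
  have := Fintype.ofFinite κ
  obtain ⟨s, hs1, hs2, hsadd, hsmul, hsum⟩ := exists_split ι hop hc hd
  have hBC : ∀ k, BC M (ι k) := by
    intro k
    have htm : ∀ z : Tw (ι k) ⊗[Γo E₀] sectModEt M E₀, ∃ m, z = (1 : Tw (ι k)) ⊗ₜ m := fun z => by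
      induction z using TensorProduct.induction_on with
      | zero => exact ⟨0, (TensorProduct.tmul_zero _ _).symm⟩
      | tmul c m =>
        refine ⟨s k (Tw.out c) • m, ?_⟩
        rw [TensorProduct.tmul_smul, TensorProduct.smul_tmul']
        congr 1
        change Tw.out c = γ (ι k) (s k (Tw.out c)) * 1
        rw [hs1, mul_one]
      | add x y hx hy =>
        obtain ⟨m, rfl⟩ := hx
        obtain ⟨m', rfl⟩ := hy
        exact ⟨m + m', (TensorProduct.tmul_add _ _ _).symm⟩
    refine ⟨?_, fun m => ?_⟩
    · rw [injective_iff_map_eq_zero]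
      intro z hz
      obtain ⟨m, rfl⟩ := htm z
      rw [lift_one_tmul] at hz
      have hm : m = ∑ l, s l 1 • m := by
        rw [← Finset.sum_smul]
        conv_lhs => rw [← one_smul (Γo E₀) m, ← hsum (1 : Γo E₀)]
        simp only [map_one]
      rw [hm, TensorProduct.tmul_sum]
      refine Finset.sum_eq_zero fun l _ => ?_
      by_cases hl : l = k
      · subst hl
        have h0 : s l 1 • m = 0 := sections_ext_family M Y ι hc fun j => by
          rw [res_smul, map_zero]
          by_cases hj : j = l
          · subst hj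
            rw [show res M (ι j) m = 0 from hz, smul_zero]
          · rw [hs2 l j _ hj, zero_smul]
        rw [h0, TensorProduct.tmul_zero]
      · rw [TensorProduct.tmul_smul, TensorProduct.smul_tmul']
        have : s l 1 • (1 : Tw (ι k)) = 0 := by
          change γ (ι k) (s l 1) * 1 = (0 : Γo (Y k))
          rw [hs2 l k _ (Ne.symm hl), zero_mul]
        rw [this, TensorProduct.zero_tmul]
    · let mfam : ∀ l, sectModEt M (Y l) := fun l => if e : l = k then e ▸ m else 0
      obtain ⟨c, hc'⟩ := exists_glue_family M (ι := ULift.{u + 1} κ) (fun l => Y l.down) (fun l => ι l.down)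
        (fun x => by obtain ⟨l, hl⟩ := hc x; exact ⟨⟨l⟩, hl⟩) (fun l => mfam l.down) fun l l' Z p q e => by
        by_cases hll : l.down = l'.down
        · obtain ⟨l⟩ := l; obtain ⟨l'⟩ := l'; cases hll
          have := hop l
          have : Mono (ι l).hom.left.left := inferInstance
          have hpq : p = q := EtOver.hom_ext _ _ (Over.OverMorphism.ext
            ((cancel_mono (ι l).hom.left.left).1 (congrArg (fun r => r.hom.left.left) e)))
          rw [hpq]
        · have := hd _ _ Z p q e hll
          exact (sections_subsingleton_of_isEmpty _ Z).elim _ _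
      refine ⟨(1 : Tw (ι k)) ⊗ₜ c, ?_⟩
      rw [lift_one_tmul]
      exact ((hc' ⟨k⟩).trans (dif_pos rfl) : _)
  intro E' _ g
  have hcov : ∀ ⦃F : EtOver X⦄ (φ : F ⟶ E₀),
      ∀ x : ↥F.obj.left.left, ∃ k, x ∈ Set.range (EtOver.pullbackFst φ (ι k)).hom.left.left := by
    intro F φ x
    obtain ⟨k, v, hv⟩ := hc (φ.hom.left.left x)
    obtain ⟨z, hz, -⟩ := Scheme.exists_preimage_of_isPullback
      ((IsPullback.of_hasPullback φ.hom.left (ι k).hom.left).map (Over.forget S)) x v hv.symm
    exact ⟨k, z, hz⟩
  have hbc : ∀ ⦃F : EtOver X⦄ [IsAffine F.obj.left.left] (φ : F ⟶ E₀) (k : κ),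
      BC M (EtOver.pullbackFst φ (ι k) ≫ φ) := fun F _ φ k => by
    rw [EtOver.pullback_condition]
    exact BC.comp (hBC k) (hG k _)
  have hinj : ∀ ⦃F : EtOver X⦄ [IsAffine F.obj.left.left] (φ : F ⟶ E₀),
      Function.Injective (lift φ (LinearMap.id : sectModEt M E₀ →ₗ[Γo E₀] _)) := by
    intro F _ φ
    rw [injective_iff_map_eq_zero]
    intro z hz
    refine eq_zero_of_local φ z _ (ofArrows_mem_etTop _ (fun k => EtOver.pullbackFst φ (ι k)) (hcov φ))
      fun Z _ k hk => ?_
    obtain ⟨W, u, v, ⟨l⟩, rfl⟩ := hk
    have h1 : (mapTw (g := φ) (EtOver.pullbackFst φ (ι l)) rfl).rTensor (sectModEt M E₀) z = 0 :=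
      (hbc φ l).1 (by rw [← lift_res, hz, map_zero, map_zero])
    have h2 : mapTw (g := φ) (u ≫ EtOver.pullbackFst φ (ι l)) rfl =
        mapTw (g := EtOver.pullbackFst φ (ι l) ≫ φ) u (Category.assoc _ _ _).symm ∘ₗ
          mapTw (g := φ) (EtOver.pullbackFst φ (ι l)) rfl := LinearMap.ext fun c => by
      change γ (u ≫ EtOver.pullbackFst φ (ι l)) (Tw.out c) = γ u (γ (EtOver.pullbackFst φ (ι l)) (Tw.out c))
      rw [γ_comp]
      rfl
    rw [h2, LinearMap.rTensor_comp_apply, h1, map_zero]
  refine ⟨hinj g, fun m => ?_⟩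
  refine mem_range_of_local g LinearMap.id hinj m _
    (ofArrows_mem_etTop _ (fun k => EtOver.pullbackFst g (ι k)) (hcov g)) fun Z _ k hk => ?_
  obtain ⟨W, u, v, ⟨l⟩, rfl⟩ := hk
  obtain ⟨z, hz⟩ := (hbc g l).2 (res M (EtOver.pullbackFst g (ι l)) m)
  exact ⟨_, (lift_res (g := EtOver.pullbackFst g (ι l) ≫ g) u (Category.assoc _ _ _).symm LinearMap.id z).symm.trans
    (by rw [hz, ← res_comp])⟩

/-- Compatibility with base change is local on an affine object. -/
theorem Good.of_local {E : EtOver X} [IsAffine E.obj.left.left] (R : Sieve E) (hR : R ∈ etTop X E)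
    (h : ∀ ⦃Y : EtOver X⦄ [IsAffine Y.obj.left.left] (k : Y ⟶ E), R k → Good M Y) : Good M E := by
  obtain ⟨κ, hκ, Y, f, hY, hRf, hcov⟩ := exists_affine_family R hR
  obtain ⟨E₀, hE₀, ι, h₀, hι, hop, hc, hd⟩ := exists_coprod E Y f
  refine Good.of_cover h₀ ⟨fun x => ?_⟩ (Good.of_coprod ι hop hc hd fun k => h (f k) (hRf k))
  obtain ⟨k, v, hv⟩ := hcov x
  exact ⟨(ι k).hom.left.left v, by
    change ((ι k).hom.left.left ≫ h₀.hom.left.left) v = x
    rw [show (ι k).hom.left.left ≫ h₀.hom.left.left = (f k).hom.left.left from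
      congrArg (fun q => q.hom.left.left) (hι k)]
    exact hv⟩

end Groth.Agent.QcohEt15
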