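import Groth.Agent.Lib.QcohEt15.Lift
import Mathlib.RingTheory.Flat.Basic

/-!
# Modules whose sections over affine objects are compatible with base change
-/

universe u v

set_option backward.isDefEq.respectTransparency false

open CategoryTheory CategoryTheory.Limits AlgebraicGeometry Opposite TensorProduct

namespace Groth.Agent.QcohEt15

open AlgSp

variable {S : Scheme.{u}} {X : Sp S}

/-- Base change of sections along `g` is bijective. -/
def BC (M : ModEt X) {E E' : EtOver X} (g : E' ⟶ E) : Prop :=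
  Function.Bijective (lift g (LinearMap.id : sectModEt M E →ₗ[Γo E] sectModEt M E))

/-- Base change of sections from `E` to every affine object over it is bijective. -/
def Good (M : ModEt X) (E : EtOver X) : Prop :=
  ∀ ⦃E' : EtOver X⦄ [IsAffine E'.obj.left.left] (g : E' ⟶ E), BC M g

variable {M : ModEt X}

theorem lift_ext_id {E E' : EtOver X} (g : E' ⟶ E) {N : Type v} [AddCommGroup N] [Module (Γo E) N]
    (ψ : N →ₗ[Γo E] sectModEt M E) (z : Tw g ⊗[Γo E] N) :
    lift g ψ z = lift g LinearMap.id (ψ.lTensor (Tw g) z) :=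
  (lift_comp g LinearMap.id ψ z)

/-- The two base change maps along a composite. -/
theorem lift_comb_eq {E E' E'' : EtOver X} (k : E'' ⟶ E') (g : E' ⟶ E) {g' : E'' ⟶ E} (hk : k ≫ g = g')
    (z : Tw k ⊗[Γo E'] (Tw g ⊗[Γo E] sectModEt M E)) :
    lift k (LinearMap.id : sectModEt M E' →ₗ[Γo E'] _) ((liftₗ g LinearMap.id).lTensor (Tw k) z) =
      lift g' (LinearMap.id : sectModEt M E →ₗ[Γo E] _) (comb k g hk z) := by
  rw [← lift_ext_id k (liftₗ g LinearMap.id) z]
  exact lift_liftₗ k g hk _ z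

theorem lTensor_bijective_of_bc {E E' E'' : EtOver X} (k : E'' ⟶ E') (g : E' ⟶ E) (h : BC M g) :
    Function.Bijective ((liftₗ g (LinearMap.id : sectModEt M E →ₗ[Γo E] _)).lTensor (Tw k)) :=
  (LinearEquiv.lTensor (Tw k) (LinearEquiv.ofBijective (liftₗ g LinearMap.id) h)).bijective

theorem BC.cancel {E E' E'' : EtOver X} {k : E'' ⟶ E'} {g : E' ⟶ E} (h₁ : BC M g) (h₂ : BC M (k ≫ g)) :
    BC M k := by
  have h : Function.Bijective (lift k (LinearMap.id : sectModEt M E' →ₗ[Γo E'] _) ∘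
      (liftₗ g LinearMap.id).lTensor (Tw k)) := by
    rw [show lift k (LinearMap.id : sectModEt M E' →ₗ[Γo E'] _) ∘ (liftₗ g LinearMap.id).lTensor (Tw k) =
      lift (k ≫ g) LinearMap.id ∘ comb k g rfl from funext (lift_comb_eq k g rfl)]
    exact Function.Bijective.comp h₂ (comb_bijective k g rfl)
  exact (Function.Bijective.of_comp_iff _ (lTensor_bijective_of_bc k g h₁)).1 h

theorem BC.comp {E E' E'' : EtOver X} {k : E'' ⟶ E'} {g : E' ⟶ E} (h₁ : BC M g) (h₂ : BC M k) :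
    BC M (k ≫ g) := by
  have h : Function.Bijective (lift (k ≫ g) (LinearMap.id : sectModEt M E →ₗ[Γo E] _) ∘ comb k g rfl) := by
    rw [show lift (k ≫ g) LinearMap.id ∘ comb k g rfl =
      lift k (LinearMap.id : sectModEt M E' →ₗ[Γo E'] _) ∘ (liftₗ g LinearMap.id).lTensor (Tw k) from
        funext fun z => (lift_comb_eq k g rfl z).symm]
    exact Function.Bijective.comp h₂ (lTensor_bijective_of_bc k g h₁)
  exact (Function.Bijective.of_comp_iff _ (comb_bijective k g rfl)).1 h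

theorem Good.of_hom {E E' : EtOver X} (h : Good M E) [IsAffine E'.obj.left.left] (g : E' ⟶ E) : Good M E' :=
  fun _ _ k => BC.cancel (h g) (h (k ≫ g))

/-! ### Locality -/

section Local

variable {E E' : EtOver X} [IsAffine E'.obj.left.left] (g : E' ⟶ E) {N : Type v} [AddCommGroup N] [Module (Γo E) N]

theorem exists_cover_lift (ψ : N →ₗ[Γo E] sectModEt M E) (m : sectModEt M E') (R : Sieve E') (hR : R ∈ etTop X E')
    (h : ∀ ⦃Y : EtOver X⦄ [IsAffine Y.obj.left.left] (k : Y ⟶ E'), R k →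
      res M k m ∈ Set.range (lift (k ≫ g) ψ)) :
    ∃ (E₀ : EtOver X) (_ : IsAffine E₀.obj.left.left) (h : E₀ ⟶ E'), Surjective h.hom.left.left ∧
      res M h m ∈ Set.range (lift (h ≫ g) ψ) := by
  classical
  obtain ⟨κ, hκ, Y, f, hY, hRf, hcov⟩ := exists_affine_family R hR
  obtain ⟨E₀, hE₀, ι, h₀, hι, hop, hc, hd⟩ := exists_coprod E' Y f
  have := Fintype.ofFinite κ
  obtain ⟨s, hs1, hs2, hsadd, hsmul, -⟩ := exists_split ι hop hc hd
  have hz : ∀ k, ∃ z, lift (f k ≫ g) ψ z = res M (f k) m := fun k => h (f k) (hRf k)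
  choose z hz using hz
  have hk : ∀ k, ι k ≫ (h₀ ≫ g) = f k ≫ g := fun k => by rw [← Category.assoc, hι]
  let sl : ∀ k, Tw (f k ≫ g) →ₗ[Γo E] Tw (h₀ ≫ g) := fun k =>
    { toFun := fun a => Tw.mk _ (s k (Tw.out a))
      map_add' := fun a b => hsadd k (Tw.out a) (Tw.out b)
      map_smul' := fun r a => by
        change s k (γ (f k ≫ g) r * Tw.out a) = γ (h₀ ≫ g) r * s k (Tw.out a)
        rw [← hsmul, ← hk, γ_comp (h₀ ≫ g) (ι k)]
        rfl }
  refine ⟨E₀, hE₀, h₀, ⟨fun x => ?_⟩, ∑ k, (sl k).rTensor N (z k), ?_⟩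
  · obtain ⟨k, v, hv⟩ := hcov x
    exact ⟨(ι k).hom.left.left v, by
      change ((ι k).hom.left.left ≫ h₀.hom.left.left) v = x
      rw [show (ι k).hom.left.left ≫ h₀.hom.left.left = (f k).hom.left.left from
        congrArg (fun q => q.hom.left.left) (hι k)]
      exact hv⟩
  refine sections_ext_family M Y ι hc fun l => ?_
  rw [lift_res (ι l) (hk l), map_sum, Finset.sum_eq_single l, ← res_comp, hι, ← hz l]
  · congr 1
    rw [← LinearMap.rTensor_comp_apply]
    have : mapTw (ι l) (hk l) ∘ₗ sl l = LinearMap.id := LinearMap.ext fun a => hs1 l (Tw.out a)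
    rw [this, LinearMap.rTensor_id]
    rfl
  · intro k _ hkl
    rw [← LinearMap.rTensor_comp_apply]
    have : mapTw (ι l) (hk l) ∘ₗ sl k = 0 := LinearMap.ext fun a => hs2 k l (Tw.out a) (Ne.symm hkl)
    rw [this, LinearMap.rTensor_zero]
    rfl
  · exact fun h => absurd (Finset.mem_univ l) h

theorem eq_zero_of_local [IsAffine E.obj.left.left] (z : Tw g ⊗[Γo E] N) (R : Sieve E') (hR : R ∈ etTop X E')
    (h : ∀ ⦃Y : EtOver X⦄ [IsAffine Y.obj.left.left] (k : Y ⟶ E'), R k → (mapTw (g := g) k rfl).rTensor N z = 0) :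
    z = 0 := by
  classical
  obtain ⟨κ, hκ, Y, f, hY, hRf, hcov⟩ := exists_affine_family R hR
  obtain ⟨E₀, hE₀, ι, h₀, hι, hop, hc, hd⟩ := exists_coprod E' Y f
  have := Fintype.ofFinite κ
  obtain ⟨s, hs1, hs2, hsadd, hsmul, hsum⟩ := exists_split ι hop hc hd
  have hk : ∀ k, ι k ≫ (h₀ ≫ g) = f k ≫ g := fun k => by rw [← Category.assoc, hι]
  let sl : ∀ k, Tw (f k ≫ g) →ₗ[Γo E] Tw (h₀ ≫ g) := fun k =>
    { toFun := fun a => Tw.mk _ (s k (Tw.out a))
      map_add' := fun a b => hsadd k (Tw.out a) (Tw.out b)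
      map_smul' := fun r a => by
        change s k (γ (f k ≫ g) r * Tw.out a) = γ (h₀ ≫ g) r * s k (Tw.out a)
        rw [← hsmul, ← hk, γ_comp (h₀ ≫ g) (ι k)]
        rfl }
  have h0 : (mapTw (g := g) h₀ rfl).rTensor N z = 0 := by
    have hid : ∑ k, sl k ∘ₗ mapTw (ι k) (hk k) = LinearMap.id := LinearMap.ext fun a => by
      rw [LinearMap.sum_apply]
      exact hsum (Tw.out a)
    have hx : ∀ x : Tw (h₀ ≫ g) ⊗[Γo E] N, x = ∑ k, (sl k ∘ₗ mapTw (ι k) (hk k)).rTensor N x := fun x => by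
      induction x using TensorProduct.induction_on with
      | zero => simp
      | tmul a n =>
        simp only [LinearMap.rTensor_tmul]
        rw [← TensorProduct.sum_tmul]
        congr 1
        have := LinearMap.congr_fun hid a
        rw [LinearMap.sum_apply] at this
        exact this.symm
      | add x y hx hy => simp only [map_add, Finset.sum_add_distrib, ← hx, ← hy]
    rw [hx ((mapTw (g := g) h₀ rfl).rTensor N z)]
    refine Finset.sum_eq_zero fun k _ => ?_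
    change (sl k ∘ₗ mapTw (ι k) (hk k)).rTensor N _ = 0
    rw [LinearMap.rTensor_comp_apply, ← LinearMap.rTensor_comp_apply N (mapTw (ι k) (hk k))]
    have : mapTw (ι k) (hk k) ∘ₗ mapTw (g := g) h₀ rfl = mapTw (g := g) (f k) rfl := LinearMap.ext fun a => by
      change γ (ι k) (γ h₀ (Tw.out a)) = γ (f k) (Tw.out a)
      rw [← hι k, γ_comp]
      rfl
    rw [this, h (f k) (hRf k), map_zero]
  have hs : Surjective h₀.hom.left.left := ⟨fun x => by
    obtain ⟨k, v, hv⟩ := hcov x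
    exact ⟨(ι k).hom.left.left v, by
      change ((ι k).hom.left.left ≫ h₀.hom.left.left) v = x
      rw [show (ι k).hom.left.left ≫ h₀.hom.left.left = (f k).hom.left.left from
        congrArg (fun q => q.hom.left.left) (hι k)]
      exact hv⟩⟩
  have := Tw.faithfullyFlat h₀ hs
  refine Amitsur.injective_ι (A := Γo E') (Tw h₀) (Tw g ⊗[Γo E] N) ?_
  refine (comb_bijective h₀ g rfl).1 ?_
  rw [map_zero, map_zero, Amitsur.ι_apply, comb_tmul, h0, smul_zero]

theorem mem_range_of_local [IsAffine E.obj.left.left] (ψ : N →ₗ[Γo E] sectModEt M E)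
    (hinj : ∀ ⦃Y : EtOver X⦄ [IsAffine Y.obj.left.left] (k : Y ⟶ E), Function.Injective (lift k ψ))
    (m : sectModEt M E') (R : Sieve E') (hR : R ∈ etTop X E')
    (h : ∀ ⦃Y : EtOver X⦄ [IsAffine Y.obj.left.left] (k : Y ⟶ E'), R k →
      res M k m ∈ Set.range (lift (k ≫ g) ψ)) :
    m ∈ Set.range (lift g ψ) := by
  obtain ⟨E₀, hE₀, h₀, hs, z, hz⟩ := exists_cover_lift g ψ m R hR h
  refine mem_range_of_cover h₀ hs (liftₗ g ψ) ?_ m ?_
  · intro a b e
    rw [lift_liftₗ (EtOver.pullbackFst h₀ h₀ ≫ h₀) g rfl, lift_liftₗ (EtOver.pullbackFst h₀ h₀ ≫ h₀) g rfl] at e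
    exact (comb_bijective _ g rfl).1 (hinj _ e)
  · obtain ⟨w, hw⟩ := (comb_bijective (N := N) h₀ g rfl).2 z
    exact ⟨w, by rw [lift_liftₗ h₀ g rfl, hw, hz]⟩

end Local

/-! ### Generators and relations -/

theorem good_of_generators {E : EtOver X} [IsAffine E.obj.left.left] {J : Type v} (x : J → sectModEt M E)
    (hgen : ∀ ⦃E' : EtOver X⦄ [IsAffine E'.obj.left.left] (g : E' ⟶ E) (m : sectModEt M E'),
      ∃ R ∈ etTop X E', ∀ ⦃Y : EtOver X⦄ [IsAffine Y.obj.left.left] (k : Y ⟶ E'), R k →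
        res M k m ∈ Set.range (lift (k ≫ g) (Finsupp.linearCombination (Γo E) x)))
    (hrel : ∀ ⦃E' : EtOver X⦄ [IsAffine E'.obj.left.left] (g : E' ⟶ E)
      (z : Tw g ⊗[Γo E] (J →₀ Γo E)), lift g (Finsupp.linearCombination (Γo E) x) z = 0 →
      ∃ R ∈ etTop X E', ∀ ⦃Y : EtOver X⦄ [IsAffine Y.obj.left.left] (k : Y ⟶ E'), R k →
        (mapTw (g := g) k rfl).rTensor (J →₀ Γo E) z ∈
          LinearMap.range ((Finsupp.linearCombination (Γo E) x).ker.subtype.lTensor (Tw (k ≫ g)))) :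
    Good M E := by
  let ψ₀ := Finsupp.linearCombination (Γo E) x
  let ψ : (J →₀ Γo E) ⧸ ψ₀.ker →ₗ[Γo E] sectModEt M E := ψ₀.ker.liftQ ψ₀ le_rfl
  have hψ : ∀ ⦃E' : EtOver X⦄ (g : E' ⟶ E) (z : Tw g ⊗[Γo E] (J →₀ Γo E)),
      lift g ψ (ψ₀.ker.mkQ.lTensor (Tw g) z) = lift g ψ₀ z := fun E' g z => by
    rw [← lift_comp]
    exact congrArg (fun q => lift g q z) (Submodule.liftQ_mkQ _ _ le_rfl)
  have hsur : ∀ ⦃E' : EtOver X⦄ (g : E' ⟶ E), Function.Surjective (ψ₀.ker.mkQ.lTensor (Tw g)) := fun E' g =>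
    LinearMap.lTensor_surjective _ (Submodule.mkQ_surjective _)
  have hinj : ∀ ⦃E' : EtOver X⦄ [IsAffine E'.obj.left.left] (g : E' ⟶ E), Function.Injective (lift g ψ) := by
    intro E' _ g
    rw [injective_iff_map_eq_zero]
    intro w hw
    obtain ⟨z, rfl⟩ := hsur g w
    rw [hψ] at hw
    obtain ⟨R, hR, hz⟩ := hrel g z hw
    refine eq_zero_of_local g _ R hR fun Y _ k hk => ?_
    obtain ⟨y, hy⟩ := hz k hk
    rw [← LinearMap.comp_apply, LinearMap.rTensor_comp_lTensor, ← LinearMap.lTensor_comp_rTensor,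
      LinearMap.comp_apply, ← hy, ← LinearMap.lTensor_comp_apply, show ψ₀.ker.mkQ ∘ₗ ψ₀.ker.subtype = 0 from
        LinearMap.ext fun a => (Submodule.Quotient.mk_eq_zero _).2 a.2, LinearMap.lTensor_zero]
    rfl
  have hbij : ∀ ⦃E' : EtOver X⦄ [IsAffine E'.obj.left.left] (g : E' ⟶ E), Function.Bijective (lift g ψ) := by
    intro E' _ g
    refine ⟨hinj g, fun m => ?_⟩
    obtain ⟨R, hR, hm⟩ := hgen g m
    refine mem_range_of_local g ψ hinj m R hR fun Y _ k hk => ?_
    obtain ⟨z, hz⟩ := hm k hk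
    exact ⟨_, (hψ (k ≫ g) z).trans hz⟩
  have hiso : Function.Bijective ψ := by
    have hl : ∀ n, lift (𝟙 E) ψ ((1 : Tw (𝟙 E)) ⊗ₜ n) = ψ n := fun n => by rw [lift_one_tmul, res_id]
    refine ⟨fun a b e => ?_, fun m => ?_⟩
    · have h1 := hinj (𝟙 E) (a₁ := (1 : Tw (𝟙 E)) ⊗ₜ a) (a₂ := (1 : Tw (𝟙 E)) ⊗ₜ b) (by rw [hl, hl, e])
      have h2 := congrArg (TensorProduct.lid (Γo E) _) (congrArg
        ((({ toFun := fun t => Tw.out t, map_add' := fun _ _ => rfl, map_smul' := fun _ _ => rfl } :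
          Tw (𝟙 E) →ₗ[Γo E] Γo E)).rTensor _) h1)
      have h3 : Tw.out (1 : Tw (𝟙 E)) = (1 : Γo E) := rfl
      simpa [h3] using h2
    · obtain ⟨w, rfl⟩ := (hbij (𝟙 E)).2 m
      induction w using TensorProduct.induction_on with
      | zero => exact ⟨0, by simp⟩
      | tmul c n => exact ⟨Tw.out c • n, by rw [lift_tmul, res_id, map_smul]⟩
      | add u v hu hv =>
        obtain ⟨a, ha⟩ := hu
        obtain ⟨b, hb⟩ := hv
        exact ⟨a + b, by rw [map_add, map_add, ha, hb]⟩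
  intro E' _ g
  have h : Function.Bijective (lift g (LinearMap.id : sectModEt M E →ₗ[Γo E] _) ∘ ψ.lTensor (Tw g)) := by
    rw [show lift g (LinearMap.id : sectModEt M E →ₗ[Γo E] _) ∘ ψ.lTensor (Tw g) = lift g ψ from
      funext fun z => (lift_ext_id g ψ z).symm]
    exact hbij g
  exact (Function.Bijective.of_comp_iff _
    (LinearEquiv.lTensor (Tw g) (LinearEquiv.ofBijective ψ hiso)).bijective).1 h

end Groth.Agent.QcohEt15
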