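import Groth.Agent.Lib.QcohEt15.Kernel

/-!
# Vanishing of first cohomology of quasi-coherent modules over affine objects
-/

universe u v

set_option backward.isDefEq.respectTransparency false

open CategoryTheory CategoryTheory.Limits AlgebraicGeometry Opposite TensorProduct

namespace Groth.Agent.QcohEt15

open AlgSp

variable {S : Scheme.{u}} {X : Sp S}

theorem exists_sq {E E₁ E₂ : EtOver X} [IsAffine E.obj.left.left] [IsAffine E₁.obj.left.left]
    [IsAffine E₂.obj.left.left] (g₁ : E₁ ⟶ E) (g₂ : E₂ ⟶ E) (N : Type v) [AddCommGroup N] [Module (Γo E) N] :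
    ∃ Φ : Tw g₁ ⊗[Γo E] (Tw g₂ ⊗[Γo E] N) →ₗ[Γo E] Tw (EtOver.pullbackFst g₁ g₂ ≫ g₁) ⊗[Γo E] N,
      Function.Injective Φ ∧ Function.Surjective Φ ∧ ∀ a b n, Φ (a ⊗ₜ (b ⊗ₜ n)) =
        Tw.mk _ (γ (EtOver.pullbackFst g₁ g₂) (Tw.out a) * γ (EtOver.pullbackSnd g₁ g₂) (Tw.out b)) ⊗ₜ n := by
  let p := EtOver.pullbackFst g₁ g₂
  let q := EtOver.pullbackSnd g₁ g₂
  have hq : q ≫ g₂ = p ≫ g₁ := (EtOver.pullback_condition g₁ g₂).symm
  let μP : Tw g₁ ⊗[Γo E] Tw g₂ →ₗ[Γo E] Tw (p ≫ g₁) :=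
    TensorProduct.lift
      { toFun := fun a =>
          { toFun := fun b => (mapTw p rfl a) * (mapTw q hq b)
            map_add' := fun b b' => by rw [map_add, mul_add]
            map_smul' := fun r b => by rw [map_smul, RingHom.id_apply, mul_smul_comm] }
        map_add' := fun a a' => LinearMap.ext fun b => by
          change mapTw p rfl (a + a') * _ = _
          rw [map_add, add_mul]; rfl
        map_smul' := fun r a => LinearMap.ext fun b => by
          change mapTw p rfl (r • a) * _ = _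
          rw [map_smul, smul_mul_assoc]; rfl }
  obtain ⟨μ, hμ, hμt⟩ := exists_mulMap g₁ g₂
  have e : ∀ x, Tw.out (μP x) = μ x := fun x => by
    induction x using TensorProduct.induction_on with
    | zero => rw [map_zero, map_zero]; rfl
    | tmul a b => rw [hμt]; rfl
    | add x y hx hy => rw [map_add, map_add, ← hx, ← hy]; rfl
  have hb : Function.Bijective μP := by
    refine ⟨fun a b h => hμ.1 (by rw [← e, ← e, h]), fun c => ?_⟩
    obtain ⟨x, hx⟩ := hμ.2 (Tw.out c)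
    exact ⟨x, (e x).trans hx⟩
  let Φ : Tw g₁ ⊗[Γo E] (Tw g₂ ⊗[Γo E] N) →ₗ[Γo E] Tw (p ≫ g₁) ⊗[Γo E] N :=
    μP.rTensor N ∘ₗ (TensorProduct.assoc (Γo E) (Tw g₁) (Tw g₂) N).symm.toLinearMap
  refine ⟨Φ, ((LinearEquiv.ofBijective μP hb).rTensor N).injective.comp (LinearEquiv.injective _),
    ((LinearEquiv.ofBijective μP hb).rTensor N).surjective.comp (LinearEquiv.surjective _), fun a b n => ?_⟩
  simp only [Φ, LinearMap.coe_comp, LinearEquiv.coe_coe, Function.comp_apply, TensorProduct.assoc_symm_tmul,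
    LinearMap.rTensor_tmul]
  rfl

variable {K M N : ModEt X}

theorem exists_lift_single (g : M ⟶ N) [Epi g] {E : EtOver X} [IsAffine E.obj.left.left] (n : sectModEt N E) :
    ∃ (E₀ : EtOver X) (_ : IsAffine E₀.obj.left.left) (h : E₀ ⟶ E) (m : sectModEt M E₀),
      Surjective h.hom.left.left ∧ appₗ g E₀ m = res N h n := by
  obtain ⟨R, hR, hl⟩ := exists_local_lift g n
  obtain ⟨κ, hκ, Y, f, hY, hRf, hcov⟩ := exists_affine_family R hR
  obtain ⟨E₀, hE₀, ι, h₀, hι, hop, hc, hd⟩ := exists_coprod E Y f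
  choose m hm using fun k => hl (f k) (hRf k)
  obtain ⟨m₀, hm₀⟩ := exists_glue_family M (ι := ULift.{u + 1} κ) (fun l => Y l.down) (fun l => ι l.down)
    (fun x => by obtain ⟨l, hl⟩ := hc x; exact ⟨⟨l⟩, hl⟩) (fun l => m l.down) fun l l' Z p q e => by
      by_cases hll : l.down = l'.down
      · obtain ⟨l⟩ := l; obtain ⟨l'⟩ := l'; cases hll
        have := hop l
        have : Mono (ι l).hom.left.left := inferInstance
        have hpq : p = q := EtOver.hom_ext _ _ (Over.OverMorphism.ext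
          ((cancel_mono (ι l).hom.left.left).1 (congrArg (fun r => r.hom.left.left) e)))
        rw [hpq]
      · have := hd _ _ Z p q e hll
        exact (sections_subsingleton_of_isEmpty _ Z).elim _ _
  refine ⟨E₀, hE₀, h₀, m₀, ⟨fun x => ?_⟩, sections_ext_family N Y ι hc fun k => ?_⟩
  · obtain ⟨k, v, hv⟩ := hcov x
    exact ⟨(ι k).hom.left.left v, by
      change ((ι k).hom.left.left ≫ h₀.hom.left.left) v = x
      rw [show (ι k).hom.left.left ≫ h₀.hom.left.left = (f k).hom.left.left from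
        congrArg (fun q => q.hom.left.left) (hι k)]
      exact hv⟩
  · rw [← appₗ_res, hm₀ ⟨k⟩, hm, ← res_comp, hι]

/-- A surjection of modules with quasi-coherent kernel is surjective on sections over affine objects. -/
theorem appₗ_surjective_of_kernel_good (f : K ⟶ M) (g : M ⟶ N) [Mono f] [Epi g] (hfg : f ≫ g = 0)
    (hex : ∀ (Z : EtOver X) (m : sectModEt M Z), appₗ g Z m = 0 → ∃ w, appₗ f Z w = m)
    {E : EtOver X} [IsAffine E.obj.left.left] (hK : Good K E) : Function.Surjective (appₗ g E) := by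
  intro n
  obtain ⟨E₀, hE₀, h, m₀, hs, hm₀⟩ := exists_lift_single g n
  have := Tw.faithfullyFlat h hs
  let p := EtOver.pullbackFst h h
  let q := EtOver.pullbackSnd h h
  have hpq : p ≫ h = q ≫ h := EtOver.pullback_condition h h
  obtain ⟨a, ha⟩ := hex _ (res M p m₀ - res M q m₀) (by
    rw [map_sub, appₗ_res, appₗ_res, hm₀, ← res_comp, ← res_comp, hpq, sub_self])
  obtain ⟨z, hz⟩ := (hK (p ≫ h)).2 a
  obtain ⟨Φ₂, hΦ₂i, hΦ₂s, hΦ₂⟩ := exists_sq h h (sectModEt K E)
  obtain ⟨y, rfl⟩ := hΦ₂s z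
  let E₂ := EtOver.pullbackObj (p ≫ h) h
  let s₀₁ : E₂ ⟶ EtOver.pullbackObj h h := EtOver.pullbackFst (p ≫ h) h
  let r₂ : E₂ ⟶ E₀ := EtOver.pullbackSnd (p ≫ h) h
  let j := s₀₁ ≫ p ≫ h
  have hr₂ : r₂ ≫ h = j := (EtOver.pullback_condition (p ≫ h) h).symm
  have hr₀ : (s₀₁ ≫ p) ≫ h = j := Category.assoc _ _ _
  have hr₁ : (s₀₁ ≫ q) ≫ h = j := by rw [Category.assoc, ← hpq]
  let s₀₂ : E₂ ⟶ EtOver.pullbackObj h h := (EtOver.isPullback h h).lift (s₀₁ ≫ p) r₂ (by rw [hr₀, hr₂])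
  let s₁₂ : E₂ ⟶ EtOver.pullbackObj h h := (EtOver.isPullback h h).lift (s₀₁ ≫ q) r₂ (by rw [hr₁, hr₂])
  have e02p : s₀₂ ≫ p = s₀₁ ≫ p := (EtOver.isPullback h h).lift_fst _ _ _
  have e02q : s₀₂ ≫ q = r₂ := (EtOver.isPullback h h).lift_snd _ _ _
  have e12p : s₁₂ ≫ p = s₀₁ ≫ q := (EtOver.isPullback h h).lift_fst _ _ _
  have e12q : s₁₂ ≫ q = r₂ := (EtOver.isPullback h h).lift_snd _ _ _
  have k02 : s₀₂ ≫ p ≫ h = j := by rw [← Category.assoc, e02p, hr₀]
  have k12 : s₁₂ ≫ p ≫ h = j := by rw [← Category.assoc, e12p, hr₁]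
  have hcoc : res K s₀₁ a - res K s₀₂ a + res K s₁₂ a = 0 := by
    apply appₗ_injective f E₂
    rw [map_zero, map_add, map_sub, appₗ_res, appₗ_res, appₗ_res, ha]
    simp only [map_sub, ← res_comp, e02p, e02q, e12p, e12q]
    abel
  obtain ⟨Φ₁, hΦ₁i, -, hΦ₁⟩ := exists_sq h h (Tw h ⊗[Γo E] sectModEt K E)
  obtain ⟨Φ₃, hΦ₃i, -, hΦ₃⟩ := exists_sq (p ≫ h) h (sectModEt K E)
  have key : ∀ y, Φ₃ (Φ₁ (Amitsur.d₁ (Tw h) (sectModEt K E) y)) =
      (mapTw s₀₁ rfl).rTensor _ (Φ₂ y) - (mapTw s₀₂ k02).rTensor _ (Φ₂ y) + (mapTw s₁₂ k12).rTensor _ (Φ₂ y) := by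
    intro y
    induction y using TensorProduct.induction_on with
    | zero => simp
    | tmul b x =>
      induction x using TensorProduct.induction_on with
      | zero => simp
      | tmul c k =>
        have one : ∀ {W : EtOver X} (r : W ⟶ E₀), γ r (Tw.out (1 : Tw h)) = 1 := fun r => map_one (γ r)
        have g1 : ∀ (x : Γo E₀), γ s₀₁ (γ p x) = γ (s₀₁ ≫ p) x := fun x => by rw [γ_comp]; rfl
        have g2 : ∀ (x : Γo E₀), γ s₀₁ (γ q x) = γ (s₀₁ ≫ q) x := fun x => by rw [γ_comp]; rfl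
        have g3 : ∀ (x : Γo E₀), γ s₀₂ (γ p x) = γ (s₀₁ ≫ p) x := fun x => by rw [← e02p, γ_comp]; rfl
        have g4 : ∀ (x : Γo E₀), γ s₀₂ (γ q x) = γ r₂ x := fun x => by rw [← e02q, γ_comp]; rfl
        have g5 : ∀ (x : Γo E₀), γ s₁₂ (γ p x) = γ (s₀₁ ≫ q) x := fun x => by rw [← e12p, γ_comp]; rfl
        have g6 : ∀ (x : Γo E₀), γ s₁₂ (γ q x) = γ r₂ x := fun x => by rw [← e12q, γ_comp]; rfl
        have mk_out : ∀ {A B : EtOver X} (t : B ⟶ A) (x : Γo B), Tw.out (Tw.mk t x) = x := fun _ _ => rfl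
        simp only [Amitsur.d₁_tmul, map_add, map_sub, hΦ₁, hΦ₃, hΦ₂, LinearMap.rTensor_tmul, mk_out]
        congr 1
        congr 1
        · congr 1
          change γ s₀₁ (γ p (Tw.out b) * γ q (Tw.out c)) * γ r₂ (Tw.out (1 : Tw h)) =
            γ s₀₁ (γ p (Tw.out b) * γ q (Tw.out c))
          rw [one, mul_one]
        · congr 1
          change γ s₀₁ (γ p (Tw.out b) * γ q (Tw.out (1 : Tw h))) * γ r₂ (Tw.out c) =
            γ s₀₂ (γ p (Tw.out b) * γ q (Tw.out c))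
          rw [one, mul_one, map_mul, g1, g3, g4]
        · congr 1
          change γ s₀₁ (γ p (Tw.out (1 : Tw h)) * γ q (Tw.out b)) * γ r₂ (Tw.out c) =
            γ s₁₂ (γ p (Tw.out b) * γ q (Tw.out c))
          rw [one, one_mul, map_mul, g2, g5, g6]
      | add x x' hx hx' => simp only [TensorProduct.tmul_add, map_add, hx, hx']; abel
    | add x x' hx hx' => simp only [map_add, hx, hx']; abel
  have hd : Amitsur.d₁ (Tw h) (sectModEt K E) y = 0 := by
    refine hΦ₁i (hΦ₃i ?_)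
    rw [key, map_zero, map_zero]
    refine (hK j).1 ?_
    rw [map_zero, map_add, map_sub]
    rw [← hz, lift_res s₀₁ rfl, lift_res s₀₂ k02, lift_res s₁₂ k12] at hcoc
    exact hcoc
  obtain ⟨y₀, hy₀⟩ := (Amitsur.exact_d₁ (Tw h) (sectModEt K E) y).1 hd
  have key₀ : ∀ y₀, Φ₂ (Amitsur.d₀ (Tw h) (sectModEt K E) y₀) =
      (mapTw p rfl).rTensor _ y₀ - (mapTw q hpq.symm).rTensor _ y₀ := by
    intro y₀
    induction y₀ using TensorProduct.induction_on with
    | zero => simp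
    | tmul b k =>
      simp only [Amitsur.d₀_tmul, map_sub, hΦ₂, LinearMap.rTensor_tmul]
      congr 1
      · congr 1
        change γ p (Tw.out b) * γ q (1 : Γo E₀) = γ p (Tw.out b)
        rw [map_one, mul_one]
      · congr 1
        change γ p (1 : Γo E₀) * γ q (Tw.out b) = γ q (Tw.out b)
        rw [map_one, one_mul]
    | add x x' hx hx' => simp only [map_add, hx, hx']; abel
  let c := lift h (LinearMap.id : sectModEt K E →ₗ[Γo E] _) y₀
  have hc : a = res K p c - res K q c := by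
    rw [← hz, ← hy₀, key₀, map_sub, lift_res p rfl, lift_res q hpq.symm]
  obtain ⟨m, hm⟩ := exists_glue_single M h hs (m₀ - appₗ f E₀ c) (by
    rw [map_sub, map_sub, ← appₗ_res, ← appₗ_res]
    have e := ha
    rw [hc, map_sub] at e
    linear_combination (norm := abel) -e)
  refine ⟨m, sections_ext_single N h hs ?_⟩
  rw [← appₗ_res, hm, map_sub, hm₀, appₗ_comp_zero f g hfg, sub_zero]

theorem exists_sect_of_exact (C : ShortComplex (ModEt X)) (hC : C.ShortExact) (Z : EtOver X) (m : sectModEt C.X₂ Z)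
    (hm : appₗ C.g Z m = 0) : ∃ w, appₗ C.f Z w = m := by
  have := hC.mono_f
  obtain ⟨w, hw⟩ := exists_kernel_sect C.g m hm
  let e := hC.exact.fIsKernel.conePointUniqueUpToIso (kernelIsKernel C.g)
  have he : e.inv ≫ C.f = kernel.ι C.g :=
    hC.exact.fIsKernel.conePointUniqueUpToIso_inv_comp (kernelIsKernel C.g) WalkingParallelPair.zero
  refine ⟨appₗ e.inv Z w, ?_⟩
  exact (congrArg (fun q => appₗ q Z w) he).trans hw

theorem shortExact_sections (C : ShortComplex (ModEt X)) (hC : C.ShortExact)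
    (h₁ : ∀ (Z : EtOver X) [IsAffine Z.obj.left.left], Good C.X₁ Z) (E : EtOver X) [IsAffine E.obj.left.left] :
    Function.Injective (appₗ C.f E) ∧ Function.Exact (appₗ C.f E) (appₗ C.g E) ∧
      Function.Surjective (appₗ C.g E) := by
  have := hC.mono_f
  have := hC.epi_g
  exact ⟨appₗ_injective C.f E, fun m => ⟨exists_sect_of_exact C hC E m, fun ⟨w, hw⟩ => hw ▸ appₗ_comp_zero _ _ C.zero w⟩,
    appₗ_surjective_of_kernel_good C.f C.g C.zero (exists_sect_of_exact C hC) (h₁ E)⟩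

/-- Extensions of quasi-coherent modules are compatible with base change. -/
theorem good_middle (C : ShortComplex (ModEt X)) (hC : C.ShortExact)
    (h₁ : ∀ (Z : EtOver X) [IsAffine Z.obj.left.left], Good C.X₁ Z)
    (h₃ : ∀ (Z : EtOver X) [IsAffine Z.obj.left.left], Good C.X₃ Z) (E : EtOver X) [IsAffine E.obj.left.left] :
    Good C.X₂ E := by
  intro E' _ g
  obtain ⟨hi, he, hs⟩ := shortExact_sections C hC h₁ E
  obtain ⟨hi', he', hs'⟩ := shortExact_sections C hC h₁ E'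
  have := Tw.flat g
  refine ⟨fun a b e => sub_eq_zero.1 ?_, fun m => ?_⟩
  · have h0 : lift g LinearMap.id (a - b) = (0 : sectModEt C.X₂ E') := by rw [map_sub, e, sub_self]
    generalize a - b = z at h0
    obtain ⟨y, rfl⟩ := (Module.Flat.lTensor_exact (Tw g) he z).1 ((h₃ E g).1 (by
      rw [← lift_appₗ_id, h0, map_zero, map_zero]))
    rw [← lift_appₗ_id] at h0
    have : y = 0 := (h₁ E g).1 (hi' (by rw [h0, map_zero, map_zero]))
    rw [this, map_zero]
  · obtain ⟨w, hw⟩ := (h₃ E g).2 (appₗ C.g E' m)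
    obtain ⟨z, rfl⟩ := LinearMap.lTensor_surjective (Tw g) hs w
    obtain ⟨r, hr⟩ := (he' (m - lift g LinearMap.id z)).1 (by
      rw [map_sub, lift_appₗ_id, hw, sub_self])
    obtain ⟨y, rfl⟩ := (h₁ E g).2 r
    rw [lift_appₗ_id] at hr
    exact ⟨z + (appₗ C.f E).lTensor (Tw g) y, by rw [map_add, hr]; abel⟩

end Groth.Agent.QcohEt15
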