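import Groth.Agent.Lib.QcohEt15.Site
import Groth.Agent.Lib.QcohEt15.Amitsur

/-!
# Base change maps for sections over affine objects
-/

universe u v w

set_option backward.isDefEq.respectTransparency false

open CategoryTheory CategoryTheory.Limits AlgebraicGeometry Opposite TensorProduct

namespace Groth.Agent.QcohEt15

open AlgSp

variable {S : Scheme.{u}} {X : Sp S}

/-- The functions on the source of `g`, as an algebra over those on the target. -/
def Tw {E E' : EtOver X} (_g : E' ⟶ E) : Type u := Γo E'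

noncomputable instance {E E' : EtOver X} (g : E' ⟶ E) : CommRing (Tw g) := inferInstanceAs (CommRing (Γo E'))

noncomputable instance {E E' : EtOver X} (g : E' ⟶ E) : Algebra (Γo E) (Tw g) := (γ g).toAlgebra

noncomputable instance {E E' : EtOver X} (g : E' ⟶ E) : Module (Γo E') (Tw g) := inferInstanceAs (Module (Γo E') (Γo E'))

/-- Regard a function as an element of `Tw g`. -/
def Tw.mk {E E' : EtOver X} (g : E' ⟶ E) (a : Γo E') : Tw g := a

/-- The function underlying an element of `Tw g`. -/
def Tw.out {E E' : EtOver X} {g : E' ⟶ E} (a : Tw g) : Γo E' := a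

instance {E E' : EtOver X} (g : E' ⟶ E) : SMulCommClass (Γo E) (Γo E') (Tw g) :=
  ⟨fun a b c => by
    change γ g a * (b * Tw.out c) = b * (γ g a * Tw.out c)
    ring⟩

theorem Tw.flat {E E' : EtOver X} (g : E' ⟶ E) [IsAffine E.obj.left.left] [IsAffine E'.obj.left.left] :
    Module.Flat (Γo E) (Tw g) := flat_γ g

theorem Tw.faithfullyFlat {E E' : EtOver X} (g : E' ⟶ E) [IsAffine E.obj.left.left] [IsAffine E'.obj.left.left]
    (h : Surjective g.hom.left.left) : Module.FaithfullyFlat (Γo E) (Tw g) := faithfullyFlat_γ g h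

/-- Pullback of functions between twisted copies. -/
noncomputable def mapTw {E E' E'' : EtOver X} {g : E' ⟶ E} {g' : E'' ⟶ E} (k : E'' ⟶ E') (hk : k ≫ g = g') :
    Tw g →ₗ[Γo E] Tw g' where
  toFun a := γ k a
  map_add' a b := map_add (γ k) a b
  map_smul' a b := by
    change γ k (γ g a * Tw.out b) = γ g' a * γ k (Tw.out b)
    rw [map_mul, ← hk, γ_comp]
    rfl

theorem mapTw_apply {E E' E'' : EtOver X} {g : E' ⟶ E} {g' : E'' ⟶ E} (k : E'' ⟶ E') (hk : k ≫ g = g')
    (a : Tw g) : (mapTw k hk a : Γo E'') = γ k a := rfl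

variable {M : ModEt X} {E E' E'' : EtOver X} {N : Type v} [AddCommGroup N] [Module (Γo E) N]

/-- The map `a ⊗ n ↦ a • ψ(n)|_{E'}`. -/
noncomputable def lift (g : E' ⟶ E) (ψ : N →ₗ[Γo E] sectModEt M E) : Tw g ⊗[Γo E] N →+ sectModEt M E' :=
  TensorProduct.liftAddHom
    { toFun := fun a =>
        { toFun := fun n => (Tw.out a) • res M g (ψ n)
          map_zero' := by rw [map_zero, map_zero, smul_zero]
          map_add' := fun n n' => by rw [map_add, map_add, smul_add] }
      map_zero' := AddMonoidHom.ext fun n => zero_smul (Γo E') _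
      map_add' := fun a b => AddMonoidHom.ext fun n => add_smul (Tw.out a) (Tw.out b) _ }
    fun r a n => by
      change (γ g r * Tw.out a) • res M g (ψ n) = Tw.out a • res M g (ψ (r • n))
      rw [map_smul, res_smul, smul_smul, mul_comm]

theorem lift_tmul (g : E' ⟶ E) (ψ : N →ₗ[Γo E] sectModEt M E) (a : Tw g) (n : N) :
    lift g ψ (a ⊗ₜ n) = (Tw.out a) • res M g (ψ n) := rfl

theorem lift_one_tmul (g : E' ⟶ E) (ψ : N →ₗ[Γo E] sectModEt M E) (n : N) :
    lift g ψ ((1 : Tw g) ⊗ₜ n) = res M g (ψ n) := by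
  rw [lift_tmul]
  exact one_smul (Γo E') _

theorem lift_smul (g : E' ⟶ E) (ψ : N →ₗ[Γo E] sectModEt M E) (c : Γo E') (z : Tw g ⊗[Γo E] N) :
    lift g ψ (c • z) = c • lift g ψ z := by
  induction z using TensorProduct.induction_on with
  | zero => rw [smul_zero, map_zero, smul_zero]
  | tmul a n =>
    rw [TensorProduct.smul_tmul', lift_tmul, lift_tmul]
    exact mul_smul c (Tw.out a) _
  | add x y hx hy => rw [smul_add, map_add, hx, hy, map_add, smul_add]

theorem lift_res {g : E' ⟶ E} {g' : E'' ⟶ E} (k : E'' ⟶ E') (hk : k ≫ g = g') (ψ : N →ₗ[Γo E] sectModEt M E)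
    (z : Tw g ⊗[Γo E] N) : res M k (lift g ψ z) = lift g' ψ ((mapTw k hk).rTensor N z) := by
  induction z using TensorProduct.induction_on with
  | zero => simp
  | tmul a n =>
    rw [LinearMap.rTensor_tmul, lift_tmul, lift_tmul, res_smul, ← res_comp, hk]
    rfl
  | add x y hx hy => simp only [map_add, hx, hy]

theorem lift_comp {N' : Type w} [AddCommGroup N'] [Module (Γo E) N'] (g : E' ⟶ E) (ψ : N →ₗ[Γo E] sectModEt M E)
    (f : N' →ₗ[Γo E] N) (z : Tw g ⊗[Γo E] N') : lift g (ψ ∘ₗ f) z = lift g ψ (f.lTensor (Tw g) z) := by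
  induction z using TensorProduct.induction_on with
  | zero => simp
  | tmul a n => rw [LinearMap.lTensor_tmul, lift_tmul, lift_tmul]; rfl
  | add x y hx hy => simp only [map_add, hx, hy]

/-- `lift g ψ` as a linear map over the functions on the source. -/
noncomputable def liftₗ (g : E' ⟶ E) (ψ : N →ₗ[Γo E] sectModEt M E) :
    Tw g ⊗[Γo E] N →ₗ[Γo E'] sectModEt M E' :=
  { toFun := lift g ψ, map_add' := map_add _, map_smul' := lift_smul g ψ }

/-! ### Iterated base change -/

section Comb

variable (k : E'' ⟶ E') (g : E' ⟶ E)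

/-- `c ⊗ (b ⊗ n) ↦ c b|_{E''} ⊗ n`. -/
noncomputable def comb {g' : E'' ⟶ E} (hk : k ≫ g = g') :
    Tw k ⊗[Γo E'] (Tw g ⊗[Γo E] N) →+ Tw g' ⊗[Γo E] N :=
  TensorProduct.liftAddHom
    { toFun := fun c =>
        { toFun := fun z => (Tw.out c) • ((mapTw k hk).rTensor N z)
          map_zero' := by rw [map_zero, smul_zero]
          map_add' := fun z z' => by rw [map_add, smul_add] }
      map_zero' := AddMonoidHom.ext fun z => zero_smul (Γo E'') _
      map_add' := fun a b => AddMonoidHom.ext fun z => add_smul (Tw.out a) (Tw.out b) _ }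
    fun r c z => by
      change (γ k r * Tw.out c) • (mapTw k hk).rTensor N z = Tw.out c • (mapTw k hk).rTensor N (r • z)
      induction z using TensorProduct.induction_on with
      | zero => simp
      | tmul b n =>
        rw [TensorProduct.smul_tmul', LinearMap.rTensor_tmul, LinearMap.rTensor_tmul, TensorProduct.smul_tmul',
          TensorProduct.smul_tmul']
        congr 1
        change (γ k r * Tw.out c) * γ k (Tw.out b) = Tw.out c * γ k (r * Tw.out b)
        rw [map_mul]
        ring
      | add x y hx hy => simp only [smul_add, map_add, hx, hy]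

theorem comb_tmul {g' : E'' ⟶ E} (hk : k ≫ g = g') (c : Tw k) (z : Tw g ⊗[Γo E] N) :
    comb k g hk (c ⊗ₜ z) = (Tw.out c) • ((mapTw k hk).rTensor N z) := rfl

theorem comb_bijective {g' : E'' ⟶ E} (hk : k ≫ g = g') : Function.Bijective (comb (N := N) k g hk) := by
  let inv : Tw g' ⊗[Γo E] N →+ Tw k ⊗[Γo E'] (Tw g ⊗[Γo E] N) :=
    TensorProduct.liftAddHom
      { toFun := fun c =>
          { toFun := fun n => (Tw.mk k (Tw.out c)) ⊗ₜ ((1 : Tw g) ⊗ₜ n)
            map_zero' := by rw [TensorProduct.tmul_zero, TensorProduct.tmul_zero]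
            map_add' := fun n n' => by rw [TensorProduct.tmul_add, TensorProduct.tmul_add] }
        map_zero' := AddMonoidHom.ext fun n => TensorProduct.zero_tmul _ _
        map_add' := fun a b => AddMonoidHom.ext fun n => TensorProduct.add_tmul _ _ _ }
      fun r c n => by
        change (Tw.mk k (γ g' r * Tw.out c)) ⊗ₜ[Γo E'] ((1 : Tw g) ⊗ₜ[Γo E] n) =
          (Tw.mk k (Tw.out c)) ⊗ₜ[Γo E'] ((1 : Tw g) ⊗ₜ[Γo E] (r • n))
        rw [TensorProduct.tmul_smul]
        have h1 : r • ((1 : Tw g) ⊗ₜ[Γo E] n) = (γ g r) • ((1 : Tw g) ⊗ₜ[Γo E] n) := by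
          rw [TensorProduct.smul_tmul', TensorProduct.smul_tmul']
          rfl
        rw [h1, TensorProduct.tmul_smul, TensorProduct.smul_tmul']
        congr 1
        change γ g' r * Tw.out c = γ k (γ g r) * Tw.out c
        rw [← hk, γ_comp]
        rfl
  refine Function.bijective_iff_has_inverse.2 ⟨inv, fun x => ?_, fun y => ?_⟩
  · induction x using TensorProduct.induction_on with
    | zero => simp
    | tmul c z =>
      induction z using TensorProduct.induction_on with
      | zero => simp
      | tmul b n =>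
        rw [comb_tmul, LinearMap.rTensor_tmul, TensorProduct.smul_tmul']
        change (Tw.mk k (Tw.out c * γ k (Tw.out b))) ⊗ₜ[Γo E'] ((1 : Tw g) ⊗ₜ[Γo E] n) = _
        have h1 : b ⊗ₜ[Γo E] n = (Tw.out b) • ((1 : Tw g) ⊗ₜ[Γo E] n) := by
          rw [TensorProduct.smul_tmul']
          congr 1
          exact (mul_one (Tw.out b)).symm
        rw [h1, TensorProduct.tmul_smul, TensorProduct.smul_tmul']
        congr 1
        exact mul_comm _ _
      | add x y hx hy => simp only [TensorProduct.tmul_add, map_add, hx, hy]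
    | add x y hx hy => simp only [map_add, hx, hy]
  · induction y using TensorProduct.induction_on with
    | zero => simp
    | tmul c n =>
      change comb k g hk ((Tw.mk k (Tw.out c)) ⊗ₜ[Γo E'] ((1 : Tw g) ⊗ₜ[Γo E] n)) = _
      rw [comb_tmul, LinearMap.rTensor_tmul, TensorProduct.smul_tmul']
      congr 1
      change Tw.out c * γ k (1 : Γo E') = Tw.out c
      rw [map_one, mul_one]
    | add x y hx hy => simp only [map_add, hx, hy]

theorem lift_liftₗ {g' : E'' ⟶ E} (hk : k ≫ g = g') (ψ : N →ₗ[Γo E] sectModEt M E)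
    (z : Tw k ⊗[Γo E'] (Tw g ⊗[Γo E] N)) : lift k (liftₗ g ψ) z = lift g' ψ (comb k g hk z) := by
  induction z using TensorProduct.induction_on with
  | zero => simp
  | tmul c z =>
    rw [comb_tmul, lift_smul, lift_tmul]
    exact congrArg (Tw.out c • ·) (lift_res k hk ψ z)
  | add x y hx hy => simp only [map_add, hx, hy]

end Comb

/-! ### Gluing along one affine covering morphism -/

theorem mem_range_of_cover {E₀ : EtOver X} [IsAffine E.obj.left.left] [IsAffine E₀.obj.left.left] (h : E₀ ⟶ E)
    (hs : Surjective h.hom.left.left) (ψ : N →ₗ[Γo E] sectModEt M E)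
    (hinj : Function.Injective (lift (EtOver.pullbackFst h h ≫ h) ψ)) (m : sectModEt M E)
    (hm : res M h m ∈ Set.range (lift h ψ)) : m ∈ Set.range ψ := by
  obtain ⟨z, hz⟩ := hm
  have := Tw.faithfullyFlat h hs
  let p := EtOver.pullbackFst h h
  let q := EtOver.pullbackSnd h h
  have hq : q ≫ h = p ≫ h := (EtOver.pullback_condition h h).symm
  let μP : Tw h ⊗[Γo E] Tw h →ₗ[Γo E] Tw (p ≫ h) :=
    TensorProduct.lift
      { toFun := fun a =>
          { toFun := fun b => (mapTw p rfl a) * (mapTw q hq b)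
            map_add' := fun b b' => by rw [map_add, mul_add]
            map_smul' := fun r b => by rw [map_smul, RingHom.id_apply, mul_smul_comm] }
        map_add' := fun a a' => LinearMap.ext fun b => by
          change mapTw p rfl (a + a') * _ = _
          rw [map_add, add_mul]; rfl
        map_smul' := fun r a => LinearMap.ext fun b => by
          change mapTw p rfl (r • a) * _ = _
          rw [map_smul, smul_mul_assoc]; rfl }
  have hμ : Function.Bijective μP := by
    letI : Algebra (Γo E) (Γo E₀) := (γ h).toAlgebra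
    letI : Algebra (Γo E) (Γo (EtOver.pullbackObj h h)) := (γ (p ≫ h)).toAlgebra
    let P₁ : CommRingCat.{u} := CommRingCat.of (Γo (EtOver.pullbackObj h h))
    let f₁ : Tw h →ₐ[Γo E] Tw (p ≫ h) :=
      { toFun := fun a => γ p a, map_one' := map_one (γ p), map_mul' := map_mul (γ p)
        map_zero' := map_zero (γ p), map_add' := map_add (γ p)
        commutes' := fun r => (RingHom.congr_fun (γ_comp h p) r).symm }
    let f₂ : Tw h →ₐ[Γo E] Tw (p ≫ h) :=
      { toFun := fun a => γ q a, map_one' := map_one (γ q), map_mul' := map_mul (γ q)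
        map_zero' := map_zero (γ q), map_add' := map_add (γ q)
        commutes' := fun r => by
          change γ q (γ h r) = γ (p ≫ h) r
          rw [← hq, γ_comp]
          rfl }
    let Φ := Algebra.TensorProduct.productMap f₁ f₂
    have hΦ : Function.Bijective Φ := by
      have sq := isPushout_γ h h
      let sq' := CommRingCat.isPushout_tensorProduct (Γo E) (Tw h) (Tw h)
      let e := sq'.isoIsPushout _ _ sq
      have he : e.hom.hom = Φ.toRingHom := by
        refine Algebra.TensorProduct.ringHom_ext ?_ ?_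
        · ext a
          refine (RingHom.congr_fun (congrArg CommRingCat.Hom.hom (sq'.inl_isoIsPushout_hom _ _ sq)) a).trans ?_
          exact (Algebra.TensorProduct.productMap_left_apply f₁ f₂ a).symm
        · ext a
          refine (RingHom.congr_fun (congrArg CommRingCat.Hom.hom (sq'.inr_isoIsPushout_hom _ _ sq)) a).trans ?_
          exact (Algebra.TensorProduct.productMap_right_apply f₁ f₂ a).symm
      have : Function.Bijective e.hom.hom := (ConcreteCategory.isIso_iff_bijective e.hom).1 inferInstance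
      rw [he] at this
      exact this
    have e : ∀ x, μP x = Φ x := fun x => by
      induction x using TensorProduct.induction_on with
      | zero => simp
      | tmul a b => simp [μP, Φ, f₁, f₂]; rfl
      | add x y hx hy => simp only [map_add, hx, hy]
    rw [show (μP : _ → _) = Φ from funext e]
    exact hΦ
  let Φ : Tw h ⊗[Γo E] (Tw h ⊗[Γo E] N) →ₗ[Γo E] Tw (p ≫ h) ⊗[Γo E] N :=
    μP.rTensor N ∘ₗ (TensorProduct.assoc (Γo E) (Tw h) (Tw h) N).symm.toLinearMap
  have hΦ : Function.Injective Φ :=
    ((LinearEquiv.ofBijective μP hμ).rTensor N).injective.comp (LinearEquiv.injective _)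
  have h1 : Φ ((Amitsur.ι (Tw h) N).lTensor (Tw h) z) = (mapTw p rfl).rTensor N z := by
    clear hz
    induction z using TensorProduct.induction_on with
    | zero => simp
    | tmul a n =>
      simp only [LinearMap.lTensor_tmul, Amitsur.ι_apply, Φ, LinearMap.coe_comp, LinearEquiv.coe_coe,
        Function.comp_apply, TensorProduct.assoc_symm_tmul, LinearMap.rTensor_tmul]
      congr 1
      change mapTw p rfl a * mapTw q hq (1 : Tw h) = _
      rw [show mapTw q hq (1 : Tw h) = (1 : Tw (p ≫ h)) from map_one (γ q), mul_one]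
    | add x y hx hy => simp only [map_add, hx, hy]
  have h2 : Φ (Amitsur.ι (Tw h) (Tw h ⊗[Γo E] N) z) = (mapTw q hq).rTensor N z := by
    clear hz h1
    induction z using TensorProduct.induction_on with
    | zero => simp
    | tmul b n =>
      simp only [Amitsur.ι_apply, Φ, LinearMap.coe_comp, LinearEquiv.coe_coe, Function.comp_apply,
        TensorProduct.assoc_symm_tmul, LinearMap.rTensor_tmul]
      congr 1
      change mapTw p rfl (1 : Tw h) * mapTw q hq b = _
      rw [show mapTw p rfl (1 : Tw h) = (1 : Tw (p ≫ h)) from map_one (γ p), one_mul]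
    | add x y hx hy => simp only [map_add, hx, hy]
  have hd : Amitsur.d₀ (Tw h) N z = 0 := hΦ (hinj (by
    rw [map_zero, map_zero, Amitsur.d₀, LinearMap.sub_apply, map_sub, map_sub, h1, h2,
      ← lift_res p rfl, ← lift_res q hq, hz, ← res_comp, ← res_comp, sub_eq_zero, hq]))
  obtain ⟨n, hn⟩ := (Amitsur.exact_d₀ (Tw h) N z).1 hd
  refine ⟨n, sections_ext_single M h hs ?_⟩
  rw [← hz, ← hn, Amitsur.ι_apply, lift_one_tmul]

/-! ### Splitting along a finite disjoint union -/

/-- Functions on a finite disjoint union split. -/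
theorem exists_split {κ : Type u} [Fintype κ] [DecidableEq κ] {E₀ : EtOver X} {Y : κ → EtOver X}
    (ι : ∀ k, Y k ⟶ E₀) (hmono : ∀ k, IsOpenImmersion (ι k).hom.left.left)
    (hc : ∀ x : ↥E₀.obj.left.left, ∃ k, x ∈ Set.range (ι k).hom.left.left)
    (hd : ∀ k l (Z : EtOver X) (a : Z ⟶ Y k) (b : Z ⟶ Y l), a ≫ ι k = b ≫ ι l → k ≠ l → IsEmpty ↥Z.obj.left.left) :
    ∃ s : ∀ k, Γo (Y k) → Γo E₀, (∀ k a, γ (ι k) (s k a) = a) ∧ (∀ k l a, l ≠ k → γ (ι l) (s k a) = 0) ∧
      (∀ k a b, s k (a + b) = s k a + s k b) ∧ (∀ k c a, s k (γ (ι k) c * a) = c * s k a) ∧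
      ∀ a, ∑ k, s k (γ (ι k) a) = a := by
  have hext : ∀ a b : Γo E₀, (∀ k, γ (ι k) a = γ (ι k) b) → a = b := fun a b e =>
    ULift.up_injective (sections_ext_family (unitModEt X) Y ι hc (m := ULift.up a) (m' := ULift.up b)
      fun k => congrArg ULift.up (e k))
  have hex : ∀ k (a : Γo (Y k)), ∃ c : Γo E₀, γ (ι k) c = a ∧ ∀ l, l ≠ k → γ (ι l) c = 0 := by
    intro k a
    let mfam : ∀ l, sectModEt (unitModEt X) (Y l) := fun l =>
      if e : l = k then e ▸ (ULift.up a : sectModEt (unitModEt X) (Y k)) else 0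
    obtain ⟨c, hc'⟩ := exists_glue_family (unitModEt X) (ι := ULift.{u + 1} κ) (fun l => Y l.down) (fun l => ι l.down)
      (fun x => by obtain ⟨l, hl⟩ := hc x; exact ⟨⟨l⟩, hl⟩) (fun l => mfam l.down) fun l l' Z p q e => by
      by_cases hll : l.down = l'.down
      · obtain ⟨l⟩ := l; obtain ⟨l'⟩ := l'; cases hll
        have := hmono l
        have : Mono (ι l).hom.left.left := inferInstance
        have hpq : p = q := EtOver.hom_ext _ _ (Over.OverMorphism.ext
          ((cancel_mono (ι l).hom.left.left).1 (congrArg (fun r => r.hom.left.left) e)))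
        rw [hpq]
      · have := hd _ _ Z p q e hll
        exact (sections_subsingleton_of_isEmpty _ Z).elim _ _
    refine ⟨ULift.down c, ?_, fun l hl => ?_⟩
    · have h1 : res (unitModEt X) (ι k) c = mfam k := hc' ⟨k⟩
      have h2 : mfam k = (ULift.up a : sectModEt (unitModEt X) (Y k)) := dif_pos rfl
      exact congrArg ULift.down (h1.trans h2)
    · have h1 : res (unitModEt X) (ι l) c = mfam l := hc' ⟨l⟩
      have h2 : mfam l = 0 := dif_neg hl
      exact congrArg ULift.down (h1.trans h2)
  choose s hs1 hs2 using hex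
  refine ⟨s, hs1, fun k l a h => hs2 k a l h, fun k a b => hext _ _ fun l => ?_, fun k c a => hext _ _ fun l => ?_,
    fun a => hext _ _ fun l => ?_⟩
  · rw [map_add]
    by_cases h : l = k
    · subst h; rw [hs1, hs1, hs1]
    · rw [hs2 k _ l h, hs2 k _ l h, hs2 k _ l h, add_zero]
  · rw [map_mul]
    by_cases h : l = k
    · subst h; rw [hs1, hs1]
    · rw [hs2 k _ l h, hs2 k _ l h, mul_zero]
  · rw [map_sum, Finset.sum_eq_single l]
    · rw [hs1]
    · exact fun k _ hk => hs2 k _ l (Ne.symm hk)
    · exact fun h => absurd (Finset.mem_univ l) h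

end Groth.Agent.QcohEt15
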