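import Groth.Agent.Lib.QcohEt15.FP
import Groth.Agent.Lib.AlgSpEt.Support
import Groth.Agent.Lib.AlgSpRel14.Nbhd

/-!
# Neighbourhoods where morphisms of coherent modules stay injective or surjective
-/

universe u v

set_option backward.isDefEq.respectTransparency false

open CategoryTheory CategoryTheory.Limits AlgebraicGeometry Opposite TensorProduct

namespace Groth.Agent.QcohEt15

open AlgSp Groth.Agent.AlgSpEt Groth.Agent.AlgSpace

variable {S : Scheme.{u}} {X : Sp S} {M N G F : ModEt X}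

theorem subsingleton_of_range {W : EtOver X} [IsAffine W.obj.left.left] (hW : Good M W)
    (h0 : Subsingleton (sectModEt M W)) (E : EtOver X)
    (hE : Set.range (Points.ofPt E.obj.hom) ⊆ Set.range (Points.ofPt W.obj.hom)) :
    Subsingleton (sectModEt M E) := by
  choose w hw using fun v : ↥E.obj.left.left => hE ⟨v, rfl⟩
  choose V hV k₁ k₂ z hz₁ hz₂ using fun v : ↥E.obj.left.left => exists_common_affine v (w v) (hw v).symm
  refine ⟨fun a b => sections_ext_family M V k₁ (fun v => ⟨v, z v, hz₁ v⟩) fun v => ?_⟩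
  have : Subsingleton (sectModEt M (V v)) := by
    have := hV v
    refine ⟨fun c d => ?_⟩
    obtain ⟨c, rfl⟩ := (hW (k₂ v)).2 c
    obtain ⟨d, rfl⟩ := (hW (k₂ v)).2 d
    exact congrArg _ (Subsingleton.elim c d)
  exact Subsingleton.elim _ _

theorem exists_affine_lift (p : FieldPt X) (hp : p.IsGeometric) (hX : IsAlgSpace X) :
    ∃ (E : EtOver X) (_ : IsAffine E.obj.left.left), Nonempty ((FieldPt.liftsTo p).obj E) := by
  obtain ⟨E, ⟨l⟩⟩ := exists_chart_lift hX p hp
  obtain ⟨V, hV, hzV, -⟩ := E.obj.left.left.isBasis_affineOpens.exists_subset_of_mem_open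
    (Set.mem_univ (liftPt p l)) isOpen_univ
  obtain ⟨V, hV', rfl⟩ := hV
  obtain ⟨l', -⟩ := exists_lift_of_point p hp (AlgSpEt14.openSub E V) ⟨liftPt p l, hzV⟩
    ((AlgSpEt14.ofPt_openSub E V ⟨liftPt p l, hzV⟩).trans (ofPt_liftPt p l))
  exact ⟨AlgSpEt14.openSub E V, hV', ⟨l'⟩⟩

theorem exists_zero_nbhd (hX : IsAlgSpace X) (p : FieldPt X) (hp : p.IsGeometric)
    (hgood : ∀ (E : EtOver X) [IsAffine E.obj.left.left], Good M E)
    (hfin : ∀ (E : EtOver X) [IsAffine E.obj.left.left], Module.Finite (Γo E) (sectModEt M E))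
    (h0 : IsZero (stalkEt p ((toAbEt X).obj M))) :
    ∃ (W : EtOver X) (_ : IsAffine W.obj.left.left),
      Points.mk p ∈ Set.range (Points.ofPt W.obj.hom) ∧ Subsingleton (sectModEt M W) := by
  obtain ⟨E, hE, ⟨l⟩⟩ := exists_affine_lift p hp hX
  obtain ⟨s, hs⟩ := Module.Finite.fg_top (R := Γo E) (M := sectModEt M E) (self := hfin E)
  choose Z hZ hZp using fun m : sectModEt M E => exists_zero_open hX ((toAbEt X).obj M) E m
  have hsub := AddCommGrpCat.subsingleton_of_isZero h0
  have hmem : ∀ m, liftPt p l ∈ (Z m : Set ↥E.obj.left.left) := fun m =>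
    (hZp m p hp l).1 (Subsingleton.elim _ _)
  obtain ⟨V, hV, hlV, hsubV⟩ := E.obj.left.left.isBasis_affineOpens.exists_subset_of_mem_open
    (show liftPt p l ∈ ⋂ m ∈ s, (Z m : Set ↥E.obj.left.left) from Set.mem_iInter₂.2 fun m _ => hmem m)
    (isOpen_biInter_finset fun m _ => (Z m).isOpen)
  obtain ⟨V, hV', rfl⟩ := hV
  let W := AlgSpEt14.openSub E V
  have hWa : IsAffine W.obj.left.left := hV'
  let ι := AlgSpEt14.openSubι E V
  refine ⟨W, hWa, ⟨⟨liftPt p l, hlV⟩, (AlgSpEt14.ofPt_openSub E V _).trans (ofPt_liftPt p l)⟩, ?_⟩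
  have hker : ∀ m ∈ s, res M ι m = 0 := fun m hm => by
    refine (hZ m W ι).2 ?_
    rintro _ ⟨v, rfl⟩
    have : ι.hom.left.left v ∈ (V : Set ↥E.obj.left.left) := (AlgSpEt14.range_openSubι E V).le ⟨v, rfl⟩
    exact Set.mem_iInter₂.1 (hsubV this) m hm
  have hall : ∀ m, res M ι m = 0 := fun m => by
    have hm : m ∈ Submodule.span (Γo E) (s : Set (sectModEt M E)) := hs.ge trivial
    clear hsubV
    induction hm using Submodule.span_induction with
    | mem x hx => exact hker x hx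
    | zero => exact map_zero _
    | add a b _ _ ha hb => rw [map_add, ha, hb, add_zero]
    | smul r a _ ha => rw [res_smul, ha, smul_zero]
  refine ⟨fun a b => ?_⟩
  have key : ∀ z, lift ι (LinearMap.id : sectModEt M E →ₗ[Γo E] _) z = 0 := fun z => by
    induction z using TensorProduct.induction_on with
    | zero => exact map_zero _
    | tmul c m => rw [lift_tmul, LinearMap.id_apply, hall, smul_zero]
    | add x y hx hy => rw [map_add, hx, hy, add_zero]
  obtain ⟨a, rfl⟩ := (hgood E ι).2 a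
  obtain ⟨b, rfl⟩ := (hgood E ι).2 b
  rw [key, key]

theorem isZero_stalk_kernel (hX : IsAlgSpace X) (φ : G ⟶ F) (p : FieldPt X) (hp : p.IsGeometric)
    (h : Mono ((stalkEtFunctor AddCommGrpCat.{u + 1} p).map ((toAbEt X).map φ))) :
    IsZero (stalkEt p ((toAbEt X).obj (kernel φ))) := by
  have := preservesFiniteLimits_stalk_ab hX p hp
  let T := toAbEt X ⋙ stalkEtFunctor AddCommGrpCat.{u + 1} p
  have : PreservesFiniteLimits T := comp_preservesFiniteLimits _ _
  have hm : Mono (T.map (kernel.ι φ)) := inferInstance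
  refine IsZero.of_mono_eq_zero (T.map (kernel.ι φ)) ?_
  have hadd : T.Additive := Functor.additive_of_preserves_binary_products _
  have h' : Mono (T.map φ) := h
  rw [← cancel_mono (T.map φ), ← T.map_comp, kernel.condition, Functor.map_zero, zero_comp]

theorem isZero_stalk_cokernel (hX : IsAlgSpace X) (φ : G ⟶ F) (p : FieldPt X) (hp : p.IsGeometric)
    (h : Epi ((stalkEtFunctor AddCommGrpCat.{u + 1} p).map ((toAbEt X).map φ))) :
    IsZero (stalkEt p ((toAbEt X).obj (cokernel φ))) := by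
  have := preservesFiniteColimits_stalk_ab hX p hp
  have := preservesFiniteLimits_stalk_ab hX p hp
  let T := toAbEt X ⋙ stalkEtFunctor AddCommGrpCat.{u + 1} p
  have : PreservesFiniteLimits T := comp_preservesFiniteLimits _ _
  have : Epi ((toAbEt X).map (cokernel.π φ)) := epi_toSheaf_map (OEtRing X) (cokernel.π φ)
  have he : Epi (T.map (cokernel.π φ)) := inferInstanceAs (Epi ((stalkEtFunctor AddCommGrpCat.{u + 1} p).map _))
  refine IsZero.of_epi_eq_zero (T.map (cokernel.π φ)) ?_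
  have hadd : T.Additive := Functor.additive_of_preserves_binary_products _
  have h' : Epi (T.map φ) := h
  rw [← cancel_epi (T.map φ), ← T.map_comp, cokernel.condition, Functor.map_zero, comp_zero]

theorem mono_app_of_kernel_zero (φ : G ⟶ F) (E : EtOver X) (h : Subsingleton (sectModEt (kernel φ) E)) :
    Mono (φ.val.app (op E)) := by
  refine (ModuleCat.mono_iff_injective _).2 ?_
  change Function.Injective (appₗ φ E)
  rw [injective_iff_map_eq_zero]
  intro m hm
  obtain ⟨w, rfl⟩ := exists_kernel_sect φ m hm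
  rw [Subsingleton.elim w 0, map_zero]

theorem exists_local_preimage [G.IsQuasicoherent] [F.IsQuasicoherent] (φ : G ⟶ F) {W : EtOver X}
    [IsAffine W.obj.left.left] (h : Subsingleton (sectModEt (cokernel φ) W)) {E : EtOver X} (v : ↥E.obj.left.left)
    (hv : Points.ofPt E.obj.hom v ∈ Set.range (Points.ofPt W.obj.hom)) (s : sectModEt F E) :
    ∃ (Z : EtOver X) (k : Z ⟶ E) (t : sectModEt G Z), v ∈ Set.range k.hom.left.left ∧ appₗ φ Z t = res F k s := by
  obtain ⟨w, hw⟩ := hv
  obtain ⟨Z, hZ, k₁, k₂, z, hz₁, -⟩ := exists_common_affine v w hw.symm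
  have hC := (cokernel_sections (E := W) φ (fun Z _ => good_of_isQuasicoherent Z) (fun Z _ => good_of_isQuasicoherent Z)).1
  have : Subsingleton (sectModEt (cokernel φ) Z) := subsingleton_of_range hC h Z fun y hy => by
    obtain ⟨y, rfl⟩ := hy
    exact ⟨k₂.hom.left.left y, by rw [← EtOver.w k₂, AlgSpDecent.ofPt_map_comp]⟩
  obtain ⟨t, ht⟩ := ker_cokernel_π_le φ (good_of_isQuasicoherent Z) (good_of_isQuasicoherent Z) (res F k₁ s)
    (Subsingleton.elim _ _)
  exact ⟨Z, k₁, t, ⟨z, hz₁⟩, ht⟩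

theorem surjective_app_of_cokernel_zero [G.IsQuasicoherent] [F.IsQuasicoherent] (φ : G ⟶ F) {W : EtOver X}
    [IsAffine W.obj.left.left] (h : Subsingleton (sectModEt (cokernel φ) W)) (E : EtOver X)
    (hE : Set.range (Points.ofPt E.obj.hom) ⊆ Set.range (Points.ofPt W.obj.hom))
    (hinj : ∀ Z : EtOver X, Set.range (Points.ofPt Z.obj.hom) ⊆ Set.range (Points.ofPt W.obj.hom) →
      Function.Injective (appₗ φ Z)) : Function.Surjective (appₗ φ E) := by
  intro s
  choose Z k t hk ht using fun v : ↥E.obj.left.left => exists_local_preimage φ h v (hE ⟨v, rfl⟩) s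
  obtain ⟨t₀, ht₀⟩ := exists_glue_family G (ι := ULift.{u + 1} ↥E.obj.left.left) (fun v => Z v.down)
    (fun v => k v.down) (fun v => ⟨⟨v⟩, hk v⟩) (fun v => t v.down) fun i j Y a b e => by
      refine hinj Y (fun y hy => hE ?_) ?_
      · obtain ⟨y, rfl⟩ := hy
        exact ⟨(a ≫ k i.down).hom.left.left y, by rw [← EtOver.w (a ≫ k i.down), AlgSpDecent.ofPt_map_comp]⟩
      · rw [appₗ_res, appₗ_res, ht, ht, ← res_comp, ← res_comp, e]
  refine ⟨t₀, sections_ext_family F Z k (fun v => ⟨v, hk v⟩) fun v => ?_⟩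
  rw [← appₗ_res, ← ht v]
  exact congrArg _ (ht₀ ⟨v⟩)

theorem epi_stalk_of_cokernel_zero (hX : IsAlgSpace X) [G.IsQuasicoherent] [F.IsQuasicoherent] (φ : G ⟶ F)
    {W : EtOver X} [IsAffine W.obj.left.left] (h : Subsingleton (sectModEt (cokernel φ) W)) (q : FieldPt X)
    (hq : q.IsGeometric) (hqW : Points.mk q ∈ Set.range (Points.ofPt W.obj.hom)) :
    Epi ((stalkEtFunctor AddCommGrpCat.{u + 1} q).map ((toAbEt X).map φ)) := by
  refine (AddCommGrpCat.epi_iff_surjective _).2 fun z => ?_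
  obtain ⟨⟨E, l⟩, s, rfl⟩ := exists_stalkEtι_eq hX q hq ((toAbEt X).obj F) z
  obtain ⟨Z, k, t, ⟨y, hy⟩, ht⟩ := exists_local_preimage φ h (liftPt q l) ((ofPt_liftPt q l).symm ▸ hqW) s
  obtain ⟨l', hl', -⟩ := exists_lift_map q hq k l y hy
  refine ⟨(stalkEtι q ((toAbEt X).obj G) ⟨Z, l'⟩).hom t, ?_⟩
  have e := GrothendieckTopology.Point.toPresheafFiber_naturality (etPoint hX q hq) ((toAbEt X).map φ).hom Z l'
  refine (ConcreteCategory.congr_hom e t).trans ?_
  refine Eq.trans (congrArg (stalkEtι q ((toAbEt X).obj F) ⟨Z, l'⟩).hom ht) ?_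
  exact ConcreteCategory.congr_hom (colimit.w (stalkEtDiagram q ((toAbEt X).obj F))
    (CategoryOfElements.homMk (F := FieldPt.liftsTo q) ⟨Z, l'⟩ ⟨E, l⟩ k hl').op) s

end Groth.Agent.QcohEt15
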