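import Groth.Agent.Lib.QcohEt15.FP
import Mathlib.RingTheory.Ideal.AssociatedPrime.Basic

/-!
# Weakly associated points of direct images
-/

universe u

set_option backward.isDefEq.respectTransparency false

open CategoryTheory CategoryTheory.Limits AlgebraicGeometry Opposite TensorProduct

namespace Groth.Agent.QcohEt15

open AlgSp Groth.Agent.AlgSpace Groth.Agent.WeakAssEt15

variable {S : Scheme.{u}} {X : Sp S} {Y : Space S} {f : X ⟶ Y.obj} (hf : Representable f) {M : ModEt X}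

theorem exists_chart_bc_point (x : Points X) :
    ∃ (E : EtOver Y.obj) (_ : IsAffine E.obj.left.left) (b : ↥(EtOver.bcObj hf E).obj.left.left),
      Points.ofPt (EtOver.bcObj hf E).obj.hom b = x ∧
        Points.ofPt E.obj.hom ((EtOver.bcπ hf E).left b) = Points.map f x := by
  obtain ⟨U, a, hae, has⟩ := Y.property.atlas
  obtain ⟨u₀, hu₀⟩ := surjective_ofPt has (Points.map f x)
  let E₀ := EtOver.mk a hae
  obtain ⟨V, hV, hvV, -⟩ := E₀.obj.left.left.isBasis_affineOpens.exists_subset_of_mem_open (Set.mem_univ u₀) isOpen_univ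
  obtain ⟨V, hV', rfl⟩ := hV
  let E := AlgSpEt14.openSub E₀ V
  have hu : Points.ofPt E.obj.hom ⟨u₀, hvV⟩ = Points.map f x :=
    (AlgSpEt14.ofPt_openSub E₀ V ⟨u₀, hvV⟩).trans hu₀
  obtain ⟨b, hb, hb'⟩ := exists_pt_of_isPullback (EtOver.isPullback_bcObj hf E) (x := x) (t := ⟨u₀, hvV⟩) hu.symm
  exact ⟨E, hV', b, hb, hb'.symm ▸ hu⟩

theorem weakAss_push_eq (haff : IsAffineMor f) [M.IsQuasicoherent]
    (h : ∀ (E : EtOver Y.obj) [IsAffine E.obj.left.left] [IsAffine (EtOver.bcObj hf E).obj.left.left]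
      (b : ↥(EtOver.bcObj hf E).obj.left.left), IsWeakAssOn M (EtOver.bcObj hf E) b →
        ∃ m : sectModEt M (EtOver.bcObj hf E), ((annSect m).comap (bγ hf E)) ≤ (primeAtPt _ b).comap (bγ hf E) ∧
          ∀ q : Ideal (Γo E), q.IsPrime → (annSect m).comap (bγ hf E) ≤ q → q ≤ (primeAtPt _ b).comap (bγ hf E) →
            (primeAtPt _ b).comap (bγ hf E) ≤ q) :
    WeakAssEt ((pushModEt hf).obj M) = Points.map f '' WeakAssEt M := by
  refine Set.Subset.antisymm (weakAss_push_subset hf haff M) ?_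
  rintro _ ⟨x, hx, rfl⟩
  obtain ⟨E, hE, b, hb, hbf⟩ := exists_chart_bc_point hf x
  have := isAffine_bcObj hf haff E
  obtain ⟨m, h1, h2⟩ := h E b (isWeakAssOn_of_mem_weakAssEt b (hb.symm ▸ hx))
  refine ⟨E, hE, (EtOver.bcπ hf E).left b, hbf, pushIn hf m, ?_⟩
  have hann : annSect (pushIn hf m) = (annSect m).comap (bγ hf E) := Ideal.ext fun a => Iff.rfl
  have hp : primeAtPt E.obj.left.left ((EtOver.bcπ hf E).left b) = (primeAtPt _ b).comap (bγ hf E) :=
    (primeAtPt_comap (EtOver.bcπ hf E).left b).symm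
  rw [hann, hp]
  have := (isPrime_primeAtPt _ b).comap (bγ hf E)
  exact ⟨⟨this, h1⟩, fun q hq hqp => h2 q hq.1 hq.2 hqp⟩

theorem exists_of_finite (hfin : IsFiniteMor f) (E : EtOver Y.obj) [IsAffine E.obj.left.left]
    [IsAffine (EtOver.bcObj hf E).obj.left.left] (b : ↥(EtOver.bcObj hf E).obj.left.left)
    (hb : IsWeakAssOn M (EtOver.bcObj hf E) b) :
    ∃ m : sectModEt M (EtOver.bcObj hf E), ((annSect m).comap (bγ hf E)) ≤ (primeAtPt _ b).comap (bγ hf E) ∧
      ∀ q : Ideal (Γo E), q.IsPrime → (annSect m).comap (bγ hf E) ≤ q → q ≤ (primeAtPt _ b).comap (bγ hf E) →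
        (primeAtPt _ b).comap (bγ hf E) ≤ q := by
  let B := EtOver.bcObj hf E
  letI : Algebra (Γo E) (Γo B) := (bγ hf E).toAlgebra
  have : Module.Finite (Γo E) (Γo B) := finite_bγ hf hfin E
  letI : Module (Γo E) (sectModEt M B) := Module.compHom _ (bγ hf E)
  have : IsScalarTower (Γo E) (Γo B) (sectModEt M B) := ⟨fun r c m => mul_smul (bγ hf E r) c m⟩
  let u := primeAtPt B.obj.left.left b
  have : u.IsPrime := isPrime_primeAtPt _ b
  let p : Ideal (Γo E) := u.comap (bγ hf E)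
  have : p.IsPrime := Ideal.IsPrime.comap _
  have : u.LiesOver p := ⟨rfl⟩
  obtain ⟨m, hm⟩ := WeakAssBC4.weakAss_restrict_of_finite (A := Γo E) (p := p) u ((isWeakAssOn_iff B b).1 hb)
  have hann : (Submodule.span (Γo E) {m}).annihilator = (annSect m).comap (bγ hf E) := by
    ext a
    rw [Submodule.mem_annihilator_span_singleton, Ideal.mem_comap, mem_annSect_iff]
    rfl
  rw [hann] at hm
  exact ⟨m, hm.1.2, fun q hq h1 h2 => hm.2 ⟨hq, h1⟩ h2⟩

theorem exists_of_noetherian (hX : IsLocNoethSp X) (E : EtOver Y.obj) [IsAffine E.obj.left.left]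
    [IsAffine (EtOver.bcObj hf E).obj.left.left] (b : ↥(EtOver.bcObj hf E).obj.left.left)
    (hb : IsWeakAssOn M (EtOver.bcObj hf E) b) :
    ∃ m : sectModEt M (EtOver.bcObj hf E), ((annSect m).comap (bγ hf E)) ≤ (primeAtPt _ b).comap (bγ hf E) ∧
      ∀ q : Ideal (Γo E), q.IsPrime → (annSect m).comap (bγ hf E) ≤ q → q ≤ (primeAtPt _ b).comap (bγ hf E) →
        (primeAtPt _ b).comap (bγ hf E) ≤ q := by
  let B := EtOver.bcObj hf E
  have := isNoetherianRing_Γo hX B
  obtain ⟨m, hm⟩ := (isWeakAssOn_iff B b).1 hb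
  have := Module.Finite.iff_fg.2 (Submodule.fg_span (R := Γo B) (Set.finite_singleton m))
  have hass := associatedPrimes.subset_of_injective (f := (Submodule.span (Γo B) {m}).subtype) Subtype.val_injective
    (Module.associatedPrimes.minimalPrimes_annihilator_subset_associatedPrimes (Γo B) (Submodule.span (Γo B) {m}) hm)
  obtain ⟨-, y, hy⟩ := isAssociatedPrime_iff.1 hass
  refine ⟨y, ?_⟩
  have he : annSect y = primeAtPt B.obj.left.left b := by
    rw [hy]
    ext a
    rw [mem_annSect_iff, Submodule.mem_colon_singleton, Submodule.mem_bot]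
    rfl
  rw [he]
  exact ⟨le_rfl, fun q _ h _ => h⟩

end Groth.Agent.QcohEt15
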