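import Groth.Agent.Lib.QcohEt15.Vanish
import Groth.Prelude.Def_AlgSpDec

/-!
# Direct images preserve injective abelian sheaves
-/

universe u

set_option backward.isDefEq.respectTransparency false
set_option backward.isDefEq.respectTransparency.types false

open CategoryTheory CategoryTheory.Limits AlgebraicGeometry Opposite

namespace Groth.Agent.QcohEt15

open AlgSp Groth.Agent.AlgSpEt

variable {S : Scheme.{u}} {X Y : Sp S}

section Sky

variable (hX : IsAlgSpace X) (p : FieldPt X) (hp : p.IsGeometric)

/-- The skyscraper sheaf at a geometric point. -/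
noncomputable abbrev sky (D : AddCommGrpCat.{u + 1}) : AbEt X :=
  (etPoint hX p hp).skyscraperSheafFunctor.obj D

theorem injective_sky (D : AddCommGrpCat.{u + 1}) [Injective D] : Injective (sky hX p hp D) := by
  have : PreservesFiniteLimits ((etPoint hX p hp).sheafFiber (A := AddCommGrpCat.{u + 1})) :=
    preservesFiniteLimits_stalk_ab hX p hp
  exact Injective.injective_of_adjoint (etPoint hX p hp).skyscraperSheafAdjunction D

/-- A sheaf to the skyscraper at a point of the injective hull of its stalk. -/
noncomputable def toSky (F : AbEt X) :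
    F ⟶ sky hX p hp (Injective.under (stalkEt p F)) :=
  ⟨(etPoint hX p hp).skyscraperPresheafHomEquiv
    (show (etPoint hX p hp).presheafFiber.obj F.obj ⟶ _ from Injective.ι (stalkEt p F))⟩

theorem stalkEtι_eq_zero_of_toSky (F : AbEt X) (E : EtOver X) (l : (FieldPt.liftsTo p).obj E)
    (s : F.obj.obj (op E)) (h : (toSky hX p hp F).hom.app (op E) s = 0) :
    (stalkEtι p F ⟨E, l⟩).hom s = 0 := by
  have e := (etPoint hX p hp).skyscraperPresheafHomEquiv_app_π
    (show (etPoint hX p hp).presheafFiber.obj F.obj ⟶ _ from Injective.ι (stalkEt p F)) E l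
  have e' := ConcreteCategory.congr_hom e s
  refine (AddCommGrpCat.mono_iff_injective (Injective.ι (stalkEt p F))).1 inferInstance ?_
  rw [map_zero]
  refine Eq.trans e'.symm ?_
  exact (congrArg (Pi.π (fun _ : (etPoint hX p hp).fiber.obj E => Injective.under (stalkEt p F)) l) h).trans (map_zero _)

end Sky

/-- Geometric points. -/
abbrev GeomPt (X : Sp S) : Type (u + 1) := {p : FieldPt X // p.IsGeometric}

/-- The product of the skyscrapers of the injective hulls of the stalks. -/
noncomputable abbrev godement (hX : IsAlgSpace X) (F : AbEt X) : AbEt X :=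
  ∏ᶜ fun q : GeomPt X => sky hX q.1 q.2 (Injective.under (stalkEt q.1 F))

/-- The map to the product of skyscrapers. -/
noncomputable def toGodement (hX : IsAlgSpace X) (F : AbEt X) : F ⟶ godement hX F :=
  Pi.lift fun q => toSky hX q.1 q.2 F

theorem mono_toGodement (hX : IsAlgSpace X) (F : AbEt X) : Mono (toGodement hX F) := by
  have : ∀ V, Mono ((toGodement hX F).hom.app V) := fun V => by
    refine (AddCommGrpCat.mono_iff_injective _).2 ((injective_iff_map_eq_zero _).2 fun s hs => ?_)
    refine section_ext_of_stalks hX F fun p hp l => (stalkEtι_eq_zero_of_toSky hX p hp F V.unop l s ?_).trans (map_zero _).symm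
    have e : toGodement hX F ≫ Pi.π _ (⟨p, hp⟩ : GeomPt X) = toSky hX p hp F := Pi.lift_π _ _
    rw [← e, ObjectProperty.FullSubcategory.comp_hom, NatTrans.comp_app, ConcreteCategory.comp_apply]
    exact (congrArg _ hs).trans (map_zero _)
  have : Mono ((sheafToPresheaf _ _).map (toGodement hX F)) := NatTrans.mono_of_mono_app (toGodement hX F).hom
  exact (sheafToPresheaf _ _).mono_of_mono_map this

section Push

variable {f : X ⟶ Y} (hf : Representable f) (p : FieldPt X)

/-- Lifts to a base change are lifts of the image point. -/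
noncomputable def liftsBcEquiv (V : EtOver Y) :
    (FieldPt.liftsTo (p.map f)).obj V ≅ (FieldPt.liftsTo p).obj (EtOver.bcObj hf V) :=
  Equiv.toIso
  { toFun := fun g =>
      ⟨(yon S).preimage ((EtOver.isPullback_bcObj hf V).lift p.toHom ((yon S).map g.1)
        (by rw [g.2, FieldPt.toHom_map])), by
        rw [Functor.map_preimage]
        exact IsPullback.lift_fst _ _ _ _⟩
    invFun := fun u => ⟨u.1 ≫ EtOver.bcπ hf V, by
      rw [Functor.map_comp, Category.assoc, ← (EtOver.isPullback_bcObj hf V).w, ← Category.assoc, u.2,
        FieldPt.toHom_map]⟩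
    left_inv := fun g => Subtype.ext ((yon S).map_injective (by
      rw [Functor.map_comp, Functor.map_preimage]
      exact IsPullback.lift_snd _ _ _ _))
    right_inv := fun u => Subtype.ext ((yon S).map_injective (by
      rw [Functor.map_preimage]
      refine (EtOver.isPullback_bcObj hf V).hom_ext ?_ ?_
      · rw [IsPullback.lift_fst]; exact u.2.symm
      · rw [IsPullback.lift_snd, Functor.map_comp])) }

/-- Lifts to base changes, naturally. -/
noncomputable def liftsBcIso :
    FieldPt.liftsTo (p.map f) ≅ EtOver.bc hf ⋙ FieldPt.liftsTo p :=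
  (NatIso.ofComponents (fun V => (liftsBcEquiv hf p V).symm) fun {V V'} g => by
    refine ConcreteCategory.hom_ext _ _ fun u => Subtype.ext ?_
    change (u.1 ≫ (EtOver.bcMap hf g).hom.left) ≫ EtOver.bcπ hf V' = (u.1 ≫ EtOver.bcπ hf V) ≫ g.hom.left
    rw [Category.assoc, Category.assoc, EtOver.bcMap_snd]).symm

variable (hX : IsAlgSpace X) (hY : IsAlgSpace Y) (hp : p.IsGeometric)

/-- The direct image of a skyscraper is a skyscraper. -/
noncomputable def pushSkyIso (D : AddCommGrpCat.{u + 1}) :
    (pushEt hf AddCommGrpCat.{u + 1}).obj (sky hX p hp D) ≅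
      sky hY (p.map f) (show (p.map f).IsGeometric from hp) D :=
  (fullyFaithfulSheafToPresheaf _ _).preimageIso
    (((flipFunctor _ _ _).mapIso (Functor.isoWhiskerRight (NatIso.op (liftsBcIso hf p))
      (piFunctor.{u} (C := AddCommGrpCat.{u + 1})).flip)).app D)

end Push

theorem injective_pushEt (hX : IsAlgSpace X) (hY : IsAlgSpace Y) {f : X ⟶ Y} (hf : Representable f)
    (I : AbEt X) [Injective I] : Injective ((pushEt hf AddCommGrpCat.{u + 1}).obj I) := by
  have := mono_toGodement hX I
  let G := pushEt hf AddCommGrpCat.{u + 1}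
  have hJ : Injective (G.obj (godement hX I)) := by
    have : ∀ q : GeomPt X, Injective (G.obj (sky hX q.1 q.2 (Injective.under (stalkEt q.1 I)))) := fun q =>
      Injective.of_iso (pushSkyIso hf q.1 hX hY q.2 _).symm (injective_sky hY (q.1.map f) q.2 _)
    exact Injective.of_iso (PreservesProduct.iso G fun q : GeomPt X => sky hX q.1 q.2 (Injective.under (stalkEt q.1 I))).symm
      inferInstance
  let r : Retract I (godement hX I) :=
    { i := toGodement hX I, r := Injective.factorThru (𝟙 I) (toGodement hX I), retract := Injective.comp_factorThru _ _ }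
  exact (r.map G).injective

end Groth.Agent.QcohEt15
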