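import Groth.Agent.Lib.QcohEt15.Sub
import Groth.Agent.Lib.QcohEt15.Nbhd
import Groth.Agent.Lib.AlgSpace.Points

/-!
# Quasi-coherence and finiteness of the submodule cut out by a chart
-/

universe u v w

set_option backward.isDefEq.respectTransparency false

open CategoryTheory CategoryTheory.Limits AlgebraicGeometry Opposite TensorProduct

namespace Groth.Agent.QcohEt15

open AlgSp Groth.Agent.AlgSpace

theorem mem_range_lTensor_iInf_ker {A : Type*} [CommRing A] {T : Type*} [AddCommGroup T] [Module A T]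
    [Module.Flat A T] {P : Type*} [AddCommGroup P] [Module A P] {κ : Type*} [Finite κ] {Q : κ → Type*}
    [∀ i, AddCommGroup (Q i)] [∀ i, Module A (Q i)] (f : ∀ i, P →ₗ[A] Q i) (z : T ⊗[A] P)
    (h : ∀ i, (f i).lTensor T z = 0) : z ∈ Set.range ((⨅ i, (f i).ker).subtype.lTensor T) := by
  classical
  have := Fintype.ofFinite κ
  have h0 : (LinearMap.pi f).lTensor T z = 0 := by
    apply (TensorProduct.piRight A A T Q).injective
    rw [map_zero]
    funext i
    rw [Pi.zero_apply, ← h i]
    clear h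
    induction z using TensorProduct.induction_on with
    | zero => simp
    | tmul a n => simp
    | add x y hx hy => simp only [map_add, Pi.add_apply, hx, hy]
  rw [← LinearMap.ker_pi]
  obtain ⟨y, hy⟩ := (Module.Flat.lTensor_exact T (LinearMap.exact_subtype_ker_map (LinearMap.pi f)) z).1 h0
  exact ⟨y, hy⟩

variable {S : Scheme.{u}} {X : Sp S} {M : ModEt X}

theorem squareMap_resP₀ {E E' E₀ : EtOver X} [IsAffine E.obj.left.left] [IsAffine E'.obj.left.left]
    [IsAffine E₀.obj.left.left] (f : E' ⟶ E) (h : E₀ ⟶ E) (z : Tw f ⊗[Γo E] sectModEt M E) :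
    squareMap f h ((resP₀ M h).lTensor (Tw f) z) =
      res M (EtOver.pullbackFst f h) (lift f (LinearMap.id : sectModEt M E →ₗ[Γo E] _) z) := by
  induction z using TensorProduct.induction_on with
  | zero => simp
  | tmul c m =>
    rw [LinearMap.lTensor_tmul, squareMap_tmul, lift_tmul, res_smul, ← res_comp]
    change _ • res M (EtOver.pullbackSnd f h) (res M h m) = _ • res M (EtOver.pullbackFst f h ≫ f) m
    rw [← res_comp, EtOver.pullback_condition]
  | add x y hx hy => simp only [map_add, hx, hy]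

theorem finite_tw_tensor {E Z : EtOver X} (g : Z ⟶ E) (P : Type v) [AddCommGroup P] [Module (Γo E) P]
    [Module.Finite (Γo E) P] : Module.Finite (Γo Z) (Tw g ⊗[Γo E] P) := by
  classical
  obtain ⟨G, hG⟩ := Module.Finite.fg_top (R := Γo E) (M := P)
  refine Module.Finite.of_fg_top ⟨G.image ((1 : Tw g) ⊗ₜ[Γo E] ·), eq_top_iff.2 fun z _ => ?_⟩
  induction z using TensorProduct.induction_on with
  | zero => exact zero_mem _
  | tmul a p =>
    have hp : p ∈ Submodule.span (Γo E) (G : Set P) := hG ▸ Submodule.mem_top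
    clear hG
    induction hp using Submodule.span_induction generalizing a with
    | mem q hq =>
      have : a ⊗ₜ[Γo E] q = (Tw.out a) • ((1 : Tw g) ⊗ₜ[Γo E] q) := by
        rw [TensorProduct.smul_tmul']
        congr 1
        exact (mul_one (Tw.out a)).symm
      rw [this]
      exact Submodule.smul_mem _ _ (Submodule.subset_span (by simpa using ⟨q, hq, rfl⟩))
    | zero => rw [TensorProduct.tmul_zero]; exact zero_mem _
    | add x y _ _ hx hy => rw [TensorProduct.tmul_add]; exact add_mem (hx a trivial) (hy a trivial)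
    | smul r x _ hx => rw [← TensorProduct.smul_tmul]; exact hx _ trivial
  | add x y hx hy => exact add_mem (hx trivial) (hy trivial)

variable {U : EtOver X} (N : Submodule (Γo U) (sectModEt M U))

/-- Sections on `W` in the span of `N`, seen on `E`. -/
noncomputable def pushSpan {E W : EtOver X} (k : W ⟶ E) (t : W ⟶ U) : Submodule (Γo E) (Push M k) where
  carrier := {m | Push.out m ∈ Set.range (lift t N.subtype)}
  add_mem' {a b} ha hb := by
    obtain ⟨x, hx⟩ := ha
    obtain ⟨y, hy⟩ := hb
    exact ⟨x + y, by rw [map_add, hx, hy]; rfl⟩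
  zero_mem' := ⟨0, map_zero _⟩
  smul_mem' r {a} ha := by
    obtain ⟨x, hx⟩ := ha
    exact ⟨γ k r • x, by rw [lift_smul, hx, Push.smul_out]⟩

variable [IsAffine U.obj.left.left]

theorem exists_squareMap_pushSpan {E E' W : EtOver X} [IsAffine E.obj.left.left] [IsAffine E'.obj.left.left]
    [IsAffine W.obj.left.left] (g : E' ⟶ E) (k : W ⟶ E) (t : W ⟶ U)
    (x : Tw (EtOver.pullbackSnd g k ≫ t) ⊗[Γo U] N) :
    ∃ y : Tw g ⊗[Γo E] pushSpan N k t,
      squareMap g k ((pushSpan N k t).subtype.lTensor (Tw g) y) = lift (EtOver.pullbackSnd g k ≫ t) N.subtype x := by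
  induction x using TensorProduct.induction_on with
  | zero => exact ⟨0, by simp⟩
  | tmul c n =>
    obtain ⟨μ, hμ, hμt⟩ := exists_mulMap g k
    obtain ⟨q, hq⟩ := hμ.2 (Tw.out c)
    rw [lift_tmul, ← hq]
    clear hq
    induction q using TensorProduct.induction_on with
    | zero => exact ⟨0, by rw [map_zero, map_zero, map_zero, zero_smul]⟩
    | tmul p d =>
      let m : pushSpan N k t := ⟨(Tw.out d • res M t n.1 : sectModEt M W),
        ⟨Tw.mk t (Tw.out d) ⊗ₜ n, by rw [lift_tmul]; rfl⟩⟩
      refine ⟨p ⊗ₜ m, ?_⟩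
      rw [LinearMap.lTensor_tmul, squareMap_tmul, hμt, mul_smul]
      congr 1
      change res M (EtOver.pullbackSnd g k) (Tw.out d • res M t n.1) = _
      rw [res_smul, ← res_comp]
      rfl
    | add a b ha hb =>
      obtain ⟨y, hy⟩ := ha
      obtain ⟨z, hz⟩ := hb
      exact ⟨y + z, by rw [map_add, map_add, hy, hz, map_add, add_smul]⟩
  | add a b ha hb =>
    obtain ⟨y, hy⟩ := ha
    obtain ⟨z, hz⟩ := hb
    exact ⟨y + z, by rw [map_add, map_add, hy, hz, map_add]⟩

variable (hU : Good M U)

/-- A section locally in the span, as a section of the submodule. -/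
noncomputable def toLoc {E : EtOver X} (s : sectModEt M E) (h : InLoc N s) : sectModEt (locSub N hU) E := ⟨s, h⟩

theorem appₗ_toLoc {E : EtOver X} (s : sectModEt M E) (h : InLoc N s) :
    appₗ (locι N hU) E (toLoc N hU s h) = s := rfl

include hU in
theorem good_locSub [QuasiSeparatedSpace ↥S] (hqs : IsQuasiSeparatedSp X) {E : EtOver X} [IsAffine E.obj.left.left]
    (hE : Good M E) : Good (locSub N hU) E := by
  intro E' _ g
  have := Tw.flat g
  have hinj : Function.Injective ((appₗ (locι N hU) E).lTensor (Tw g)) :=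
    Module.Flat.lTensor_preserves_injective_linearMap _ (appₗ_injective _ E)
  refine ⟨fun a b e => hinj ((hE g).1 ?_), fun w => ?_⟩
  · rw [← lift_appₗ_id, ← lift_appₗ_id, e]
  obtain ⟨z, hz⟩ := (hE g).2 (appₗ (locι N hU) E' w)
  have hw : InLoc N (appₗ (locι N hU) E' w) := (appₗ_locι_range N hU _).1 ⟨w, rfl⟩
  obtain ⟨κ, hκ, W, hW, k, t, hc⟩ := exists_pair_cover hqs E U
  let f : ∀ i, sectModEt M E →ₗ[Γo E] (Push M (k i) ⧸ pushSpan N (k i) (t i)) := fun i =>
    (pushSpan N (k i) (t i)).mkQ ∘ₗ resP₀ M (k i)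
  have hK : ∀ s ∈ ⨅ i, (f i).ker, InLoc N s := fun s hs =>
    inLoc_of_pairs N hU s hW k t hc fun i =>
      (Submodule.Quotient.mk_eq_zero _).1 (LinearMap.mem_ker.1 ((Submodule.mem_iInf _).1 hs i))
  have h0 : ∀ i, (f i).lTensor (Tw g) z = 0 := fun i => by
    have := hW i
    let P := EtOver.pullbackObj g (k i)
    have : IsAffine P.obj.left.left := inferInstance
    obtain ⟨x, hx⟩ := hw (EtOver.pullbackFst g (k i)) (EtOver.pullbackSnd g (k i) ≫ t i)
    obtain ⟨y, hy⟩ := exists_squareMap_pushSpan N g (k i) (t i) x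
    have he : (resP₀ M (k i)).lTensor (Tw g) z = (pushSpan N (k i) (t i)).subtype.lTensor (Tw g) y :=
      (squareMap_bijective g (k i) ((hE (k i) |> fun h1 => BC.cancel h1 (hE _)))).1
        (by rw [squareMap_resP₀, hz, hy, hx])
    rw [LinearMap.lTensor_comp_apply, he, ← LinearMap.lTensor_comp_apply,
      show (pushSpan N (k i) (t i)).mkQ ∘ₗ (pushSpan N (k i) (t i)).subtype = 0 from
        LinearMap.ext fun a => (Submodule.Quotient.mk_eq_zero _).2 a.2, LinearMap.lTensor_zero]
    rfl
  obtain ⟨y, hy⟩ := mem_range_lTensor_iInf_ker f z h0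
  let j : (⨅ i, (f i).ker : Submodule _ _) →ₗ[Γo E] sectModEt (locSub N hU) E :=
    { toFun := fun s => toLoc N hU s.1 (hK s.1 s.2)
      map_add' := fun a b => appₗ_injective (locι N hU) E (by rw [map_add]; rfl)
      map_smul' := fun r a => appₗ_injective (locι N hU) E (by rw [RingHom.id_apply, map_smul]; rfl) }
  refine ⟨j.lTensor (Tw g) y, appₗ_injective (locι N hU) E' ?_⟩
  rw [lift_appₗ_id, ← LinearMap.lTensor_comp_apply,
    show appₗ (locι N hU) E ∘ₗ j = (⨅ i, (f i).ker).subtype from LinearMap.ext fun _ => rfl, hy, hz]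

include hU in
theorem finite_locSub_chart [IsNoetherianRing (Γo U)] (hN : N.FG) :
    Module.Finite (Γo U) (sectModEt (locSub N hU) U) := by
  have : Module.Finite (Γo U) N := Module.Finite.iff_fg.2 hN
  have hmem : ∀ s, appₗ (locι N hU) U s ∈ N := fun s => mem_of_inLoc N _ ((appₗ_locι_range N hU _).1 ⟨s, rfl⟩)
  exact Module.Finite.of_injective ((appₗ (locι N hU) U).codRestrict N hmem)
    (fun a b e => appₗ_injective (locι N hU) U (congrArg (fun q : N => q.1) e))

include hU in
theorem isFinitePresentation_locSub [QuasiSeparatedSpace ↥S] (hqs : IsQuasiSeparatedSp X) (hX : IsLocNoethSp X)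
    (hM : ∀ (E : EtOver X) [IsAffine E.obj.left.left], Good M E)
    (hUs : Function.Surjective (Points.ofPt U.obj.hom)) (hN : N.FG) :
    (locSub N hU).IsFinitePresentation := by
  have hg : ∀ (E : EtOver X) [IsAffine E.obj.left.left], Good (locSub N hU) E := fun E _ =>
    good_locSub N hU hqs (hM E)
  refine isFinitePresentation_of_finite hX hg fun E _ => ?_
  have := isNoetherianRing_Γo hX U
  have hfU := finite_locSub_chart N hU hN
  choose u hu using fun v : ↥E.obj.left.left => hUs (Points.ofPt E.obj.hom v)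
  choose W hW k₁ k₂ w hw₁ hw₂ using fun v : ↥E.obj.left.left => exists_common_affine v (u v) (hu v).symm
  refine finite_of_cover (hg E) (Sieve.generate (Presieve.ofArrows W k₁))
    (ofArrows_mem_etTop W k₁ fun v => ⟨v, w v, hw₁ v⟩) fun Z _ g hg' => ?_
  obtain ⟨Y, a, b, ⟨v⟩, rfl⟩ := hg'
  have := finite_tw_tensor (a ≫ k₂ v) (sectModEt (locSub N hU) U)
  exact Module.Finite.of_surjective
    (M := Tw (a ≫ k₂ v) ⊗[Γo U] sectModEt (locSub N hU) U) (liftₗ (a ≫ k₂ v) LinearMap.id) (hg U (a ≫ k₂ v)).2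

end Groth.Agent.QcohEt15
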