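import Groth.Agent.Lib.QcohEt15.CechGood
import Groth.Agent.Lib.QcohEt15.Push
import Groth.Agent.Lib.RDerLES.Horseshoe
import Groth.Agent.Lib.AlgSpace.DVRSeparated
import Mathlib.CategoryTheory.Sites.SheafCohomology.Basic

/-!
# Vanishing of cohomology and higher direct images for sheaves with exact Čech complexes
-/

universe u

set_option backward.isDefEq.respectTransparency false
set_option backward.isDefEq.respectTransparency.types false

open CategoryTheory CategoryTheory.Limits AlgebraicGeometry Opposite Abelian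

namespace Groth.Agent.QcohEt15

open AlgSp

variable {S : Scheme.{u}} {X : Sp S}

/-- The short exact sequence of an injective embedding. -/
noncomputable abbrev injSeq (F : AbEt X) : ShortComplex (AbEt X) :=
  ShortComplex.mk (Injective.ι F) (cokernel.π (Injective.ι F)) (cokernel.condition _)

theorem injSeq_shortExact (F : AbEt X) : (injSeq F).ShortExact :=
  { exact := ShortComplex.exact_of_g_is_cokernel _ (cokernelIsCokernel _) }

theorem acycAff_injSeq₃ {F : AbEt X} (hF : AcycAff F) : AcycAff (injSeq F).X₃ :=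
  acycAff_X₃ (injSeq_shortExact F) hF (acycAff_of_injective _)

theorem exists_constant_lift_et {E₁ : EtOver X} (ht : IsTerminal E₁) {G Q : AbEt X} (π : G ⟶ Q)
    (h : Function.Surjective (π.hom.app (op E₁)))
    (f : (constantSheaf (etTop X) AddCommGrpCat.{u + 1}).obj (AddCommGrpCat.of (ULift.{u + 1} ℤ)) ⟶ Q) :
    ∃ g, g ≫ π = f := by
  let A := constantSheafAdj (etTop X) AddCommGrpCat.{u + 1} ht
  obtain ⟨t, ht'⟩ := h ((A.homEquiv _ _ f) (ULift.up 1))
  refine ⟨(A.homEquiv _ _).symm (AddCommGrpCat.ofHom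
    ((zmultiplesHom _ t).comp (AddEquiv.ulift.{0, u + 1}).toAddMonoidHom)), (A.homEquiv _ _).injective ?_⟩
  rw [A.homEquiv_naturality_right, Equiv.apply_symm_apply]
  refine ConcreteCategory.hom_ext _ _ fun ⟨k⟩ => ?_
  show π.hom.app _ (k • t) = _
  rw [map_zsmul, ht']
  refine (map_zsmul ((A.homEquiv _ Q) f).hom k (ULift.up 1)).symm.trans (congrArg _ ?_)
  ext
  simp

theorem subsingleton_HEt_of_acycAff {E₁ : EtOver X} [IsAffine E₁.obj.left.left] (ht : IsTerminal E₁) :
    ∀ (n : ℕ) (F : AbEt X), AcycAff F → Subsingleton (HEt X F (n + 1)) := by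
  intro n
  induction n with
  | zero =>
    intro F hF
    refine subsingleton_of_forall_eq 0 fun x => ?_
    obtain ⟨y, rfl⟩ := Ext.covariant_sequence_exact₁ _ (injSeq_shortExact F) x (Ext.eq_zero_of_injective _)
      (n₀ := 0) rfl
    obtain ⟨f, rfl⟩ := (Ext.mk₀_bijective _ _).2 y
    obtain ⟨g, hg⟩ := exists_constant_lift_et ht (injSeq F).g
      (surjective_of_acycAff (injSeq_shortExact F) hF E₁) f
    rw [← hg, ← Ext.mk₀_comp_mk₀, Ext.comp_assoc_of_second_deg_zero, (injSeq_shortExact F).comp_extClass, Ext.comp_zero]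
  | succ n ih =>
    intro F hF
    refine subsingleton_of_forall_eq 0 fun x => ?_
    obtain ⟨y, rfl⟩ := Ext.covariant_sequence_exact₁ _ (injSeq_shortExact F) x (Ext.eq_zero_of_injective _)
      (n₀ := n + 1) rfl
    rw [(ih _ (acycAff_injSeq₃ hF)).elim y 0, Ext.zero_comp]

/-- An isomorphism with a representable sheaf gives a final object of the site. -/
theorem exists_terminal_of_iso {T : Over S} (hT : IsAffine T.left) (e : (yon S).obj T ≅ X) :
    ∃ (E₁ : EtOver X) (_ : IsAffine E₁.obj.left.left), Nonempty (IsTerminal E₁) := by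
  let E₁ : EtOver X := EtOver.mk e.hom (AlgSpace.repWith_of_isIso _ e.hom)
  refine ⟨E₁, hT, ⟨IsTerminal.ofUniqueHom (fun W => EtOver.homMk ((yon S).preimage (W.obj.hom ≫ e.inv)) ?_)
    fun W g => EtOver.hom_ext _ _ ((yon S).map_injective ?_)⟩⟩
  · change (yon S).map _ ≫ e.hom = _
    rw [Functor.map_preimage, Category.assoc, e.inv_hom_id, Category.comp_id]
  · refine Eq.trans ?_ ((yon S).map_preimage _).symm
    have : (yon S).map g.hom.left ≫ e.hom = W.obj.hom := EtOver.w g
    rw [← this, Category.assoc, e.hom_inv_id]; exact (Category.comp_id _).symm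

section Rpush

variable {Y : Sp S} {f : X ⟶ Y} (hf : Representable f) (haff : IsAffineMor f)

include haff in
theorem epi_push_map {T : ShortComplex (AbEt X)} (hT : T.ShortExact) (h1 : AcycAff T.X₁) :
    Epi ((pushEt hf AddCommGrpCat.{u + 1}).map T.g) := by
  refine (Sheaf.isLocallySurjective_iff_epi' _ _).1 ⟨fun {V} s => ?_⟩
  refine (etTop Y).superset_covering ?_ (ofArrows_mem_etTop
    (fun O : V.obj.left.left.affineOpens => AlgSpEt14.openSub V O.1) (fun O => AlgSpEt14.openSubι V O.1) fun x => ?_)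
  · rw [Sieve.generate_le_iff]
    rintro Z k ⟨O⟩
    have : IsAffine (AlgSpEt14.openSub V O.1).obj.left.left := O.2
    have := isAffine_bcObj hf haff (AlgSpEt14.openSub V O.1)
    exact surjective_of_acycAff hT h1 (EtOver.bcObj hf (AlgSpEt14.openSub V O.1)) _
  · obtain ⟨W, hW, hxW, -⟩ := V.obj.left.left.isBasis_affineOpens.exists_subset_of_mem_open (Set.mem_univ x) isOpen_univ
    obtain ⟨W, hW', rfl⟩ := hW
    exact ⟨⟨W, hW'⟩, (AlgSpEt14.range_openSubι V W).ge hxW⟩

include haff in
theorem isZero_rpushEt_of_acycAff [PreservesFiniteLimits (pushEt hf AddCommGrpCat.{u + 1})] :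
    ∀ (n : ℕ) (F : AbEt X), AcycAff F → IsZero ((RpushEt hf (n + 1)).obj F) := by
  obtain ⟨L⟩ := RDerLES.nonempty_derivedLES (pushEt hf AddCommGrpCat.{u + 1})
  have hstep : ∀ (n : ℕ) (F : AbEt X), L.δ (injSeq F) (injSeq_shortExact F) n (n + 1) rfl = 0 →
      IsZero ((RpushEt hf (n + 1)).obj F) := fun n F h => by
    have hI : IsZero (((pushEt hf AddCommGrpCat.{u + 1}).rightDerived (n + 1)).obj (injSeq F).X₂) :=
      Functor.isZero_rightDerived_obj_injective_succ _ _ _
    exact (L.exact₁ (injSeq F) (injSeq_shortExact F) n (n + 1) rfl).isZero_X₂ h (hI.eq_of_tgt _ _)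
  intro n
  induction n with
  | zero =>
    intro F hF
    refine hstep 0 F ?_
    let G := pushEt hf AddCommGrpCat.{u + 1}
    have hg : Epi ((G.rightDerived 0).map (injSeq F).g) := by
      have := epi_push_map hf haff (injSeq_shortExact F) hF
      rw [← NatIso.naturality_2 G.rightDerivedZeroIsoSelf (injSeq F).g]
      infer_instance
    exact (cancel_epi ((G.rightDerived 0).map (injSeq F).g)).1 (by rw [L.comp_δ, comp_zero])
  | succ n ih =>
    intro F hF
    exact hstep (n + 1) F ((ih _ (acycAff_injSeq₃ hF)).eq_of_src _ _)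

end Rpush

end Groth.Agent.QcohEt15
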